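import Mathlib
import Cfsg.Agent.Lib.H21.CharCore

/-!
Representations with equal characters are equivalent.
-/

namespace Cfsg.Agent.H01

open Cfsg Cfsg.Agent.H21 Module Representation

universe u v w

section

variable {G : Type u} [Group G] [Finite G]

theorem exists_irr_subrep {V : Type v} [AddCommGroup V] [Module ℂ V] [FiniteDimensional ℂ V]
    [Nontrivial V] (ρ : Representation ℂ G V) :
    ∃ U : Subrepresentation ρ, U.toRepresentation.IsIrreducible := by
  classical
  have hex : ∃ n : ℕ, ∃ U : Subrepresentation ρ, U ≠ ⊥ ∧ finrank ℂ U.toSubmodule = n := by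
    refine ⟨_, ⊤, ?_, rfl⟩
    intro h
    have := congrArg Subrepresentation.toSubmodule h
    exact (bot_ne_top : (⊥ : Submodule ℂ V) ≠ ⊤) this.symm
  obtain ⟨U, hU, hUn⟩ := Nat.find_spec hex
  have hmin : ∀ T : Subrepresentation ρ, T ≠ ⊥ → finrank ℂ U.toSubmodule ≤ finrank ℂ T.toSubmodule := by
    intro T hT
    rw [hUn]
    exact Nat.find_min' hex ⟨T, hT, rfl⟩
  have hUne : U.toSubmodule ≠ ⊥ := by
    intro h
    apply hU
    apply Subrepresentation.toSubmodule_injective
    exact h
  refine ⟨U, ?_⟩
  haveI : Nontrivial U.toSubmodule := (Submodule.nontrivial_iff_ne_bot).mpr hUne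
  have hnt : Nontrivial (Subrepresentation U.toRepresentation) := by
    refine ⟨⟨⊥, ⊤, ?_⟩⟩
    intro h
    have := congrArg Subrepresentation.toSubmodule h
    exact (bot_ne_top : (⊥ : Submodule ℂ U.toSubmodule) ≠ ⊤) this
  refine { eq_bot_or_eq_top := fun T => ?_ }
  by_cases hT : T = ⊥
  · exact Or.inl hT
  · right
    let T' : Subrepresentation ρ :=
      { toSubmodule := T.toSubmodule.map U.toSubmodule.subtype
        apply_mem_toSubmodule := by
          rintro g _ ⟨x, hx, rfl⟩
          exact ⟨_, T.apply_mem_toSubmodule g hx, rfl⟩ }
    have hT' : T' ≠ ⊥ := by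
      intro h
      apply hT
      apply Subrepresentation.toSubmodule_injective
      have h1 : T.toSubmodule.map U.toSubmodule.subtype = ⊥ := congrArg Subrepresentation.toSubmodule h
      apply Submodule.map_injective_of_injective U.toSubmodule.subtype_injective
      rw [h1]
      exact (Submodule.map_bot _).symm
    have h1 := hmin T' hT'
    have h2 : finrank ℂ T'.toSubmodule = finrank ℂ T.toSubmodule :=
      (Submodule.equivMapOfInjective U.toSubmodule.subtype U.toSubmodule.subtype_injective T.toSubmodule).finrank_eq.symm
    apply Subrepresentation.toSubmodule_injective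
    apply Submodule.eq_top_of_finrank_eq
    apply le_antisymm (Submodule.finrank_le _)
    rw [h2] at h1
    exact h1

theorem isCompl_toSubmodule {V : Type v} [AddCommGroup V] [Module ℂ V] {ρ : Representation ℂ G V}
    {S S' : Subrepresentation ρ} (hc : IsCompl S S') : IsCompl S.toSubmodule S'.toSubmodule := by
  constructor
  · rw [disjoint_iff]
    have := hc.inf_eq_bot
    exact congrArg Subrepresentation.toSubmodule this
  · rw [codisjoint_iff]
    have := hc.sup_eq_top
    exact congrArg Subrepresentation.toSubmodule this

theorem character_eq_add_of_isCompl {V : Type v} [AddCommGroup V] [Module ℂ V]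
    [FiniteDimensional ℂ V] {ρ : Representation ℂ G V}
    {S S' : Subrepresentation ρ} (hc : IsCompl S S') :
    ρ.character = S.toRepresentation.character + S'.toRepresentation.character := by
  funext g
  exact trace_eq_add_of_isCompl _ _ (isCompl_toSubmodule hc) (ρ g)
    (fun x hx => S.apply_mem_toSubmodule g hx) (fun x hx => S'.apply_mem_toSubmodule g hx)

theorem equiv_of_character_eq_aux (n : ℕ) :
    ∀ (V : Type v) [AddCommGroup V] [Module ℂ V] [FiniteDimensional ℂ V]
      (W : Type w) [AddCommGroup W] [Module ℂ W] [FiniteDimensional ℂ W]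
      (ρ : Representation ℂ G V) (σ : Representation ℂ G W), finrank ℂ V = n →
      ρ.character = σ.character → Nonempty (ρ.Equiv σ) := by
  induction n using Nat.strong_induction_on with
  | _ n ih =>
    intro V _ _ _ W _ _ _ ρ σ hn hχ
    classical
    haveI := Fintype.ofFinite G
    by_cases hV : Subsingleton V
    · have h0 : finrank ℂ V = 0 := finrank_zero_of_subsingleton
      have h1 : finrank ℂ W = 0 := by
        have h2 := congrFun hχ 1
        rw [Representation.char_one, Representation.char_one, h0] at h2
        exact_mod_cast h2.symm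
      haveI : Subsingleton W := finrank_zero_iff.mp h1
      exact ⟨Representation.Equiv.mk (LinearEquiv.ofSubsingleton V W) (fun g => Subsingleton.elim _ _)⟩
    rw [not_subsingleton_iff_nontrivial] at hV
    obtain ⟨U, hU⟩ := exists_irr_subrep ρ
    haveI := hU
    haveI : Invertible (Nat.card G : ℂ) := invertibleOfNonzero (by simp [Nat.card_pos.ne'])
    have key := card_inv_mul_sum_char_mul_char_eq_finrank U.toRepresentation ρ
    have key' := card_inv_mul_sum_char_mul_char_eq_finrank U.toRepresentation σ
    rw [hχ, key'] at key
    have hfr : finrank ℂ (IntertwiningMap U.toRepresentation σ) =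
        finrank ℂ (IntertwiningMap U.toRepresentation ρ) := by exact_mod_cast key
    -- the inclusion
    let i : IntertwiningMap U.toRepresentation ρ := ⟨U.toSubmodule.subtype, fun g => by
      ext x
      rfl⟩
    have hU0 : Nontrivial U.toSubmodule := by
      by_contra h
      rw [not_nontrivial_iff_subsingleton] at h
      obtain ⟨a, b, hab⟩ := (inferInstance : Nontrivial (Subrepresentation U.toRepresentation)).exists_pair_ne
      apply hab
      apply Subrepresentation.toSubmodule_injective
      exact Subsingleton.elim _ _
    have hi : i ≠ 0 := by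
      intro h
      obtain ⟨x, hx⟩ := exists_ne (0 : U.toSubmodule)
      have h1 : (x : V) = 0 := by
        have := congrArg (fun f : IntertwiningMap U.toRepresentation ρ => f x) h
        exact this
      exact hx (Subtype.ext h1)
    have hpos : finrank ℂ (IntertwiningMap U.toRepresentation ρ) ≠ 0 := by
      haveI : Nontrivial (IntertwiningMap U.toRepresentation ρ) := ⟨⟨i, 0, hi⟩⟩
      exact finrank_pos.ne'
    have hne : ¬ Subsingleton (IntertwiningMap U.toRepresentation σ) := by
      intro h
      rw [finrank_zero_of_subsingleton] at hfr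
      exact hpos hfr.symm
    rw [not_subsingleton_iff_nontrivial] at hne
    obtain ⟨f, hf⟩ := exists_ne (0 : IntertwiningMap U.toRepresentation σ)
    have hinj : Function.Injective f :=
      (Representation.IsIrreducible.injective_or_eq_zero f).resolve_right hf
    -- images and complements
    let R : Subrepresentation σ := f.range
    obtain ⟨U', hU'⟩ := exists_isCompl U
    obtain ⟨R', hR'⟩ := exists_isCompl R
    let e₁ : U.toSubmodule ≃ₗ[ℂ] R.toSubmodule := LinearEquiv.ofInjective f.toLinearMap hinj
    have he₁ : ∀ x : U.toSubmodule, ((e₁ x : R.toSubmodule) : W) = f x := fun x => rfl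
    let E₁ : U.toRepresentation.Equiv R.toRepresentation := Representation.Equiv.mk e₁ (fun g => by
      ext x
      show f (U.toRepresentation g x) = σ g (f x)
      exact IntertwiningMap.isIntertwining _ _ f g x)
    have hc1 : U.toRepresentation.character = R.toRepresentation.character :=
      char_iso E₁
    have hV' := character_eq_add_of_isCompl hU'
    have hW' := character_eq_add_of_isCompl hR'
    have hc2 : U'.toRepresentation.character = R'.toRepresentation.character := by
      rw [hχ, hW', hc1] at hV'
      exact (add_left_cancel hV').symm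
    have hlt : finrank ℂ U'.toSubmodule < n := by
      rw [← hn]
      apply finrank_subrep_lt
      intro h
      rw [h] at hU'
      have : U = ⊥ := hU'.disjoint.eq_bot_of_le le_top
      rw [this] at hU0
      have h2 : Subsingleton ((⊥ : Subrepresentation ρ).toSubmodule) :=
        inferInstanceAs (Subsingleton (⊥ : Submodule ℂ V))
      exact not_subsingleton _ h2
    obtain ⟨E₂⟩ := ih _ hlt U'.toSubmodule R'.toSubmodule U'.toRepresentation R'.toRepresentation rfl hc2
    let e : V ≃ₗ[ℂ] W :=
      (Submodule.prodEquivOfIsCompl _ _ (isCompl_toSubmodule hU')).symm ≪≫ₗ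
        (e₁.prodCongr E₂.toLinearEquiv) ≪≫ₗ
        Submodule.prodEquivOfIsCompl _ _ (isCompl_toSubmodule hR')
    have he : ∀ (u : U.toSubmodule) (u' : U'.toSubmodule),
        e ((u : V) + (u' : V)) = (e₁ u : W) + (E₂ u' : W) := by
      intro u u'
      have h1 : (u : V) + (u' : V) = Submodule.prodEquivOfIsCompl _ _ (isCompl_toSubmodule hU') (u, u') := by
        simp
      rw [h1]
      simp [e]
    refine ⟨Representation.Equiv.mk e fun g => ?_⟩
    ext x
    obtain ⟨⟨u, u'⟩, rfl⟩ := (Submodule.prodEquivOfIsCompl _ _ (isCompl_toSubmodule hU')).surjective x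
    simp only [Submodule.coe_prodEquivOfIsCompl', LinearMap.comp_apply, LinearEquiv.coe_coe, map_add]
    have h2 : (ρ g) (u : V) = ((U.toRepresentation g u : U.toSubmodule) : V) := rfl
    have h3 : (ρ g) (u' : V) = ((U'.toRepresentation g u' : U'.toSubmodule) : V) := rfl
    have heL : ∀ u : U.toSubmodule, e (u : V) = (e₁ u : W) := by
      intro u
      have := he u 0
      simpa using this
    have heR : ∀ u' : U'.toSubmodule, e (u' : V) = (E₂ u' : W) := by
      intro u'
      have := he 0 u'
      simpa using this
    rw [h2, h3, heL, heL, heR, heR]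
    have h4 : ((e₁ (U.toRepresentation g u) : R.toSubmodule) : W) = σ g (e₁ u : W) := by
      have := LinearMap.congr_fun (E₁.isIntertwining' g) u
      exact congrArg Subtype.val this
    have h5 : ((E₂ (U'.toRepresentation g u') : R'.toSubmodule) : W) = σ g (E₂ u' : W) := by
      have := IntertwiningMap.isIntertwining _ _ E₂.toIntertwiningMap g u'
      exact congrArg Subtype.val this
    rw [h4, h5]

/-- Complex representations of a finite group with equal characters are equivalent. -/
theorem equiv_of_character_eq {V : Type v} [AddCommGroup V] [Module ℂ V] [FiniteDimensional ℂ V]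
    {W : Type w} [AddCommGroup W] [Module ℂ W] [FiniteDimensional ℂ W]
    (ρ : Representation ℂ G V) (σ : Representation ℂ G W) (h : ρ.character = σ.character) :
    Nonempty (ρ.Equiv σ) :=
  equiv_of_character_eq_aux _ V W ρ σ rfl h

end

end Cfsg.Agent.H01
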