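import Mathlib
import Cfsg.Agent.Lib.H13.CoprimeGen

/-! Actions without fixed points: rank two exclusion and groups of order `p q`. -/

set_option autoImplicit false

namespace Cfsg.Agent.H01

/-- A non-cyclic finite abelian group contains two independent elements of the same prime order. -/
theorem exists_independent_pair {A : Type*} [CommGroup A] [Finite A] (h : ¬ IsCyclic A) :
    ∃ p : ℕ, p.Prime ∧ ∃ a b : A, a ^ p = 1 ∧ b ^ p = 1 ∧ b ≠ 1 ∧ ∀ i : ℕ, a * b ^ i ≠ 1 := by
  classical
  have he : Monoid.exponent A ≠ 0 := Monoid.exponent_ne_zero_of_finite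
  obtain ⟨g, hg⟩ := Monoid.exists_orderOf_eq_exponent (Monoid.exponent_ne_zero.mp he)
  set e := Monoid.exponent A with hedef
  have hpow : ∀ y : A, y ^ e = 1 := fun y => Monoid.pow_exponent_eq_one y
  let Z : Subgroup A := Subgroup.zpowers g
  have hZ : Z ≠ ⊤ := by
    intro hZ
    exact h (isCyclic_iff_exists_zpowers_eq_top.mpr ⟨g, hZ⟩)
  have hidx : Z.index ≠ 1 := fun hi => hZ (Subgroup.index_eq_one.mp hi)
  obtain ⟨p, hp, hpd⟩ := Nat.exists_prime_and_dvd hidx
  haveI : Fact p.Prime := ⟨hp⟩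
  rw [Subgroup.index_eq_card] at hpd
  obtain ⟨ybar, hybar⟩ := exists_prime_orderOf_dvd_card' p hpd
  obtain ⟨y, rfl⟩ := QuotientGroup.mk_surjective ybar
  have hyZ : y ∉ Z := by
    intro hy
    have h1 : (QuotientGroup.mk y : A ⧸ Z) = 1 := (QuotientGroup.eq_one_iff y).mpr hy
    rw [h1, orderOf_one] at hybar
    exact hp.one_lt.ne hybar
  have hypZ : y ^ p ∈ Z := by
    rw [← QuotientGroup.eq_one_iff]
    have h1 : (QuotientGroup.mk y : A ⧸ Z) ^ p = 1 := by
      rw [← hybar]; exact pow_orderOf_eq_one _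
    exact h1
  obtain ⟨m, hm⟩ : ∃ m : ℕ, g ^ m = y ^ p := by
    have h1 : y ^ p ∈ Submonoid.powers g := mem_powers_iff_mem_zpowers.mpr hypZ
    exact Submonoid.mem_powers_iff _ _ |>.mp h1
  have hpe : p ∣ e := by
    by_contra hne
    have hcop : Nat.Coprime p e := (Nat.Prime.coprime_iff_not_dvd hp).mpr hne
    have h1 : ((Nat.gcd p e : ℕ) : ℤ) = p * Nat.gcdA p e + e * Nat.gcdB p e := Nat.gcd_eq_gcd_ab p e
    rw [hcop] at h1
    apply hyZ
    have h2 : y = (y ^ p) ^ (Nat.gcdA p e) * (y ^ e) ^ (Nat.gcdB p e) := by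
      rw [← zpow_natCast, ← zpow_natCast, ← zpow_mul, ← zpow_mul, ← zpow_add]
      rw [← h1]
      simp
    rw [h2, hpow, one_zpow, mul_one]
    exact zpow_mem hypZ _
  obtain ⟨e', he'⟩ := hpe
  have he'0 : 0 < e' := by
    rcases Nat.eq_zero_or_pos e' with rfl | h0
    · rw [mul_zero] at he'
      exact absurd he' he
    · exact h0
  have hpm : p ∣ m := by
    have h1 : g ^ (m * e') = 1 := by
      rw [pow_mul, hm, ← pow_mul, ← he']
      exact hpow y
    have h2 : e ∣ m * e' := by
      rw [← hg]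
      exact orderOf_dvd_of_pow_eq_one h1
    rw [he', mul_comm m e'] at h2
    rw [mul_comm p e'] at h2
    exact Nat.dvd_of_mul_dvd_mul_left he'0 h2
  obtain ⟨m', rfl⟩ := hpm
  refine ⟨p, hp, y * (g ^ m')⁻¹, g ^ e', ?_, ?_, ?_, ?_⟩
  · rw [mul_pow, inv_pow, ← pow_mul, mul_comm m' p, ← hm, mul_inv_cancel]
  · rw [← pow_mul, mul_comm, ← he', ← hg]
    exact pow_orderOf_eq_one g
  · apply pow_ne_one_of_lt_orderOf he'0.ne'
    rw [hg, he']
    nlinarith [hp.two_le]
  · intro i hi
    apply hyZ
    have h1 : y = g ^ m' * ((g ^ e') ^ i)⁻¹ := by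
      have h2 : y * (g ^ m')⁻¹ = ((g ^ e') ^ i)⁻¹ := eq_inv_of_mul_eq_one_left hi
      rw [← h2]
      rw [mul_comm y, mul_inv_cancel_left]
    rw [h1]
    exact mul_mem (pow_mem (Subgroup.mem_zpowers g) _) (inv_mem (pow_mem (pow_mem (Subgroup.mem_zpowers g) _) _))

variable {G : Type*} [Group G] [Finite G]

/-- An element of prime order `r` acting on `K` without nontrivial fixed points forces `r ∤ |K|`. -/
theorem not_dvd_card_of_fpf (K : Subgroup G) {a : G} {r : ℕ} [Fact r.Prime] (har : a ^ r = 1)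
    (ha : a ∈ Subgroup.normalizer (K : Set G)) (hfix : ∀ v ∈ K, a * v * a⁻¹ = v → v = 1) :
    ¬ r ∣ Nat.card K := by
  classical
  let Z : Subgroup G := Subgroup.zpowers a
  have hZN : Z ≤ Subgroup.normalizer (K : Set G) := by
    rw [Subgroup.zpowers_le]
    exact ha
  have hZp : IsPGroup r Z := by
    rintro ⟨z, hz⟩
    obtain ⟨k, rfl⟩ := Subgroup.mem_zpowers_iff.mp hz
    refine ⟨1, Subtype.ext ?_⟩
    show (a ^ k) ^ r ^ 1 = 1
    rw [pow_one, ← zpow_natCast, ← zpow_mul, mul_comm, zpow_mul, zpow_natCast, har, one_zpow]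
  let ψ : Z →* MulAut K := K.normalizerMonoidHom.comp (Subgroup.inclusion hZN)
  letI : MulAction Z K := MulAction.compHom K ψ
  have hmod := IsPGroup.card_modEq_card_fixedPoints hZp K
  have hfixed : MulAction.fixedPoints Z K = {1} := by
    ext v
    simp only [MulAction.mem_fixedPoints, Set.mem_singleton_iff]
    constructor
    · intro hv
      have h1 : (⟨a, Subgroup.mem_zpowers a⟩ : Z) • v = v := hv _
      have h2 : a * (v : G) * a⁻¹ = v := congrArg Subtype.val h1
      exact Subtype.ext (hfix _ v.2 h2)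
    · rintro rfl z
      show ψ z 1 = 1
      exact map_one _
  rw [hfixed, Nat.card_eq_fintype_card (α := ({1} : Set K))] at hmod
  simp only [Set.card_singleton] at hmod
  intro hd
  have h1 : Nat.card K % r = 0 := Nat.mod_eq_zero_of_dvd hd
  have h2 : Nat.card K % r = 1 % r := hmod
  have h3 : 1 % r = 1 := Nat.mod_eq_of_lt (Fact.out : r.Prime).one_lt
  omega

/-- No elementary abelian group of rank two acts without fixed points. -/
theorem false_of_pair (K : Subgroup G) (hK : K ≠ ⊥) {a b : G} {p : ℕ} [Fact p.Prime]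
    (hab : Commute a b) (hap : a ^ p = 1) (hbp : b ^ p = 1)
    (ha : a ∈ Subgroup.normalizer (K : Set G)) (hb : b ∈ Subgroup.normalizer (K : Set G))
    (hcop : (Nat.card K).Coprime p)
    (hfix : ∀ x, (x = b ∨ ∃ i < p, x = a * b ^ i) → K ⊓ Subgroup.centralizer {x} = ⊥) : False := by
  have h1 := Cfsg.Agent.H13.fixGen_eq hcop hab hap hbp ha hb
  unfold Cfsg.Agent.H13.fixGen at h1
  apply hK
  rw [← h1]
  apply iSup_eq_bot.mpr
  rintro ⟨x, hx⟩
  exact hfix x hx

/-- A finite group of order `p q`, `q < p`, acting without fixed points on a non-trivial abelian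
group is cyclic. -/
theorem isCyclic_of_fpf_pq {A W : Type*} [Group A] [Finite A] [CommGroup W] [Finite W]
    (ρ : A →* MulAut W) (hfpf : ∀ a : A, a ≠ 1 → ∀ v : W, ρ a v = v → v = 1) (hW : ∃ v : W, v ≠ 1)
    {p q : ℕ} (hp : p.Prime) (hq : q.Prime) (hqp : q < p) (hcard : Nat.card A = p * q) :
    IsCyclic A := by
  classical
  by_contra hnc
  haveI : Fact p.Prime := ⟨hp⟩
  haveI : Fact q.Prime := ⟨hq⟩
  obtain ⟨x, hx⟩ := exists_prime_orderOf_dvd_card' p (Dvd.intro _ hcard.symm)
  obtain ⟨y, hy⟩ := exists_prime_orderOf_dvd_card' q (Dvd.intro_left _ hcard.symm)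
  let P : Subgroup A := Subgroup.zpowers x
  have hcP : Nat.card P = p := by rw [Nat.card_zpowers, hx]
  have hiP : P.index = q := by
    have h1 := P.card_mul_index
    rw [hcP, hcard] at h1
    exact Nat.eq_of_mul_eq_mul_left hp.pos h1
  have hminFac : (Nat.card A).minFac = q := by
    rw [hcard]
    have h1 : (p * q).minFac ∣ p * q := Nat.minFac_dvd _
    have h2 : (p * q).minFac.Prime := Nat.minFac_prime (by
      have := Nat.mul_pos hp.pos hq.pos
      have h3 : 1 < p * q := by nlinarith [hp.two_le, hq.two_le]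
      omega)
    rcases (Nat.Prime.dvd_mul hp).mp ((h2.dvd_mul).mp h1 |>.elim
      (fun h => Dvd.dvd.mul_right h q) (fun h => Dvd.dvd.mul_left h p) |> fun h => by
        exact (show p ∣ p * q ∨ True from Or.inr trivial) |> fun _ => (Dvd.intro _ rfl : p ∣ p * q)) with _ | _
    all_goals
      rcases (h2.dvd_mul).mp h1 with h4 | h4
      · have h5 := (Nat.prime_dvd_prime_iff_eq h2 hp).mp h4
        have h6 : (p * q).minFac ≤ q := Nat.minFac_le_of_dvd hq.two_le (Dvd.intro_left _ rfl)
        omega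
      · exact (Nat.prime_dvd_prime_iff_eq h2 hq).mp h4
  haveI hPn : P.Normal := Subgroup.normal_of_index_eq_minFac_card (by rw [hiP, hminFac])
  -- elements outside `P` have order dividing `q`
  have hout : ∀ g : A, g ∉ P → g ^ q = 1 := by
    intro g hg
    have h1 : g ^ q ∈ P := by
      have := Subgroup.pow_index_mem P g
      rwa [hiP] at this
    by_contra hne
    have hn : orderOf g ∣ p * q := by
      rw [← hcard]
      exact orderOf_dvd_natCard g
    by_cases hqn : q ∣ orderOf g
    · by_cases hpn : p ∣ orderOf g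
      · apply hnc
        apply isCyclic_of_orderOf_eq_card g
        rw [hcard]
        apply Nat.dvd_antisymm hn
        exact Nat.Coprime.mul_dvd_of_dvd_of_dvd
          ((Nat.coprime_primes hp hq).mpr (by omega)) hpn hqn
      · have h2 : Nat.Coprime (orderOf g) p := ((Nat.Prime.coprime_iff_not_dvd hp).mpr hpn).symm
        apply hne
        exact orderOf_dvd_iff_pow_eq_one.mp (h2.dvd_of_dvd_mul_left hn)
    · have h2 : Nat.Coprime q (orderOf g) := (Nat.Prime.coprime_iff_not_dvd hq).mpr hqn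
      apply hg
      have h3 : ((Nat.gcd q (orderOf g) : ℕ) : ℤ) = q * Nat.gcdA q (orderOf g) + orderOf g * Nat.gcdB q (orderOf g) :=
        Nat.gcd_eq_gcd_ab q _
      rw [h2] at h3
      have h4 : g = (g ^ q) ^ (Nat.gcdA q (orderOf g)) * (g ^ orderOf g) ^ (Nat.gcdB q (orderOf g)) := by
        rw [← zpow_natCast, ← zpow_natCast, ← zpow_mul, ← zpow_mul, ← zpow_add]
        rw [← h3]
        simp
      rw [h4, pow_orderOf_eq_one, one_zpow, mul_one]
      exact zpow_mem h1 _
  have hyP : y ∉ P := by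
    intro hyP
    have h1 : orderOf y ∣ Nat.card P := Subgroup.orderOf_dvd_natCard P hyP
    rw [hy, hcP] at h1
    have := (Nat.prime_dvd_prime_iff_eq hq hp).mp h1
    omega
  have hx1 : x ≠ 1 := by
    rintro rfl
    rw [orderOf_one] at hx
    exact hp.one_lt.ne hx
  -- the norm over `P` is trivial
  haveI : Fintype P := Fintype.ofFinite _
  have hNP : ∀ u : W, ∏ s : P, ρ (s : A) u = 1 := by
    intro u
    apply hfpf x hx1
    rw [map_prod]
    apply Fintype.prod_equiv (Equiv.mulLeft (⟨x, Subgroup.mem_zpowers x⟩ : P))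
    intro s
    show ρ x (ρ (s : A) u) = ρ (x * s) u
    rw [map_mul]
    rfl
  -- the norm over cyclic subgroups
  have hNg : ∀ (g : A) (v : W), g ∉ P → ∏ k ∈ Finset.range q, ρ (g ^ k) v = 1 := by
    intro g v hg
    have hg1 : g ≠ 1 := fun h => hg (h ▸ one_mem _)
    apply hfpf g hg1
    have h1 : (ρ g) ^ q = 1 := by rw [← map_pow, hout g hg, map_one]
    have h2 := Cfsg.Agent.H13.normAut_fixed h1 v
    unfold Cfsg.Agent.H13.normAut at h2
    simp only [← map_pow] at h2
    exact h2
  have hout' : ∀ s : P, (s : A) * y ∉ P := by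
    intro s hs
    apply hyP
    have : y = (s : A)⁻¹ * ((s : A) * y) := by group
    rw [this]
    exact mul_mem (inv_mem s.2) hs
  -- the power map
  have hpowP : ∀ (s : P) (k : ℕ), ((s : A) * y) ^ k * (y ^ k)⁻¹ ∈ P := by
    intro s k
    induction k with
    | zero => simp
    | succ k ih =>
      have e : ((s : A) * y) ^ (k + 1) * (y ^ (k + 1))⁻¹ =
          (((s : A) * y) ^ k * (y ^ k)⁻¹) * (y ^ k * (s : A) * (y ^ k)⁻¹) := by
        rw [pow_succ, pow_succ]
        group
      rw [e]
      exact mul_mem ih (hPn.conj_mem _ s.2 _)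
  have hT : ∀ (v : W) (k : ℕ), k ∈ Finset.range q → k ≠ 0 →
      ∏ s : P, ρ (((s : A) * y) ^ k) v = 1 := by
    intro v k hk hk0
    have hklt : k < q := Finset.mem_range.mp hk
    have hcopk : Nat.Coprime k q := Nat.Coprime.symm
      ((Nat.Prime.coprime_iff_not_dvd hq).mpr (fun h => by
        have := Nat.le_of_dvd (Nat.pos_of_ne_zero hk0) h
        omega))
    have hq1 : 1 < q := hq.one_lt
    obtain ⟨m, hm⟩ := Nat.exists_mul_mod_eq_one_of_coprime hcopk hq1
    let F : P → P := fun s => ⟨((s : A) * y) ^ k * (y ^ k)⁻¹, hpowP s k⟩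
    have hFinj : Function.Injective F := by
      intro s t hst
      have h1 : ((s : A) * y) ^ k = ((t : A) * y) ^ k := by
        have h2 := congrArg Subtype.val hst
        exact mul_right_cancel h2
      have h3 : ∀ g : A, g ^ q = 1 → (g ^ k) ^ m = g := by
        intro g hg
        rw [← pow_mul, pow_eq_pow_mod _ hg, hm.2, pow_one]
      have h4 := h3 _ (hout _ (hout' s))
      have h5 := h3 _ (hout _ (hout' t))
      rw [h1, h5] at h4
      have h6 : (s : A) = t := mul_right_cancel h4.symm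
      exact Subtype.ext h6
    have hFbij : Function.Bijective F := Finite.injective_iff_bijective.mp hFinj
    have h1 : ∀ s : P, ρ (((s : A) * y) ^ k) v = ρ ((F s : P) : A) (ρ (y ^ k) v) := by
      intro s
      show ρ (((s : A) * y) ^ k) v = ρ (((s : A) * y) ^ k * (y ^ k)⁻¹) (ρ (y ^ k) v)
      rw [map_mul, map_inv, MulAut.mul_apply, MulAut.inv_apply_self]
    rw [Finset.prod_congr rfl (fun s _ => h1 s)]
    rw [hFbij.prod_comp (fun s : P => ρ (s : A) (ρ (y ^ k) v))]
    exact hNP _
  -- conclusion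
  have hv : ∀ v : W, v ^ p = 1 := by
    intro v
    have h1 : ∏ s : P, ∏ k ∈ Finset.range q, ρ (((s : A) * y) ^ k) v = 1 :=
      Finset.prod_eq_one (fun s _ => hNg _ v (hout' s))
    rw [Finset.prod_comm] at h1
    rw [Finset.prod_eq_single 0 (fun k hk hk0 => hT v k hk hk0)
      (fun h => absurd (Finset.mem_range.mpr hq.pos) h)] at h1
    simp only [pow_zero, map_one, MulAut.one_apply, Finset.prod_const, Finset.card_univ] at h1
    rw [← Nat.card_eq_fintype_card, hcP] at h1
    exact h1
  -- `p ∤ |W|`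
  obtain ⟨v₀, hv₀⟩ := hW
  -- action of `x` on `W`
  have hxfix : ∀ v : W, ρ x v = v → v = 1 := hfpf x hx1
  have hnd : ¬ p ∣ Nat.card W := by
    intro hd
    classical
    let Z : Subgroup A := Subgroup.zpowers x
    have hZp : IsPGroup p Z := by
      rintro ⟨z, hz⟩
      obtain ⟨k, rfl⟩ := Subgroup.mem_zpowers_iff.mp hz
      refine ⟨1, Subtype.ext ?_⟩
      show (x ^ k) ^ p ^ 1 = 1
      rw [pow_one, ← zpow_natCast, ← zpow_mul, mul_comm, zpow_mul, zpow_natCast, ← hx,
        pow_orderOf_eq_one, one_zpow]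
    letI : MulAction Z W := MulAction.compHom W (ρ.comp Z.subtype)
    have hmod := IsPGroup.card_modEq_card_fixedPoints hZp W
    have hfixed : MulAction.fixedPoints Z W = {1} := by
      ext v
      simp only [MulAction.mem_fixedPoints, Set.mem_singleton_iff]
      constructor
      · intro hv
        exact hxfix v (hv ⟨x, Subgroup.mem_zpowers x⟩)
      · rintro rfl z
        show ρ z 1 = 1
        exact map_one _
    rw [hfixed, Nat.card_eq_fintype_card (α := ({1} : Set W))] at hmod
    simp only [Set.card_singleton] at hmod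
    have h1 : Nat.card W % p = 0 := Nat.mod_eq_zero_of_dvd hd
    have h2 : Nat.card W % p = 1 % p := hmod
    have h3 : 1 % p = 1 := Nat.mod_eq_of_lt hp.one_lt
    omega
  apply hv₀
  have h1 : orderOf v₀ ∣ p := orderOf_dvd_of_pow_eq_one (hv v₀)
  have h2 : orderOf v₀ ∣ Nat.card W := orderOf_dvd_natCard v₀
  rcases (Nat.dvd_prime hp).mp h1 with h3 | h3
  · exact orderOf_eq_one_iff.mp h3
  · rw [h3] at h2
    exact absurd h2 hnd

end Cfsg.Agent.H01
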