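import Mathlib
import Cfsg.Agent.S0040
import Cfsg.Agent.S0041
import Cfsg.Agent.Lib.H01.Coprime
import Cfsg.Agent.Lib.H01.Coprime3
import Cfsg.Agent.Lib.H01.Coprime4
import Cfsg.Agent.Lib.H01.CoprimeAb
import Cfsg.Agent.Lib.H14.CoprimeGen

/-! Structure of Frobenius complements. -/

set_option autoImplicit false

namespace Cfsg.Agent.H01

open scoped IsMulCommutative

variable {G : Type*} [Group G] [Finite G]

/-- A subgroup `U` of the complement of order `r q` (distinct primes) is cyclic. -/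
theorem isCyclic_of_card_prime_mul (K H U : Subgroup G) (hHK : H ≤ Subgroup.normalizer (K : Set G))
    (hK : K ≠ ⊥) (hfpf : ∀ h ∈ H, h ≠ 1 → K ⊓ Subgroup.centralizer {h} = ⊥) (hUH : U ≤ H)
    {r q : ℕ} (hr : r.Prime) (hq : q.Prime) (hrq : r ≠ q) (hU : Nat.card U = r * q) : IsCyclic U := by
  classical
  haveI : Fact r.Prime := ⟨hr⟩
  haveI : Fact q.Prime := ⟨hq⟩
  have hfix : ∀ (a : G), a ∈ H → a ≠ 1 → ∀ v ∈ K, a * v * a⁻¹ = v → v = 1 := by
    intro a ha ha1 v hv hfix
    have h1 : v ∈ K ⊓ Subgroup.centralizer {a} := by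
      refine ⟨hv, ?_⟩
      show v ∈ Subgroup.centralizer _
      rw [Subgroup.mem_centralizer_iff]
      rintro _ rfl
      exact mul_inv_eq_iff_eq_mul.mp hfix
    rw [hfpf a ha ha1] at h1
    exact h1
  have hnd : ∀ (s : ℕ) [Fact s.Prime], s ∣ Nat.card U → ¬ s ∣ Nat.card K := by
    intro s _ hs
    obtain ⟨x, hx⟩ := exists_prime_orderOf_dvd_card' s hs
    have hxs : (x : G) ^ s = 1 := by
      have := pow_orderOf_eq_one x
      rw [hx] at this
      exact congrArg Subtype.val this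
    have hx1 : (x : G) ≠ 1 := by
      intro h
      have h2 : x = 1 := Subtype.ext h
      rw [h2, orderOf_one] at hx
      exact (Fact.out : s.Prime).one_lt.ne hx
    exact not_dvd_card_of_fpf K hxs (hHK (hUH x.2)) (hfix _ (hUH x.2) hx1)
  have hcopU : (Nat.card U).Coprime (Nat.card K) := by
    rw [hU]
    apply Nat.Coprime.mul_left
    · rw [Nat.Prime.coprime_iff_not_dvd hr]
      exact hnd r (by rw [hU]; exact Dvd.intro _ rfl)
    · rw [Nat.Prime.coprime_iff_not_dvd hq]
      exact hnd q (by rw [hU]; exact Dvd.intro_left _ rfl)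
  have hsq : Squarefree (Nat.card U) := by
    rw [hU, Nat.squarefree_mul ((Nat.coprime_primes hr hq).mpr hrq)]
    exact ⟨hr.prime.irreducible.squarefree, hq.prime.irreducible.squarefree⟩
  haveI : IsZGroup U := IsZGroup.of_squarefree hsq
  have hUK : U ≤ Subgroup.normalizer (K : Set G) := hUH.trans hHK
  have hKcard : Nat.card K ≠ 1 := by
    intro h
    exact hK ((Subgroup.eq_bot_iff_card K).mpr h)
  obtain ⟨s, hs, hsd⟩ := Nat.exists_prime_and_dvd hKcard
  haveI : Fact s.Prime := ⟨hs⟩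
  obtain ⟨P, hP⟩ := exists_invariant_sylow hUK hcopU (Or.inl inferInstance) s
  let P₀ : Subgroup G := (P : Subgroup K).map K.subtype
  have hP₀K : P₀ ≤ K := Subgroup.map_subtype_le _
  have hP₀p : IsPGroup s P₀ := P.isPGroup'.map _
  have hcP₀ : Nat.card P₀ = Nat.card (P : Subgroup K) :=
    Nat.card_congr ((P : Subgroup K).equivMapOfInjective _ K.subtype_injective).toEquiv.symm
  have hsP : s ∣ Nat.card P₀ := by
    rw [hcP₀, P.card_eq_multiplicity]
    exact dvd_pow_self s ((Nat.Prime.factorization_pos_of_dvd hs Nat.card_pos.ne' hsd).ne')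
  haveI : Nontrivial P₀ := by
    apply Finite.one_lt_card_iff_nontrivial.mp
    have := Nat.le_of_dvd Nat.card_pos hsP
    have := hs.two_le
    omega
  haveI := hP₀p.center_nontrivial
  obtain ⟨z, hz⟩ := exists_ne (1 : Subgroup.center P₀)
  let Z₀ : Subgroup G := P₀ ⊓ Subgroup.centralizer (P₀ : Set G)
  have hZ₀K : Z₀ ≤ K := inf_le_left.trans hP₀K
  haveI hZ₀ab : IsMulCommutative Z₀ := by
    refine ⟨⟨fun a b => Subtype.ext ?_⟩⟩
    have h1 : (b : G) ∈ Subgroup.centralizer (P₀ : Set G) := b.2.2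
    exact (Subgroup.mem_centralizer_iff.mp h1 a a.2.1)
  have hZ₀ne : Z₀ ≠ ⊥ := by
    intro h
    have h1 : ((z : P₀) : G) ∈ Z₀ := by
      refine ⟨(z : P₀).2, ?_⟩
      show ((z : P₀) : G) ∈ Subgroup.centralizer _
      rw [Subgroup.mem_centralizer_iff]
      intro a ha
      have := Subgroup.mem_center_iff.mp z.2 ⟨a, ha⟩
      exact congrArg Subtype.val this
    rw [h, Subgroup.mem_bot] at h1
    exact hz (Subtype.ext (Subtype.ext h1))
  have hUZ : U ≤ Subgroup.normalizer (Z₀ : Set G) := by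
    intro u hu
    have h1 := hP hu
    exact Cfsg.Agent.H14.mem_normalizer_inf h1 (normalizer_le_normalizer_centralizer _ h1)
  apply Cfsg.Agent.S0041.result U Z₀ hZ₀ne hUZ
  · intro a ha ha1
    rw [eq_bot_iff]
    rintro x ⟨hx, hx'⟩
    have h2 : x ∈ K ⊓ Subgroup.centralizer {a} := ⟨hZ₀K hx, hx'⟩
    rw [hfpf a (hUH ha) ha1] at h2
    exact h2
  · exact Or.inr ⟨r, q, hr, hq, hU⟩

/-- Two elements of distinct prime orders, the second normalizing the first, commute. -/
theorem commute_of_primes (K H : Subgroup G) (hHK : H ≤ Subgroup.normalizer (K : Set G))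
    (hK : K ≠ ⊥) (hfpf : ∀ h ∈ H, h ≠ 1 → K ⊓ Subgroup.centralizer {h} = ⊥)
    {v b : G} (hv : v ∈ H) (hb : b ∈ H) {r q : ℕ} (hr : r.Prime) (hq : q.Prime) (hrq : r ≠ q)
    (hvo : orderOf v = r) (hbo : orderOf b = q) (hn : b * v * b⁻¹ ∈ Subgroup.zpowers v) :
    v * b = b * v := by
  classical
  let V : Subgroup G := Subgroup.zpowers v
  let B : Subgroup G := Subgroup.zpowers b
  have hBV : B ≤ Subgroup.normalizer (V : Set G) := by
    rw [Subgroup.zpowers_le]
    apply Cfsg.Agent.H13.mem_normalizer_of_map_conj_le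
    rw [Subgroup.map_le_iff_le_comap]
    show Subgroup.zpowers v ≤ _
    rw [Subgroup.zpowers_le]
    exact hn
  have hcV : Nat.card V = r := by rw [Nat.card_zpowers, hvo]
  have hcB : Nat.card B = q := by rw [Nat.card_zpowers, hbo]
  have hcard := card_sup_of_le_normalizer hBV (by rw [hcV, hcB]; exact (Nat.coprime_primes hr hq).mpr hrq)
  let U : Subgroup G := V ⊔ B
  have hUH : U ≤ H := sup_le (Subgroup.zpowers_le.mpr hv) (Subgroup.zpowers_le.mpr hb)
  have hcU : Nat.card U = r * q := by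
    rw [← hcV, ← hcB]
    exact hcard.symm
  have hcyc := isCyclic_of_card_prime_mul K H U hHK hK hfpf hUH hr hq hrq hcU
  have hvU : v ∈ U := (le_sup_left : V ≤ U) (Subgroup.mem_zpowers v)
  have hbU : b ∈ U := (le_sup_right : B ≤ U) (Subgroup.mem_zpowers b)
  have h := (IsCyclic.commutative (α := U)).is_comm.comm ⟨v, hvU⟩ ⟨b, hbU⟩
  exact congrArg Subtype.val h

end Cfsg.Agent.H01
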