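import Mathlib
import Cfsg.Agent.S0039
import Cfsg.Agent.S0040
import Cfsg.Agent.S0069
import Cfsg.Agent.Lib.H01.Frobenius
import Cfsg.Agent.Lib.H01.FrobComp2
import Cfsg.Agent.Lib.H01.SZ2
import Cfsg.Agent.Lib.H01.NormalComp
import Cfsg.Agent.Lib.H18.Syl

/-! Uniqueness of the Frobenius kernel and conjugacy of Frobenius complements. -/

set_option autoImplicit false

universe u

namespace Cfsg.Agent.H01

open scoped Pointwise
open scoped IsMulCommutative
open scoped commutatorElement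

/-- A Frobenius group `X ⟨y⟩` cannot act without fixed points on a non-trivial abelian group of
coprime order. -/
theorem false_of_frobenius_action {F W : Type*} [Group F] [Finite F] [CommGroup W] [Finite W]
    (ρ : F →* MulAut W) (hfpf : ∀ a : F, a ≠ 1 → ∀ v : W, ρ a v = v → v = 1) (hW : ∃ v : W, v ≠ 1)
    (X : Subgroup F) (hX : X ≠ ⊥) {y : F} {q : ℕ} (hq : q.Prime) (hy : orderOf y = q)
    (hyX : y ∈ Subgroup.normalizer (X : Set F)) (hfree : ∀ s ∈ X, y * s * y⁻¹ = s → s = 1)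
    (hcop : (Nat.card X).Coprime (Nat.card W)) : False := by
  classical
  haveI : Fact q.Prime := ⟨hq⟩
  obtain ⟨x₀, hx₀⟩ := Subgroup.ne_bot_iff_exists_ne_one.mp hX
  have hx₀' : (x₀ : F) ≠ 1 := fun h => hx₀ (Subtype.ext h)
  haveI : Fintype X := Fintype.ofFinite _
  have hNP : ∀ u : W, ∏ s : X, ρ (s : F) u = 1 := by
    intro u
    apply hfpf _ hx₀'
    rw [map_prod]
    apply Fintype.prod_equiv (Equiv.mulLeft x₀)
    intro s
    show ρ x₀ (ρ (s : F) u) = ρ ((x₀ : F) * s) u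
    rw [map_mul]
    rfl
  have hy1 : y ≠ 1 := by
    rintro rfl
    rw [orderOf_one] at hy
    exact hq.one_lt.ne hy
  have hyq : y ^ q = 1 := by rw [← hy]; exact pow_orderOf_eq_one y
  have hyXn : y ∉ X := by
    intro h
    apply hy1
    apply hfree y h
    group
  have hout' : ∀ s : X, (s : F) * y ∉ X := by
    intro s hs
    apply hyXn
    have : y = (s : F)⁻¹ * ((s : F) * y) := by group
    rw [this]
    exact mul_mem (inv_mem s.2) hs
  have hconjX : ∀ (k : ℕ) (s : F), s ∈ X → y ^ k * s * (y ^ k)⁻¹ ∈ X := by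
    intro k s hs
    exact (Subgroup.mem_normalizer_iff.mp (pow_mem hyX k) s).mp hs
  -- elements of `X y` have order `q`
  have hoq : ∀ s : X, ((s : F) * y) ^ q = 1 := by
    let φ : X → X := fun u => ⟨(u : F) * (y * (u : F)⁻¹ * y⁻¹), mul_mem u.2
      ((Subgroup.mem_normalizer_iff.mp hyX _).mp (inv_mem u.2))⟩
    have hφ : Function.Injective φ := by
      intro u w huw
      have h1 : (u : F) * (y * (u : F)⁻¹ * y⁻¹) = (w : F) * (y * (w : F)⁻¹ * y⁻¹) := congrArg Subtype.val huw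
      have h2 : (w : F)⁻¹ * u ∈ X := mul_mem (inv_mem w.2) u.2
      have h3 : y * ((w : F)⁻¹ * u) * y⁻¹ = (w : F)⁻¹ * u := by
        have e1 : (w : F)⁻¹ * u = (y * (w : F)⁻¹ * y⁻¹) * (y * (u : F)⁻¹ * y⁻¹)⁻¹ := by
          have h4 : (u : F) = (w : F) * (y * (w : F)⁻¹ * y⁻¹) * (y * (u : F)⁻¹ * y⁻¹)⁻¹ := by
            rw [← h1]; group
          calc (w : F)⁻¹ * u = (w : F)⁻¹ * ((w : F) * (y * (w : F)⁻¹ * y⁻¹) * (y * (u : F)⁻¹ * y⁻¹)⁻¹) := by
                rw [← h4]
            _ = _ := by group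
        calc y * ((w : F)⁻¹ * u) * y⁻¹ = (y * (w : F)⁻¹ * y⁻¹) * (y * (u : F)⁻¹ * y⁻¹)⁻¹ := by group
          _ = _ := e1.symm
      have h5 := hfree _ h2 h3
      apply Subtype.ext
      have h6 : (u : F) = (w : F) * ((w : F)⁻¹ * u) := by group
      rw [h6, h5, mul_one]
    have hsurj := Finite.injective_iff_surjective.mp hφ
    intro s
    obtain ⟨u, hu⟩ := hsurj s
    have hu' : (u : F) * (y * (u : F)⁻¹ * y⁻¹) = s := congrArg Subtype.val hu
    rw [← hu']
    have e : (u : F) * (y * (u : F)⁻¹ * y⁻¹) * y = (u : F) * y * (u : F)⁻¹ := by group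
    rw [e, conj_pow, hyq]
    group
  have hNg : ∀ (g : F) (v : W), g ^ q = 1 → g ≠ 1 → ∏ k ∈ Finset.range q, ρ (g ^ k) v = 1 := by
    intro g v hg hg1
    apply hfpf g hg1
    have h1 : (ρ g) ^ q = 1 := by rw [← map_pow, hg, map_one]
    have h2 := Cfsg.Agent.H13.normAut_fixed h1 v
    unfold Cfsg.Agent.H13.normAut at h2
    simp only [← map_pow] at h2
    exact h2
  have hpowP : ∀ (s : X) (k : ℕ), ((s : F) * y) ^ k * (y ^ k)⁻¹ ∈ X := by
    intro s k
    induction k with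
    | zero => simp
    | succ k ih =>
      have e : ((s : F) * y) ^ (k + 1) * (y ^ (k + 1))⁻¹ =
          (((s : F) * y) ^ k * (y ^ k)⁻¹) * (y ^ k * (s : F) * (y ^ k)⁻¹) := by
        rw [pow_succ, pow_succ]
        group
      rw [e]
      exact mul_mem ih (hconjX k _ s.2)
  have hT : ∀ (v : W) (k : ℕ), k ∈ Finset.range q → k ≠ 0 →
      ∏ s : X, ρ (((s : F) * y) ^ k) v = 1 := by
    intro v k hk hk0
    have hklt : k < q := Finset.mem_range.mp hk
    have hcopk : Nat.Coprime k q := Nat.Coprime.symm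
      ((Nat.Prime.coprime_iff_not_dvd hq).mpr (fun h => by
        have := Nat.le_of_dvd (Nat.pos_of_ne_zero hk0) h
        omega))
    have hq1 : 1 < q := hq.one_lt
    obtain ⟨m, hm⟩ := Nat.exists_mul_mod_eq_one_of_coprime hcopk hq1
    let G' : X → X := fun s => ⟨((s : F) * y) ^ k * (y ^ k)⁻¹, hpowP s k⟩
    have hFinj : Function.Injective G' := by
      intro s t hst
      have h1 : ((s : F) * y) ^ k = ((t : F) * y) ^ k := by
        have h2 := congrArg Subtype.val hst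
        exact mul_right_cancel h2
      have h3 : ∀ g : F, g ^ q = 1 → (g ^ k) ^ m = g := by
        intro g hg
        rw [← pow_mul, pow_eq_pow_mod _ hg, hm.2, pow_one]
      have h4 := h3 _ (hoq s)
      have h5 := h3 _ (hoq t)
      rw [h1, h5] at h4
      have h6 : (s : F) = t := mul_right_cancel h4.symm
      exact Subtype.ext h6
    have hFbij : Function.Bijective G' := Finite.injective_iff_bijective.mp hFinj
    have h1 : ∀ s : X, ρ (((s : F) * y) ^ k) v = ρ ((G' s : X) : F) (ρ (y ^ k) v) := by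
      intro s
      show ρ (((s : F) * y) ^ k) v = ρ (((s : F) * y) ^ k * (y ^ k)⁻¹) (ρ (y ^ k) v)
      rw [map_mul, map_inv, MulAut.mul_apply, MulAut.inv_apply_self]
    rw [Finset.prod_congr rfl (fun s _ => h1 s)]
    rw [hFbij.prod_comp (fun s : X => ρ (s : F) (ρ (y ^ k) v))]
    exact hNP _
  have hv : ∀ v : W, v ^ Nat.card X = 1 := by
    intro v
    have h1 : ∏ s : X, ∏ k ∈ Finset.range q, ρ (((s : F) * y) ^ k) v = 1 :=
      Finset.prod_eq_one (fun s _ => hNg _ v (hoq s)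
        (fun h => hout' s (by rw [h]; exact one_mem _)))
    rw [Finset.prod_comm] at h1
    rw [Finset.prod_eq_single 0 (fun k hk hk0 => hT v k hk hk0)
      (fun h => absurd (Finset.mem_range.mpr hq.pos) h)] at h1
    simp only [pow_zero, map_one, MulAut.one_apply, Finset.prod_const, Finset.card_univ] at h1
    rw [← Nat.card_eq_fintype_card] at h1
    exact h1
  obtain ⟨v₀, hv₀⟩ := hW
  apply hv₀
  have h1 : orderOf v₀ ∣ Nat.card X := orderOf_dvd_of_pow_eq_one (hv v₀)
  have h2 : orderOf v₀ ∣ Nat.card W := orderOf_dvd_natCard v₀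
  have h3 := Nat.dvd_gcd h1 h2
  rw [hcop, Nat.dvd_one] at h3
  exact orderOf_eq_one_iff.mp h3

variable {G : Type u} [Group G] [Finite G]

/-- Orders of a group acting without fixed points and of the acted-on group are coprime. -/
theorem frob_coprime (K H : Subgroup G) (hHK : H ≤ Subgroup.normalizer (K : Set G))
    (hfpf : ∀ h ∈ H, h ≠ 1 → K ⊓ Subgroup.centralizer {h} = ⊥) :
    (Nat.card H).Coprime (Nat.card K) := by
  apply Nat.coprime_of_dvd
  intro r hr hrH hrK
  haveI : Fact r.Prime := ⟨hr⟩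
  obtain ⟨x, hx⟩ := exists_prime_orderOf_dvd_card' r hrH
  have hxs : (x : G) ^ r = 1 := by
    have := pow_orderOf_eq_one x
    rw [hx] at this
    exact congrArg Subtype.val this
  have hx1 : (x : G) ≠ 1 := by
    intro h
    have h2 : x = 1 := Subtype.ext h
    rw [h2, orderOf_one] at hx
    exact hr.one_lt.ne hx
  refine not_dvd_card_of_fpf K hxs (hHK x.2) ?_ hrK
  intro v hv hfix
  have h1 : v ∈ K ⊓ Subgroup.centralizer {(x : G)} := by
    refine ⟨hv, ?_⟩
    show v ∈ Subgroup.centralizer _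
    rw [Subgroup.mem_centralizer_iff]
    rintro _ rfl
    exact mul_inv_eq_iff_eq_mul.mp hfix
  rw [hfpf _ x.2 hx1] at h1
  exact h1

/-- One of the two factors of a Frobenius group is solvable. -/
theorem frob_solvable (K H : Subgroup G) [hKn : K.Normal] (hc : K.IsComplement' H) (hK : K ≠ ⊥)
    (hfpf : ∀ h ∈ H, h ≠ 1 → K ⊓ Subgroup.centralizer {h} = ⊥) :
    Group.IsSolvable K ∨ Group.IsSolvable H := by
  classical
  by_cases h2 : 2 ∣ Nat.card H
  · left
    haveI : Fact (Nat.Prime 2) := ⟨Nat.prime_two⟩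
    obtain ⟨t, ht⟩ := exists_prime_orderOf_dvd_card' 2 h2
    have ht1 : (t : G) ≠ 1 := by
      intro h
      have h3 : t = 1 := Subtype.ext h
      rw [h3, orderOf_one] at ht
      omega
    have hs2 : (t : G) * (t : G) = 1 := by
      have := pow_orderOf_eq_one t
      rw [ht, pow_two] at this
      exact congrArg Subtype.val this
    have hinv := Cfsg.Agent.S0069.invert_of_invol K hs2 (by
      intro v hv hfix
      have h1 : v ∈ K ⊓ Subgroup.centralizer {(t : G)} := by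
        refine ⟨hv, ?_⟩
        show v ∈ Subgroup.centralizer _
        rw [Subgroup.mem_centralizer_iff]
        rintro _ rfl
        exact hfix
      rw [hfpf _ t.2 ht1] at h1
      exact h1)
    haveI : IsMulCommutative K := by
      refine ⟨⟨fun a b => Subtype.ext ?_⟩⟩
      have h3 := hinv _ (mul_mem a.2 b.2)
      have h4 : (t : G) * ((a : G) * b) * (t : G)⁻¹ =
          ((t : G) * a * (t : G)⁻¹) * ((t : G) * b * (t : G)⁻¹) := by group
      rw [h4, hinv _ a.2, hinv _ b.2, ← mul_inv_rev] at h3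
      exact (inv_injective h3).symm
    infer_instance
  · right
    haveI hZ : IsZGroup H := by
      refine ⟨fun p hp P => ?_⟩
      haveI : Fact p.Prime := ⟨hp⟩
      rcases Cfsg.Agent.S0040.result K H hc hK hfpf p P with h | ⟨n, ⟨e⟩⟩
      · exact h
      · exfalso
        apply h2
        have h3 : Nat.card (P : Subgroup H) = 4 * 2 ^ n := by
          rw [Nat.card_congr e.toEquiv, Nat.card_eq_fintype_card, QuaternionGroup.card]
        have h4 : Nat.card (P : Subgroup H) ∣ Nat.card H := Subgroup.card_subgroup_dvd_card _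
        exact (Dvd.intro_left (2 * 2 ^ n) (by rw [h3]; ring)).trans h4
    infer_instance

/-- A normal subgroup of a Frobenius group lies in the kernel or contains it. -/
theorem normal_dichotomy (K₀ H₀ : Subgroup G) (hset : (K₀ : Set G) = Cfsg.frobeniusKernel H₀)
    [hKn : K₀.Normal] (hfpf₀ : ∀ h ∈ H₀, h ≠ 1 → K₀ ⊓ Subgroup.centralizer {h} = ⊥)
    (N : Subgroup G) [hN : N.Normal] : N ≤ K₀ ∨ K₀ ≤ N := by
  classical
  by_cases h : N ≤ K₀
  · exact Or.inl h
  right
  obtain ⟨x, hxN, hxK⟩ := SetLike.not_le_iff_exists.mp h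
  have hxK' : x ∉ Cfsg.frobeniusKernel H₀ := by
    rw [← hset]
    exact hxK
  simp only [Cfsg.frobeniusKernel, Set.mem_setOf_eq, not_or, not_forall, not_not] at hxK'
  obtain ⟨hx1, g, hg⟩ := hxK'
  have hg' := mem_conj_smul_iff.mp hg
  have hh1 : g⁻¹ * x * g ≠ 1 := by
    intro h1
    apply hx1
    have : x = g * (g⁻¹ * x * g) * g⁻¹ := by group
    rw [this, h1]
    group
  have hC : ∀ u ∈ K₀, u * x = x * u → u = 1 := by
    intro u hu hux
    have h1 : g⁻¹ * u * g ∈ K₀ := by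
      have := hKn.conj_mem u hu g⁻¹
      simpa using this
    have h2 : g⁻¹ * u * g ∈ K₀ ⊓ Subgroup.centralizer {g⁻¹ * x * g} := by
      refine ⟨h1, ?_⟩
      show g⁻¹ * u * g ∈ Subgroup.centralizer _
      rw [Subgroup.mem_centralizer_iff]
      rintro _ rfl
      calc g⁻¹ * x * g * (g⁻¹ * u * g) = g⁻¹ * (x * u) * g := by group
        _ = g⁻¹ * (u * x) * g := by rw [hux]
        _ = _ := by group
    rw [hfpf₀ _ hg' hh1, Subgroup.mem_bot] at h2
    have : u = g * (g⁻¹ * u * g) * g⁻¹ := by group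
    rw [this, h2]
    group
  let ψ : K₀ → K₀ := fun v => ⟨(v : G)⁻¹ * (x * v * x⁻¹), mul_mem (inv_mem v.2) (hKn.conj_mem _ v.2 x)⟩
  have hψ : Function.Injective ψ := by
    intro v w hvw
    have h1 : (v : G)⁻¹ * (x * v * x⁻¹) = (w : G)⁻¹ * (x * w * x⁻¹) := congrArg Subtype.val hvw
    have h4 : (v : G)⁻¹ * x * v = (w : G)⁻¹ * x * w := by
      have h4' : ((v : G)⁻¹ * (x * v * x⁻¹)) * x = ((w : G)⁻¹ * (x * w * x⁻¹)) * x := by rw [h1]
      simpa [mul_assoc] using h4'
    have h3 : ((w : G) * (v : G)⁻¹) * x = x * ((w : G) * (v : G)⁻¹) := by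
      calc ((w : G) * (v : G)⁻¹) * x = (w : G) * ((v : G)⁻¹ * x * v) * (v : G)⁻¹ := by group
        _ = (w : G) * ((w : G)⁻¹ * x * w) * (v : G)⁻¹ := by rw [h4]
        _ = _ := by group
    have h5 := hC _ (mul_mem w.2 (inv_mem v.2)) h3
    exact Subtype.ext (mul_inv_eq_one.mp h5).symm
  have hsurj := Finite.injective_iff_surjective.mp hψ
  intro u hu
  obtain ⟨v, hv⟩ := hsurj ⟨u, hu⟩
  have hv' : (v : G)⁻¹ * (x * v * x⁻¹) = u := congrArg Subtype.val hv
  rw [← hv']
  have e : (v : G)⁻¹ * (x * v * x⁻¹) = ((v : G)⁻¹ * x * v) * x⁻¹ := by group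
  rw [e]
  apply mul_mem _ (inv_mem hxN)
  have := hN.conj_mem x hxN (v : G)⁻¹
  simpa using this

/-- Invariant non-trivial abelian subgroups for coprime action. -/
theorem exists_invariant_abelian (A K : Subgroup G) (hAK : A ≤ Subgroup.normalizer (K : Set G))
    (hcop : (Nat.card A).Coprime (Nat.card K)) (hsolv : Group.IsSolvable A ∨ Group.IsSolvable K)
    (hK : K ≠ ⊥) : ∃ V : Subgroup G, V ≤ K ∧ V ≠ ⊥ ∧ IsMulCommutative V ∧
      A ≤ Subgroup.normalizer (V : Set G) := by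
  classical
  have hKcard : Nat.card K ≠ 1 := by
    intro h
    exact hK ((Subgroup.eq_bot_iff_card K).mpr h)
  obtain ⟨s, hs, hsd⟩ := Nat.exists_prime_and_dvd hKcard
  haveI : Fact s.Prime := ⟨hs⟩
  obtain ⟨P, hP⟩ := exists_invariant_sylow hAK hcop hsolv s
  let P₀ : Subgroup G := (P : Subgroup K).map K.subtype
  have hP₀K : P₀ ≤ K := Subgroup.map_subtype_le _
  have hP₀p : IsPGroup s P₀ := P.isPGroup'.map _
  have hcP₀ : Nat.card P₀ = Nat.card (P : Subgroup K) :=
    Nat.card_congr ((P : Subgroup K).equivMapOfInjective _ K.subtype_injective).toEquiv.symm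
  have hsP : s ∣ Nat.card P₀ := by
    rw [hcP₀, P.card_eq_multiplicity]
    exact dvd_pow_self s ((Nat.Prime.factorization_pos_of_dvd hs Nat.card_pos.ne' hsd).ne')
  haveI : Nontrivial P₀ := by
    apply Finite.one_lt_card_iff_nontrivial.mp
    have := Nat.le_of_dvd Nat.card_pos hsP
    have := hs.two_le
    omega
  haveI := hP₀p.center_nontrivial
  obtain ⟨z, hz⟩ := exists_ne (1 : Subgroup.center P₀)
  let Z₀ : Subgroup G := P₀ ⊓ Subgroup.centralizer (P₀ : Set G)
  have hZ₀K : Z₀ ≤ K := inf_le_left.trans hP₀K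
  have hZ₀ab : IsMulCommutative Z₀ := by
    refine ⟨⟨fun a b => Subtype.ext ?_⟩⟩
    have h1 : (b : G) ∈ Subgroup.centralizer (P₀ : Set G) := b.2.2
    exact (Subgroup.mem_centralizer_iff.mp h1 a a.2.1)
  have hZ₀ne : Z₀ ≠ ⊥ := by
    intro h
    have h1 : ((z : P₀) : G) ∈ Z₀ := by
      refine ⟨(z : P₀).2, ?_⟩
      show ((z : P₀) : G) ∈ Subgroup.centralizer _
      rw [Subgroup.mem_centralizer_iff]
      intro a ha
      have := Subgroup.mem_center_iff.mp z.2 ⟨a, ha⟩
      exact congrArg Subtype.val this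
    rw [h, Subgroup.mem_bot] at h1
    exact hz (Subtype.ext (Subtype.ext h1))
  refine ⟨Z₀, hZ₀K, hZ₀ne, hZ₀ab, ?_⟩
  intro u hu
  have h1 := hP hu
  exact Cfsg.Agent.H14.mem_normalizer_inf h1 (normalizer_le_normalizer_centralizer _ h1)

/-- The kernel of one Frobenius structure is not properly contained in the kernel of another. -/
theorem false_of_lt (K H K₀ H₀ : Subgroup G) [hKn : K.Normal] [hK₀n : K₀.Normal]
    (hc : K.IsComplement' H) (hc₀ : K₀.IsComplement' H₀) (hH : H ≠ ⊥) (hK : K ≠ ⊥) (hK₀ : K₀ ≠ ⊥)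
    (hfpf : ∀ h ∈ H, h ≠ 1 → K ⊓ Subgroup.centralizer {h} = ⊥)
    (hfpf₀ : ∀ h ∈ H₀, h ≠ 1 → K₀ ⊓ Subgroup.centralizer {h} = ⊥)
    (hle : K₀ ≤ K) (hne : K₀ ≠ K) : False := by
  classical
  have hHK : H ≤ Subgroup.normalizer (K : Set G) := by
    rw [Subgroup.normalizer_eq_top_iff.mpr hKn]
    exact le_top
  have hH₀K₀ : H₀ ≤ Subgroup.normalizer (K₀ : Set G) := by
    rw [Subgroup.normalizer_eq_top_iff.mpr hK₀n]
    exact le_top
  have hcop := frob_coprime K H hHK hfpf
  have hcop₀ := frob_coprime K₀ H₀ hH₀K₀ hfpf₀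
  have hcopK₀H : (Nat.card K₀).Coprime (Nat.card H) :=
    (Nat.Coprime.coprime_dvd_right (Subgroup.card_dvd_of_le hle) hcop).symm
  have hsolv : Group.IsSolvable K₀ ∨ Group.IsSolvable H := by
    rcases frob_solvable K H hc hK hfpf with h | h
    · exact Or.inl (isSolvable_of_le hle h)
    · exact Or.inr h
  let L : Subgroup G := H ⊔ K₀
  let H₁ : Subgroup G := L ⊓ H₀
  have hH₁K₀ : H₁ ⊔ K₀ = L := by
    apply le_antisymm
    · exact sup_le inf_le_left le_sup_right
    · intro l hl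
      have h1 : l ∈ K₀ ⊔ H₀ := by rw [hc₀.sup_eq_top]; trivial
      rw [Subgroup.mem_sup_of_normal_left] at h1
      obtain ⟨k, hk, h, hh, rfl⟩ := h1
      have h2 : h ∈ L := by
        have e : h = k⁻¹ * (k * h) := by group
        rw [e]
        exact mul_mem (inv_mem ((le_sup_right : K₀ ≤ L) hk)) hl
      have h3 : h ∈ H₁ := ⟨h2, hh⟩
      have h4 := mul_mem ((le_sup_right : K₀ ≤ H₁ ⊔ K₀) hk) ((le_sup_left : H₁ ≤ H₁ ⊔ K₀) h3)
      exact h4
  have hinf₁ : H₁ ⊓ K₀ = ⊥ := by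
    rw [eq_bot_iff]
    rintro x ⟨⟨_, hx⟩, hx'⟩
    exact Subgroup.disjoint_def.mp hc₀.disjoint hx' hx
  have hinfH : H ⊓ K₀ = ⊥ := by
    rw [eq_bot_iff]
    rintro x ⟨hx, hx'⟩
    exact Subgroup.disjoint_def.mp hc.disjoint (hle hx') hx
  have hcard1 := Cfsg.Agent.H18.card_sup_mul_card_inf H₁ K₀
  have hcard2 := Cfsg.Agent.H18.card_sup_mul_card_inf H K₀
  rw [hH₁K₀, hinf₁, Subgroup.card_bot, mul_one] at hcard1
  rw [hinfH, Subgroup.card_bot, mul_one] at hcard2
  have hcardH₁ : Nat.card H₁ = Nat.card H := by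
    have hpos : 0 < Nat.card K₀ := Nat.card_pos
    apply Nat.eq_of_mul_eq_mul_right hpos
    rw [← hcard1]
    exact hcard2
  obtain ⟨g, hgL, hg⟩ := conj_rel (L := L) (N := K₀) (H := H) (K := H₁) le_sup_right
    (by rw [Subgroup.normalizer_eq_top_iff.mpr hK₀n]; exact le_top) le_sup_left inf_le_left hcopK₀H
    (by rw [mul_comm]; exact hcard2.symm) hcardH₁ hsolv
  -- an element of prime order in `H`
  have hHcard : Nat.card H ≠ 1 := fun h => hH ((Subgroup.eq_bot_iff_card H).mpr h)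
  obtain ⟨q, hq, hqd⟩ := Nat.exists_prime_and_dvd hHcard
  haveI : Fact q.Prime := ⟨hq⟩
  obtain ⟨y₀, hy₀⟩ := exists_prime_orderOf_dvd_card' q hqd
  let y : G := g * y₀ * g⁻¹
  have hyH₁ : y ∈ H₁ := by
    rw [← hg]
    exact conj_mem_conj_smul y₀.2
  have hyH₀ : y ∈ H₀ := hyH₁.2
  have hyo : orderOf y = q := by
    have h1 := MulEquiv.orderOf_eq (MulAut.conj g) (y₀ : G)
    rw [MulAut.conj_apply] at h1
    rw [h1, Subgroup.orderOf_coe, hy₀]
  let X : Subgroup G := K ⊓ H₀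
  have hXne : X.subgroupOf H₀ ≠ ⊥ := by
    obtain ⟨x, hxK, hxK₀⟩ := SetLike.exists_of_lt (lt_of_le_of_ne hle hne)
    have h1 : x ∈ K₀ ⊔ H₀ := by rw [hc₀.sup_eq_top]; trivial
    rw [Subgroup.mem_sup_of_normal_left] at h1
    obtain ⟨k, hk, h, hh, rfl⟩ := h1
    have h2 : h ∈ K := by
      have e : h = k⁻¹ * (k * h) := by group
      rw [e]
      exact mul_mem (inv_mem (hle hk)) hxK
    have h3 : h ≠ 1 := by
      rintro rfl
      apply hxK₀
      simpa using hk
    intro hbot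
    have h4 : (⟨h, hh⟩ : H₀) ∈ X.subgroupOf H₀ := ⟨h2, hh⟩
    rw [hbot, Subgroup.mem_bot] at h4
    exact h3 (congrArg Subtype.val h4)
  have hfree : ∀ s ∈ X.subgroupOf H₀, (⟨y, hyH₀⟩ : H₀) * s * (⟨y, hyH₀⟩ : H₀)⁻¹ = s → s = 1 := by
    intro s hs he
    have he' : y * (s : G) * y⁻¹ = s := congrArg Subtype.val he
    have hsK : (s : G) ∈ K := hs.1
    have h1 : g⁻¹ * s * g ∈ K := by
      have := hKn.conj_mem _ hsK g⁻¹
      simpa using this
    have hy₀1 : (y₀ : G) ≠ 1 := by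
      intro h
      have h2 : y₀ = 1 := Subtype.ext h
      rw [h2, orderOf_one] at hy₀
      exact hq.one_lt.ne hy₀
    have h2 : g⁻¹ * s * g ∈ K ⊓ Subgroup.centralizer {(y₀ : G)} := by
      refine ⟨h1, ?_⟩
      show g⁻¹ * s * g ∈ Subgroup.centralizer _
      rw [Subgroup.mem_centralizer_iff]
      rintro _ rfl
      have e1 : (s : G) * y = y * s := (mul_inv_eq_iff_eq_mul.mp he').symm
      have e2 : y = g * y₀ * g⁻¹ := rfl
      calc (y₀ : G) * (g⁻¹ * s * g) = g⁻¹ * (y * s) * g := by rw [e2]; group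
        _ = g⁻¹ * (s * y) * g := by rw [e1]
        _ = _ := by rw [e2]; group
    rw [hfpf _ y₀.2 hy₀1, Subgroup.mem_bot] at h2
    apply Subtype.ext
    show (s : G) = 1
    have : (s : G) = g * (g⁻¹ * s * g) * g⁻¹ := by group
    rw [this, h2]
    group
  have hyn : (⟨y, hyH₀⟩ : H₀) ∈ Subgroup.normalizer ((X.subgroupOf H₀ : Subgroup H₀) : Set H₀) := by
    rw [Subgroup.mem_normalizer_iff]
    intro s
    have hmemX : ∀ s : H₀, s ∈ X.subgroupOf H₀ ↔ (s : G) ∈ K := fun s => ⟨fun h => h.1, fun h => ⟨h, s.2⟩⟩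
    rw [hmemX, hmemX]
    show (s : G) ∈ K ↔ y * (s : G) * y⁻¹ ∈ K
    constructor
    · exact fun h => hKn.conj_mem _ h y
    · intro h
      have := hKn.conj_mem _ h y⁻¹
      simpa [mul_assoc] using this
  -- the invariant abelian subgroup
  have hsolv₀ : Group.IsSolvable H₀ ∨ Group.IsSolvable K₀ := (frob_solvable K₀ H₀ hc₀ hK₀ hfpf₀).symm
  obtain ⟨V, hVK, hVne, hVab, hVinv⟩ := exists_invariant_abelian H₀ K₀ hH₀K₀ hcop₀ hsolv₀ hK₀
  haveI := hVab
  have hW : ∃ v : V, v ≠ 1 := Subgroup.ne_bot_iff_exists_ne_one.mp hVne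
  let ρ : H₀ →* MulAut V := V.normalizerMonoidHom.comp (Subgroup.inclusion hVinv)
  have hρ : ∀ a : H₀, a ≠ 1 → ∀ v : V, ρ a v = v → v = 1 := by
    intro a ha v hv
    have h1 : (a : G) * v * (a : G)⁻¹ = v := congrArg Subtype.val hv
    have h2 : (v : G) ∈ K₀ ⊓ Subgroup.centralizer {(a : G)} := by
      refine ⟨hVK v.2, ?_⟩
      show (v : G) ∈ Subgroup.centralizer _
      rw [Subgroup.mem_centralizer_iff]
      rintro _ rfl
      exact mul_inv_eq_iff_eq_mul.mp h1
    rw [hfpf₀ a a.2 (fun h => ha (Subtype.ext h))] at h2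
    exact Subtype.ext h2
  have hcopXV : (Nat.card (X.subgroupOf H₀)).Coprime (Nat.card V) :=
    Nat.Coprime.coprime_dvd_left (Subgroup.card_subgroup_dvd_card _)
      (Nat.Coprime.coprime_dvd_right (Subgroup.card_dvd_of_le hVK) hcop₀)
  exact false_of_frobenius_action ρ hρ hW (X.subgroupOf H₀) hXne hq
    (by rw [← Subgroup.orderOf_coe]; exact hyo) hyn hfree hcopXV

/-- All Frobenius complements of a finite group are conjugate. -/
theorem frobenius_complements_conj (H H₀ : Subgroup G) (hH : Cfsg.IsFrobeniusComplement H)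
    (hH₀ : Cfsg.IsFrobeniusComplement H₀) : ∃ g : G, MulAut.conj g • H₀ = H := by
  classical
  obtain ⟨K, hKs, hKn, hc⟩ := frobenius_theorem H hH
  obtain ⟨K₀, hK₀s, hK₀n, hc₀⟩ := frobenius_theorem H₀ hH₀
  haveI := hKn
  haveI := hK₀n
  have hKne : K ≠ ⊥ := by
    intro h
    apply hH.2.1
    have h1 := hc.sup_eq_top
    rwa [h, bot_sup_eq] at h1
  have hK₀ne : K₀ ≠ ⊥ := by
    intro h
    apply hH₀.2.1
    have h1 := hc₀.sup_eq_top
    rwa [h, bot_sup_eq] at h1
  have hfpf := (Cfsg.Agent.S0039.result K H hc hKne hH.1).mp hH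
  have hfpf₀ := (Cfsg.Agent.S0039.result K₀ H₀ hc₀ hK₀ne hH₀.1).mp hH₀
  have heq : K = K₀ := by
    rcases normal_dichotomy K₀ H₀ hK₀s hfpf₀ K with h | h
    · by_contra hne
      exact false_of_lt K₀ H₀ K H hc₀ hc hH₀.1 hK₀ne hKne hfpf₀ hfpf h hne
    · by_contra hne
      exact false_of_lt K H K₀ H₀ hc hc₀ hH.1 hKne hK₀ne hfpf hfpf₀ h (fun e => hne e.symm)
  subst heq
  have hcopK : (Nat.card K).Coprime K.index := by
    have hHK : H ≤ Subgroup.normalizer (K : Set G) := by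
      rw [Subgroup.normalizer_eq_top_iff.mpr hKn]
      exact le_top
    have h1 := frob_coprime K H hHK hfpf
    have h2 : K.index = Nat.card H := by
      have h3 := hc.card_mul
      have h4 := K.card_mul_index
      exact Nat.eq_of_mul_eq_mul_left Nat.card_pos (h4.trans h3.symm)
    rw [h2]
    exact h1.symm
  rcases frob_solvable K H hc hKne hfpf with h | h
  · exact sz_conj_solvable_normal _ G rfl K h hcopK H₀ H hc₀ hc
  · obtain ⟨g, hg⟩ := sz_conj_solvable_complement _ G rfl K hcopK H H₀ hc hc₀ h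
    refine ⟨g⁻¹, ?_⟩
    rw [← hg, map_inv, inv_smul_smul]

end Cfsg.Agent.H01
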