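import Mathlib
import Cfsg.Prelude.Def_ChevG2
import Cfsg.Agent.S3438
import Cfsg.Agent.Lib.H01.PtIso

/-! `G₂(2)′ ≅ PSU₃(3)`: the tables. The group acts on sixty-three vectors of the adjoint module, labelled by the
non-isotropic points of the unitary plane over the field with nine elements. -/

set_option autoImplicit false
open Matrix

namespace Cfsg.Agent.H01.G2U3
open Cfsg.Lie Cfsg.Agent.H16 Cfsg.Agent.S3438

/-- The bit position of an index. -/
def idxN : chevG2.Idx → ℕ
  | Sum.inl i => i.val
  | Sum.inr u => 2 + u.val

/-- The vector with a given bit pattern. -/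
def toB (n : ℕ) : chevG2.Idx → ZMod 2 := fun k => if n.testBit (idxN k) then 1 else 0

/-- The element of `E9` with a given code. -/
def ofN (n : ℕ) : E9 := ⟨((n % 3 : ℕ) : ZMod 3), ((n / 3 : ℕ) : ZMod 3)⟩

/-- The code of an element of `E9`. -/
def cd (a : E9) : ℕ := a.re.val + 3 * a.im.val

/-- The code of a vector. -/
def vcode (v : Fin 3 → E9) : ℕ := cd (v 0) + 9 * cd (v 1) + 81 * cd (v 2)

/-- The table of the points. -/
def Tn : ℕ := nat_lit 0x3cfa0000000000000000000000000000740000000000080000000f12d0807e080000000000000000000000000000000800000000000000000000000000000001fa00000004a90000000015c02f200500000000003b760000000063abd47db40000000000c42c0000002448c60aa80000123fdfb8000955408400000000000000000000000000000000000000000080000000000000000000000000000003cfa0000000af500000001f6d063bb76000000000000000000000000000000001fa0000000000000000000000000000740000000031820000000aa02448c42c000000000002f0000000200505712a40000000000108000000007e0bc4b0020000955523f0000084dfb80000000000000000000000040000000f6f6aa591740000000000402c0000002548060ba80000000cef7c000e8941f60000000000000000000004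23c0000003777d9b1fd5000000000000800000000be09d4b0420000489210d0001df7bb7800000000000002bf902e000076e36f900000000000000840100000030000400000000000000000000000000000000000000000002fbb0000000000000000000000000000740000000000000000000000000000001fa0000000aa000000003182c42e44800000000000000000000000000000003cfa000000000000000000000000000080000000001f6d0000000af53b76063800000000007e0800000010800023c4b00000000002005000000002f12a40570000dfb8084000123f95540000000000000000000000000000000000000000001fa00000000000000000000000000008000000000015c00000004a9200502f0000000000000000000000000000000074000000000000000000000000000003cfa0000000f12c00000000087e09080000000000024480000000c42ea80c608000000000006380000003b767db6bd400000849554000dfb923f000000000000000000000be0800000000800421d4b000000000037770000000423dfd5d9b0000bb79df7000210d48900000000000000000000025480000000402fa8006080000000000f6f400000000049176aa500001f6e894000ef7c00c00000000000000040300000010008400000000000000036f976e000002e2bf9000000000000000000000000000000000000000000beec0000003a800000000060900b9520000000000004200000001d4b0202f82000100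00400000840300000000000000000000000091740000002aa50013dbd00000000001fd50000000d9b108fdddc00002e36f90002bf976e000000000000003bdf07d80000033a25000000000000008436ede000122477dc000000000000000000000000000000000000000002fbb0000000d9b00000001fd5dddd08f00000000002aa500000009177dbd001000076e2bf900036f902e0000000000000000000001d4b00000000422f820200000000000006080000003a80952100b0003000840000004010000000000000000077dd2240002ede843400000000000003a25003000007dbbdf000000000000000000000000000000000000000000beeeeefc2140007cf8154000000000000007cfaeef0000154c2140000000000000000000000000000000000000000012bbc2141540002eef7cf8000000000000001547cf8000c216eef0000000000000000000000000000000000000000004aec00000000000000000000000000012bb00000000000000000000000000004aec0000003d000000000f403d00f400000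

/-- The points. -/
def O (v : Fin 3 → E9) : chevG2.Idx → ZMod 2 := toB ((Tn >>> (14 * vcode v)) % 16384)

/-- The matrix with given columns, as bit patterns. -/
def decM (C : List ℕ) : Matrix chevG2.Idx chevG2.Idx (ZMod 2) :=
  Matrix.of fun i j => if (C.getD (idxN j) 0).testBit (idxN i) then 1 else 0

/-- The roots used. -/
def rr : Fin 4 → Fin chevG2.nroots := ![⟨0, by decide +kernel⟩, ⟨11, by decide +kernel⟩, ⟨2, by decide +kernel⟩, ⟨9, by decide +kernel⟩]

/-- The columns of the root elements used. -/
def rC : Fin 4 → List ℕ := ![[1, 6, 4, 8, 16, 32, 64, 128, 264, 512, 1040, 2080, 4224, 8197], [1, 8194, 8197, 264, 1040, 2080, 64, 4224, 256, 512, 1024, 2048, 4096, 8192], [17, 2, 4, 8, 16, 36, 72, 128, 256, 516, 1032, 2066, 4644, 9288], [2049, 2, 4644, 9288, 2066, 4128, 8256, 128, 256, 4608, 9216, 2048, 4096, 8192]]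

/-- The columns of the two products. -/
def pC : Fin 2 → List ℕ := ![[1, 8195, 8192, 256, 1024, 2048, 64, 4096, 264, 512, 1040, 2080, 4224, 8197], [2051, 2, 4096, 8192, 2048, 4608, 9216, 128, 256, 4128, 8256, 2066, 4644, 9288]]

/-- The columns of the two commutators. -/
def aC : Fin 2 → List ℕ := ![[1, 7, 8197, 264, 1040, 2080, 64, 4224, 8, 512, 16, 32, 128, 4], [19, 2, 4644, 9288, 2066, 516, 1032, 128, 256, 36, 72, 16, 4, 8]]

/-- The entries of the root elements. -/
def ent (r : Fin 4) (i j : chevG2.Idx) : ZMod 2 := chevG2.xMat (ZMod 2) (rr r) 1 i j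

/-- The entries of the decoded root elements. -/
def dent (C : List ℕ) (i j : chevG2.Idx) : ZMod 2 := decM C i j

/-- The Kronecker symbol. -/
def dl (i j : chevG2.Idx) : ZMod 2 := if i = j then 1 else 0

lemma ent_eq : ∀ (r : Fin 4) (i j : chevG2.Idx), ent r i j = dent (rC r) i j := by
  decide +kernel

lemma xMat_eq (r : Fin 4) : chevG2.xMat (ZMod 2) (rr r) 1 = decM (rC r) := by
  ext i j
  exact ent_eq r i j

/-- A product, entrywise. -/
def prEnt (C C' : List ℕ) (i j : chevG2.Idx) : ZMod 2 := ∑ k, dent C i k * dent C' k j

lemma sq_ent : ∀ (r : Fin 4) (i j : chevG2.Idx), prEnt (rC r) (rC r) i j = dl i j := by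
  decide +kernel

lemma decM_sq (r : Fin 4) : decM (rC r) * decM (rC r) = 1 := by
  ext i j
  rw [Matrix.mul_apply, Matrix.one_apply]
  exact sq_ent r i j

/-- The first factors. -/
def i1 : Fin 2 → Fin 4 := ![0, 2]

/-- The second factors. -/
def i2 : Fin 2 → Fin 4 := ![1, 3]

lemma pr_ent : ∀ (s : Fin 2) (i j : chevG2.Idx), prEnt (rC (i1 s)) (rC (i2 s)) i j = dent (pC s) i j := by
  decide +kernel

lemma pr_sq_ent : ∀ (s : Fin 2) (i j : chevG2.Idx), prEnt (pC s) (pC s) i j = dent (aC s) i j := by
  decide +kernel

lemma decM_pr (s : Fin 2) : decM (rC (i1 s)) * decM (rC (i2 s)) = decM (pC s) := by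
  ext i j
  rw [Matrix.mul_apply]
  exact pr_ent s i j

lemma decM_pr_sq (s : Fin 2) : decM (pC s) * decM (pC s) = decM (aC s) := by
  ext i j
  rw [Matrix.mul_apply]
  exact pr_sq_ent s i j

/-- The matrices of the two commutators. -/
def aM (s : Fin 2) : Matrix chevG2.Idx chevG2.Idx (ZMod 2) := decM (aC s)

/-- The images in the unitary group. -/
def bM : Fin 2 → Matrix (Fin 3) (Fin 3) E9 := ![!![ofN 2, ofN 4, ofN 1; ofN 3, ofN 5, ofN 6; ofN 8, ofN 0, ofN 8], !![ofN 4, ofN 7, ofN 0; ofN 8, ofN 7, ofN 0; ofN 0, ofN 0, ofN 1]]

lemma act_check : ∀ (s : Fin 2) (x y z : E9) (k : chevG2.Idx),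
    (aM s *ᵥ O ![x, y, z]) k = O (bM s *ᵥ ![x, y, z]) k := by
  decide +kernel

/-- The vector with a given code. -/
def ofV (c : ℕ) : Fin 3 → E9 := ![ofN (c % 9), ofN (c / 9 % 9), ofN (c / 81)]

/-- The spanning data. -/
def spanT : List (List ℕ) := [[564, 420, 693], [420, 693, 502, 127, 354, 309], [564], [354], [564, 521, 656, 502, 127, 309], [420, 693, 280, 502, 240], [656, 502, 486, 354, 309, 705, 129], [127], [354, 129], [564, 420, 521, 693, 280, 240], [420, 521, 693, 280, 656, 486, 354, 129], [564, 420, 521, 280, 502, 127], [502], [693]]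

/-- The spanning data. -/
def spanL (k : chevG2.Idx) : List (Fin 3 → E9) := (spanT.getD (idxN k) []).map ofV

lemma spanL_sum' : ∀ (k j : chevG2.Idx), ((spanL k).map O).sum j = dl j k := by
  decide +kernel

lemma spanL_sum (k : chevG2.Idx) : ((spanL k).map O).sum = Pi.single k 1 := by
  funext j
  rw [spanL_sum' k j, Pi.single_apply]
  rfl

end Cfsg.Agent.H01.G2U3
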