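import Mathlib
import Cfsg.Agent.Lib.H01.G2U3A

/-! `G₂(2)′ ≅ PSU₃(3)`: two explicit elements generate the unitary group. -/

set_option autoImplicit false
open Matrix

namespace Cfsg.Agent.H01.G2U3
open Cfsg.Lie Cfsg.Agent.H16 Cfsg.Agent.S3438

/-- The norm. -/
noncomputable def nm (x y z : E9) : E9 := x * x ^ 3 + y * y ^ 3 + z * z ^ 3

/-- The depth table for the first step. -/
def D1 : ℕ := nat_lit 0x4000000000050005001657800000000000c0000000000e000c00244d000080016d500004800758c0c60104000000000000000500000000001c006000c42c00000000000d000000000050006000e9580004000762c0002c006a1405240a38000000080014a58000480096a40d30145000000018001dc90000c000c6501080354000010580eb000004240d3000000000000000300000000000c0000000000a001800218d00000000000340000000001800280061ce00016001d6e0000d001654012603d6000000000000000a0000000000600090018b48000000000012000000000080018002d4d0000a0018a50000480096a40c5810d000000014002147000050018a3012c0198000000024002a5a0001400348a0248041c0000185035400000b58108000000000000000700060014a180002000d32c0d600a8000000012001d8b0000f00129580a802d6000008600e80000061c0b48000000000000002c00400073b40002c00505202280c4800000006001a3700007000a6a80770167000007a0083000002d202b00000000000000020440162000003a80a18000000000000000968025400000c081290000000000000005000000000020000000000160024004a800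

/-- The depth table for the second step. -/
def D2 : ℕ := nat_lit 0x50000000000080000000000000000000008000000000020000000000000000000000000000000000000000000000000000000080000000000800000000000000000000050000000000200000000000000000000000000000000000000000000000000000000000000000000000000000000000000000000000000000000000000000000000000000000000000000000000000c00000000008000000000020000000000000000000001400000000008000000000000000000000000000000000000000000000000000000050000000000200000000000000000000008000000000020000000000000000000000000000000000000000000000000000000000000000000000000000000000000000000000000000000000000000000000000000000000000000000000000300000000000000000000000000000000000000000000000000000000000000000000000000000000000000000000000000000c00000000000000000000000000000000000000000000000000000000000000000000000000000000000000000000000000006000000000000000000000000000000000c00000000000000000000000000000000300000000000c0000000000000000000000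

/-- The depth for the first step. -/
def d1 (v : Fin 3 → E9) : ℕ := (D1 >>> (5 * vcode v)) % 32

/-- The depth for the second step. -/
def d2 (v : Fin 3 → E9) : ℕ := (D2 >>> (5 * vcode v)) % 32

/-- The matrices fixing the first basis vector. -/
noncomputable def kM : Fin 2 → Matrix (Fin 3) (Fin 3) E9 := ![!![ofN 1, ofN 0, ofN 0; ofN 0, ofN 4, ofN 5; ofN 0, ofN 4, ofN 7], !![ofN 1, ofN 0, ofN 0; ofN 0, ofN 5, ofN 4; ofN 0, ofN 5, ofN 8]]

lemma kM_0 : kM 0 = bM 0 * bM 1 * bM 0 * bM 0 := by
  decide +kernel

lemma kM_1 : kM 1 = bM 0 * bM 0 * bM 1 * bM 0 * bM 1 * bM 0 * bM 1 := by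
  decide +kernel

lemma bM_det : ∀ s, (bM s).det = 1 := by
  decide +kernel

lemma bM_u : ∀ s, (bM s)ᵀ * (bM s).map (· ^ 3) = 1 := by
  decide +kernel

lemma check1 : ∀ x y z : E9, nm x y z = 1 → (x = 1 ∧ y = 0 ∧ z = 0) ∨
    ∃ s : Fin 2, nm ((bM s *ᵥ ![x, y, z]) 0) ((bM s *ᵥ ![x, y, z]) 1) ((bM s *ᵥ ![x, y, z]) 2) = 1 ∧
      d1 (bM s *ᵥ ![x, y, z]) < d1 ![x, y, z] := by
  decide +kernel

lemma check2 : ∀ y z : E9, nm 0 y z = 1 → (y = 1 ∧ z = 0) ∨
    ∃ s : Fin 2, (kM s *ᵥ ![0, y, z]) 0 = 0 ∧ nm 0 ((kM s *ᵥ ![0, y, z]) 1) ((kM s *ᵥ ![0, y, z]) 2) = 1 ∧
      d2 (kM s *ᵥ ![0, y, z]) < d2 ![0, y, z] := by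
  decide +kernel

lemma kM_e1 : ∀ s, kM s *ᵥ ![1, 0, 0] = ![1, 0, 0] := by
  decide +kernel

end Cfsg.Agent.H01.G2U3
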