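import Mathlib
import Cfsg.Agent.Lib.H01.G2U3B

/-! `G₂(2)′ ≅ PSU₃(3)`: every root element acts on the points as a semilinear map. -/

set_option autoImplicit false
open Matrix

namespace Cfsg.Agent.H01.G2U3
open Cfsg.Lie Cfsg.Agent.H16 Cfsg.Agent.S3438

/-- Cubing as a ring isomorphism. -/
noncomputable def frE : E9 ≃+* E9 where
  toFun x := x ^ 3
  invFun x := x ^ 3
  left_inv := by
    show ∀ x : E9, (x ^ 3) ^ 3 = x
    decide +kernel
  right_inv := by
    show ∀ x : E9, (x ^ 3) ^ 3 = x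
    decide +kernel
  map_mul' x y := mul_pow x y 3
  map_add' := by
    show ∀ x y : E9, (x + y) ^ 3 = x ^ 3 + y ^ 3
    decide +kernel

/-- The twist of a vector by a sign. -/
noncomputable def tw (ε : ℤˣ) (v : Fin 3 → E9) : Fin 3 → E9 := if ε = 1 then v else fun i => frE (v i)

/-- The columns of all root elements. -/
def allC : Fin 12 → List ℕ := ![[1, 6, 4, 8, 16, 32, 64, 128, 264, 512, 1040, 2080, 4224, 8197], [9, 10, 4, 8, 16, 32, 64, 132, 256, 528, 1024, 2112, 4107, 8448], [17, 2, 4, 8, 16, 36, 72, 128, 256, 516, 1032, 2066, 4644, 9288], [33, 34, 4, 8, 20, 32, 68, 128, 340, 640, 1059, 2176, 4096, 10880], [1, 66, 4, 8, 24, 40, 64, 184, 256, 577, 1280, 2304, 7424, 8192], [129, 2, 4, 12, 16, 32, 96, 128, 386, 512, 1536, 2048, 4096, 12288], [257, 2, 12, 8, 16, 96, 64, 386, 256, 1536, 1024, 2048, 12288, 8192], [1, 514, 4, 184, 144, 160, 577, 128, 7424, 512, 5120, 6144, 4096, 8192], [1025, 1026, 340, 8, 272,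 1059, 320, 10880, 256, 8704, 1024, 10240, 4096, 8192], [2049, 2, 4644, 9288, 2066, 4128, 8256, 128, 256, 4608, 9216, 2048, 4096, 8192], [4097, 4098, 132, 4107, 528, 32, 2112, 128, 8448, 512, 1024, 2048, 4096, 8192], [1, 8194, 8197, 264, 1040, 2080, 64, 4224, 256, 512, 1024, 2048, 4096, 8192]]

/-- The linear part of the action of the root elements. -/
def aTab : Fin 12 → Matrix (Fin 3) (Fin 3) E9 := ![!![ofN 1, ofN 8, ofN 2; ofN 5, ofN 0, ofN 5; ofN 2, ofN 8, ofN 1], !![ofN 1, ofN 2, ofN 8; ofN 2, ofN 1, ofN 8; ofN 5, ofN 5, ofN 0], !![ofN 3, ofN 1, ofN 4; ofN 1, ofN 8, ofN 1; ofN 4, ofN 1, ofN 3], !![ofN 3, ofN 5, ofN 6; ofN 5, ofN 0, ofN 5; ofN 6, ofN 5, ofN 3], !![ofN 7, ofN 2, ofN 3; ofN 2, ofN 3, ofN 4; ofN 3, ofN 4, ofN 6], !![ofN 1, ofN 4, ofN 2; ofN 7, ofN 0, ofN 7; ofN 2, ofN 4, ofN 1], !![ofN 0, ofN 8, ofN 7; ofN 5, ofN 1, ofN 6; ofN 4, ofN 3, ofN 1], !![ofN 8, ofN 1, ofN 6; ofN 1, ofN 4, ofN 1; ofN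 6, ofN 1, ofN 8], !![ofN 0, ofN 4, ofN 7; ofN 4, ofN 3, ofN 2; ofN 7, ofN 2, ofN 6], !![ofN 0, ofN 5, ofN 4; ofN 5, ofN 6, ofN 1; ofN 4, ofN 1, ofN 3], !![ofN 0, ofN 5, ofN 8; ofN 8, ofN 1, ofN 6; ofN 5, ofN 3, ofN 1], !![ofN 2, ofN 0, ofN 0; ofN 0, ofN 0, ofN 6; ofN 0, ofN 3, ofN 0]]

/-- The Frobenius part of the action of the root elements. -/
def eTab : Fin 12 → ℤˣ := ![1, 1, -1, -1, -1, 1, 1, -1, -1, -1, 1, 1]

/-- The entries of the root elements. -/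
def fent (r : Fin 12) (i j : chevG2.Idx) : ZMod 2 := chevG2.xMat (ZMod 2) r 1 i j

/-- The entries of the trivial root elements. -/
def fent0 (r : Fin 12) (i j : chevG2.Idx) : ZMod 2 := chevG2.xMat (ZMod 2) r 0 i j

lemma fent_eq : ∀ (r : Fin 12) (i j : chevG2.Idx), fent r i j = dent (allC r) i j := by
  decide +kernel

lemma fent0_eq : ∀ (r : Fin 12) (i j : chevG2.Idx), fent0 r i j = dl i j := by
  decide +kernel

lemma aTab_det : ∀ s, (aTab s).det = 1 := by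
  decide +kernel

lemma aTab_u : ∀ s, (aTab s)ᵀ * (aTab s).map (· ^ 3) = 1 := by
  decide +kernel

/-- The table entry of a vector. -/
def lk (v : Fin 3 → E9) : ℕ := (Tn >>> (14 * vcode v)) % 16384

/-- Applying a matrix given by its columns to a vector given as a bit pattern. -/
def mmA (C : List ℕ) (n : ℕ) : ℕ → ℕ
  | 0 => 0
  | m + 1 => mmA C n m ^^^ (if n.testBit m then C.getD m 0 else 0)

lemma toB_xor (a b : ℕ) (k : chevG2.Idx) : toB (a ^^^ b) k = toB a k + toB b k := by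
  unfold toB
  rw [Nat.testBit_xor]
  cases a.testBit (idxN k) <;> cases b.testBit (idxN k) <;> decide

lemma mmA_bit (C : List ℕ) (n : ℕ) (k : chevG2.Idx) (m : ℕ) :
    toB (mmA C n m) k = ∑ j ∈ Finset.range m,
      (if (C.getD j 0).testBit (idxN k) then (1 : ZMod 2) else 0) * (if n.testBit j then 1 else 0) := by
  induction m with
  | zero =>
    simp [mmA, toB]
  | succ m ih =>
    rw [Finset.sum_range_succ, ← ih, mmA, toB_xor]
    congr 1
    by_cases h : n.testBit m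
    · simp [h, toB]
    · simp [h, toB]

lemma mulVec_decM (C : List ℕ) (n : ℕ) (k : chevG2.Idx) : (decM C *ᵥ toB n) k = toB (mmA C n 14) k := by
  rw [mmA_bit]
  show ∑ j : chevG2.Idx, decM C k j * toB n j = _
  rw [Fintype.sum_sum_type]
  have h := Finset.sum_range_add (fun j => (if (C.getD j 0).testBit (idxN k) then (1 : ZMod 2) else 0) * (if n.testBit j then 1 else 0)) 2 12
  rw [show (14 : ℕ) = 2 + 12 from rfl, h]
  congr 1

lemma root_check0 : ∀ (r : Fin 12) (x y z : E9),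
    mmA (allC r) (lk ![x, y, z]) 14 = lk (aTab r *ᵥ tw (eTab r) ![x, y, z]) := by
  decide +kernel

lemma root_check (r : Fin 12) (x y z : E9) (k : chevG2.Idx) :
    (decM (allC r) *ᵥ O ![x, y, z]) k = O (aTab r *ᵥ tw (eTab r) ![x, y, z]) k := by
  show (decM (allC r) *ᵥ toB (lk ![x, y, z])) k = toB (lk (aTab r *ᵥ tw (eTab r) ![x, y, z])) k
  rw [mulVec_decM, root_check0]

/-- A vector of norm one, for the point test. -/
def s₀ : E9 := ofN 4

lemma chk1 : ∀ x y z : E9, (∀ k, O ![x, y, z] k = O ![1, 0, 0] k) → y = 0 ∧ z = 0 := by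
  decide +kernel

lemma chk2 : ∀ x y z : E9, (∀ k, O ![x, y, z] k = O ![0, 1, 0] k) → x = 0 ∧ z = 0 := by
  decide +kernel

lemma chk3 : ∀ x y z : E9, (∀ k, O ![x, y, z] k = O ![0, 0, 1] k) → x = 0 ∧ y = 0 := by
  decide +kernel

lemma chk4 : ∀ x y z : E9, (∀ k, O ![x, y, z] k = O ![s₀, s₀, 0] k) → x = y := by
  decide +kernel

lemma chk5 : ∀ x y z : E9, (∀ k, O ![x, y, z] k = O ![s₀, 0, s₀] k) → x = z := by
  decide +kernel

lemma s₀_ne : s₀ ≠ 0 := by decide +kernel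

end Cfsg.Agent.H01.G2U3
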