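import Mathlib
import Cfsg.Agent.Lib.H18.Nilp

/-! Centralizers of normal abelian subgroups of `p`-groups: index bound. -/

set_option autoImplicit false

namespace Cfsg.Agent.H01

open scoped commutatorElement

variable {G : Type*} [Group G] {p : ℕ} [Fact p.Prime]

/-- A nontrivial normal subgroup of a finite `p`-group contains a nontrivial central element. -/
theorem exists_central_mem_normal [Finite G] (hG : IsPGroup p G) {N : Subgroup G} (hN : N.Normal)
    (hN1 : N ≠ ⊥) : ∃ z ∈ N, z ≠ 1 ∧ ∀ g : G, g * z = z * g := by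
  classical
  haveI : Nontrivial N := (Subgroup.nontrivial_iff_ne_bot _).2 hN1
  have hNp : IsPGroup p N := hG.to_subgroup N
  have hdvd : p ∣ Nat.card N := by
    obtain ⟨n, hn⟩ := IsPGroup.iff_card.mp hNp
    have h1 : 1 < Nat.card N := Finite.one_lt_card
    rw [hn] at h1 ⊢
    have : n ≠ 0 := by
      rintro rfl
      simp at h1
    exact dvd_pow_self p this
  have hfix : (1 : N) ∈ MulAction.fixedPoints (ConjAct G) N := by
    intro g
    exact smul_one g
  obtain ⟨b, hb, hne⟩ := (hG.of_equiv ConjAct.toConjAct).exists_fixed_point_of_prime_dvd_card_of_fixed_point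
    N hdvd hfix
  refine ⟨b, b.2, fun h => hne (Subtype.ext h.symm), ?_⟩
  intro g
  have h1 := hb (ConjAct.toConjAct g)
  have h2 : (ConjAct.toConjAct g • b : N).1 = g * b * g⁻¹ := rfl
  rw [h1] at h2
  calc g * (b : G) = (g * b * g⁻¹) * g := by group
    _ = b * g := by rw [← h2]

/-- A normal subgroup of a finite `p`-group properly containing the normal subgroup `B₀`
contains an element outside `B₀` that is central modulo `B₀`. -/
theorem exists_central_mod [Finite G] (hG : IsPGroup p G) {B₀ B : Subgroup G} (hB₀ : B₀.Normal)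
    (hB : B.Normal) (hle : B₀ ≤ B) (hne : B₀ ≠ B) :
    ∃ b ∈ B, b ∉ B₀ ∧ ∀ g : G, g * b * g⁻¹ * b⁻¹ ∈ B₀ := by
  classical
  let Q := G ⧸ B₀
  let π : G →* Q := QuotientGroup.mk' B₀
  have hπ : Function.Surjective π := QuotientGroup.mk'_surjective B₀
  have hQ : IsPGroup p Q := hG.of_surjective π hπ
  have hn : (B.map π).Normal := hB.map π hπ
  have hn1 : B.map π ≠ ⊥ := by
    intro h
    apply hne
    apply le_antisymm hle
    intro x hx
    have : π x ∈ B.map π := Subgroup.mem_map_of_mem π hx
    rw [h, Subgroup.mem_bot] at this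
    exact (QuotientGroup.eq_one_iff x).mp this
  obtain ⟨z, hz, hz1, hzc⟩ := exists_central_mem_normal hQ hn hn1
  obtain ⟨b, hb, rfl⟩ := Subgroup.mem_map.mp hz
  refine ⟨b, hb, fun h => hz1 ((QuotientGroup.eq_one_iff b).mpr h), ?_⟩
  intro g
  rw [← QuotientGroup.eq_one_iff]
  have h3 := hzc (π g)
  show π (g * b * g⁻¹ * b⁻¹) = 1
  rw [map_mul, map_mul, map_mul, map_inv, map_inv, h3]
  group

/-- Centralizer growth: `|C(B₀) : C(B)| ≤ |B₀|` for one step of a chief series of `G`. -/
theorem index_centralizer_le_step [Finite G] (hG : IsPGroup p G) {B₀ B : Subgroup G} (hB₀ : B₀.Normal)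
    (hB : B.Normal) (hle : B₀ ≤ B) (hcard : Nat.card B = p * Nat.card B₀) :
    (Subgroup.centralizer (B : Set G)).index ≤
      (Subgroup.centralizer (B₀ : Set G)).index * Nat.card B₀ := by
  classical
  have hpr : p.Prime := Fact.out
  have hne : B₀ ≠ B := by
    intro h
    rw [← h] at hcard
    have h0 : 0 < Nat.card B₀ := Nat.card_pos
    have h2 := hpr.two_le
    nlinarith
  obtain ⟨b, hbB, hbB₀, hbc⟩ := exists_central_mod hG hB₀ hB hle hne
  -- `B = B₀ ⊔ ⟨b⟩`
  have hsup : B₀ ⊔ Subgroup.zpowers b = B := by
    apply le_antisymm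
    · apply sup_le hle
      rw [Subgroup.zpowers_le]; exact hbB
    · set M := B₀ ⊔ Subgroup.zpowers b with hM
      have hMB : M ≤ B := sup_le hle (by rw [Subgroup.zpowers_le]; exact hbB)
      have h1 : B₀ ≤ M := le_sup_left
      obtain ⟨k, hk⟩ := Subgroup.card_dvd_of_le h1
      obtain ⟨l, hl⟩ := Subgroup.card_dvd_of_le hMB
      rw [hcard, hk] at hl
      have h0 : 0 < Nat.card B₀ := Nat.card_pos
      have hkl : p = k * l := by
        have : Nat.card B₀ * p = Nat.card B₀ * (k * l) := by
          rw [mul_comm (Nat.card B₀) p, hl]; ring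
        exact Nat.eq_of_mul_eq_mul_left h0 this
      have hk1 : k ≠ 1 := by
        rintro rfl
        apply hbB₀
        have : B₀ = M := Subgroup.eq_of_le_of_card_ge h1 (by rw [hk, mul_one])
        rw [this]
        exact Subgroup.mem_sup_right (Subgroup.mem_zpowers b)
      have hl1 : l = 1 := by
        rcases (Nat.Prime.eq_one_or_self_of_dvd hpr k ⟨l, hkl⟩) with h | h
        · exact absurd h hk1
        · rw [h] at hkl
          have hp0 : 0 < p := hpr.pos
          nlinarith
      have hcB : Nat.card B = Nat.card M := by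
        have hkp : k = p := by rw [hkl, hl1, mul_one]
        rw [hcard, hk, hkp, mul_comm]
      exact (Subgroup.eq_of_le_of_card_ge hMB hcB.le).symm.le
  -- the map
  set C₀ := Subgroup.centralizer (B₀ : Set G) with hC₀
  set C := Subgroup.centralizer (B : Set G) with hC
  have hCC₀ : C ≤ C₀ := Subgroup.centralizer_le hle
  have hrel : (C.relIndex C₀) ≤ Nat.card B₀ := by
    -- inject `C₀ / (C ∩ C₀)` into `B₀`
    let f : (C₀ ⧸ C.subgroupOf C₀) → B₀ := fun q =>
      Quotient.liftOn' q (fun x : C₀ => (⟨(x : G) * b * (x : G)⁻¹ * b⁻¹, hbc x⟩ : B₀)) (by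
        intro x y hxy
        apply Subtype.ext
        rw [QuotientGroup.leftRel_apply, Subgroup.mem_subgroupOf] at hxy
        have h1 : ((x : G)⁻¹ * y) ∈ C := by simpa using hxy
        have h2 : ((x : G)⁻¹ * y) * b = b * ((x : G)⁻¹ * y) := by
          have := Subgroup.mem_centralizer_iff.mp h1 b hbB
          exact this.symm
        show (x : G) * b * (x : G)⁻¹ * b⁻¹ = (y : G) * b * (y : G)⁻¹ * b⁻¹
        have h3 : (x : G) * b * (x : G)⁻¹ = y * b * (y : G)⁻¹ := by
          have h4 : (y : G) * b = x * ((x : G)⁻¹ * y * b) := by group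
          rw [h4, h2]
          group
        rw [h3])
    have hinj : Function.Injective f := by
      intro q₁ q₂
      induction q₁ using QuotientGroup.induction_on with
      | H x =>
        induction q₂ using QuotientGroup.induction_on with
        | H y =>
          intro h
          have h1 : (x : G) * b * (x : G)⁻¹ * b⁻¹ = (y : G) * b * (y : G)⁻¹ * b⁻¹ :=
            congrArg Subtype.val h
          have h2 : (x : G) * b * (x : G)⁻¹ = y * b * (y : G)⁻¹ := mul_right_cancel h1
          have h3 : ((x : G)⁻¹ * y) * b = b * ((x : G)⁻¹ * y) := by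
            calc ((x : G)⁻¹ * y) * b = (x : G)⁻¹ * (y * b * (y : G)⁻¹) * y := by group
              _ = (x : G)⁻¹ * ((x : G) * b * (x : G)⁻¹) * y := by rw [h2]
              _ = b * ((x : G)⁻¹ * y) := by group
          rw [QuotientGroup.eq, Subgroup.mem_subgroupOf]
          have hmemC₀ : (x : G)⁻¹ * y ∈ C₀ := C₀.mul_mem (C₀.inv_mem x.2) y.2
          show ((x⁻¹ * y : C₀) : G) ∈ C
          show (x : G)⁻¹ * y ∈ C
          rw [hC, Subgroup.mem_centralizer_iff]
          intro w hw
          have hwB : w ∈ B₀ ⊔ Subgroup.zpowers b := by rw [hsup]; exact hw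
          have hcentS : B₀ ⊔ Subgroup.zpowers b ≤
              Subgroup.centralizer ({(x : G)⁻¹ * y} : Set G) := by
            apply sup_le
            · intro a ha
              rw [Subgroup.mem_centralizer_iff]
              intro c hc
              rw [Set.mem_singleton_iff.mp hc]
              exact (Subgroup.mem_centralizer_iff.mp hmemC₀ a ha).symm
            · rw [Subgroup.zpowers_le, Subgroup.mem_centralizer_iff]
              intro c hc
              rw [Set.mem_singleton_iff.mp hc]
              exact h3
          have := Subgroup.mem_centralizer_iff.mp (hcentS hwB) _ (Set.mem_singleton _)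
          exact this.symm
    have : Nat.card (C₀ ⧸ C.subgroupOf C₀) ≤ Nat.card B₀ := Nat.card_le_card_of_injective f hinj
    exact this
  have hidx : C.index = C.relIndex C₀ * C₀.index := (Subgroup.relIndex_mul_index hCC₀).symm
  rw [hidx, mul_comm]
  exact Nat.mul_le_mul_left _ hrel

/-- The index of the centralizer of a normal abelian subgroup of order `p ^ i`. -/
theorem index_centralizer_le_choose [Finite G] (hG : IsPGroup p G) :
    ∀ (i : ℕ) (B : Subgroup G), B.Normal → IsMulCommutative B → Nat.card B = p ^ i →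
      (Subgroup.centralizer (B : Set G)).index ≤ p ^ i.choose 2 := by
  classical
  have hpr : p.Prime := Fact.out
  haveI : Group.IsNilpotent G := hG.isNilpotent
  intro i
  induction i with
  | zero =>
    intro B _ _ hc
    have : B = ⊥ := by
      rw [pow_zero] at hc
      exact Subgroup.card_eq_one.mp hc
    subst this
    have hC : Subgroup.centralizer ((⊥ : Subgroup G) : Set G) = ⊤ := by
      rw [eq_top_iff]
      intro x _
      rw [Subgroup.mem_centralizer_iff]
      intro y hy
      have : y = 1 := hy
      rw [this]; simp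
    rw [hC]; simp
  | succ i ih =>
    intro B hB hab hc
    obtain ⟨B₀, hle, hB₀, hc₀⟩ := Cfsg.Agent.H18.exists_normal_le_card_eq (G := G) hB hab
      (d := p ^ i) (by rw [hc]; exact pow_dvd_pow p (Nat.le_succ i))
    have hab₀ : IsMulCommutative B₀ := by
      constructor
      constructor
      intro a b
      apply Subtype.ext
      have := hab.is_comm.comm (⟨a, hle a.2⟩ : B) ⟨b, hle b.2⟩
      exact congrArg (fun z : B => (z : G)) this
    have h1 := ih B₀ hB₀ hab₀ hc₀
    have h2 := index_centralizer_le_step hG hB₀ hB hle (by rw [hc, hc₀, pow_succ, mul_comm])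
    rw [hc₀] at h2
    calc _ ≤ _ := h2
      _ ≤ p ^ i.choose 2 * p ^ i := Nat.mul_le_mul_right _ h1
      _ = p ^ (i + 1).choose 2 := by
        rw [← pow_add]
        congr 1
        rw [Nat.choose_succ_succ' i 1, Nat.choose_one_right]
        ring

end Cfsg.Agent.H01
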