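import Mathlib
import Cfsg.Agent.Lib.H01.MaxNormal
import Cfsg.Agent.Lib.H01.Basic
import Cfsg.Agent.Lib.H15.Cyc2

/-! `2`-groups with abelianization of order four: Taussky's theorem on maximal class. -/

set_option autoImplicit false

namespace Cfsg.Agent.H01

open scoped commutatorElement

universe u

section AbMax

variable {X : Type*} [Group X]

/-- An element of an abelian subgroup of index two commuting with an outside element is central. -/
theorem mem_center_of_index_two {C : Subgroup X} (hCi : C.index = 2)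
    (hCc : ∀ a ∈ C, ∀ b ∈ C, a * b = b * a) {x g : X} (hx : x ∉ C) (hg : g ∈ C)
    (hgx : g * x = x * g) : g ∈ Subgroup.center X := by
  rw [Subgroup.mem_center_iff]
  intro b
  by_cases hb : b ∈ C
  · exact hCc b hb g hg
  · have h1 : b * x⁻¹ ∈ C := by
      rw [Subgroup.mul_mem_iff_of_index_two hCi]
      exact ⟨fun h => absurd h hb, fun h => absurd (by simpa using C.inv_mem h) hx⟩
    obtain ⟨h, hh, rfl⟩ : ∃ h ∈ C, b = h * x := ⟨_, h1, by group⟩
    calc h * x * g = h * (g * x) := by rw [mul_assoc, hgx]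
      _ = g * (h * x) := by rw [← mul_assoc, hCc h hh g hg, mul_assoc]

/-- Elements `g * (x g x⁻¹)` are central. -/
theorem mul_conj_mem_center {C : Subgroup X} (hCi : C.index = 2)
    (hCc : ∀ a ∈ C, ∀ b ∈ C, a * b = b * a) {x g : X} (hx : x ∉ C) (hg : g ∈ C) :
    g * (x * g * x⁻¹) ∈ Subgroup.center X := by
  haveI hn : C.Normal := Subgroup.normal_of_index_eq_two hCi
  have hx2 : x * x ∈ C := by
    rw [Subgroup.mul_mem_iff_of_index_two hCi]
  have hxg : x * g * x⁻¹ ∈ C := hn.conj_mem g hg x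
  refine mem_center_of_index_two hCi hCc hx (C.mul_mem hg hxg) ?_
  have h1 : (x * x) * g = g * (x * x) := hCc _ hx2 _ hg
  have h2 : g * (x * g * x⁻¹) = (x * g * x⁻¹) * g := hCc _ hg _ hxg
  calc g * (x * g * x⁻¹) * x = (x * g * x⁻¹) * g * x := by rw [h2]
    _ = (x * g * x⁻¹) * (g * (x * x)) * x⁻¹ := by group
    _ = (x * g * x⁻¹) * ((x * x) * g) * x⁻¹ := by rw [h1]
    _ = x * (g * (x * g * x⁻¹)) := by group

/-- The square of an element outside an abelian subgroup of index two is central. -/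
theorem sq_mem_center {C : Subgroup X} (hCi : C.index = 2)
    (hCc : ∀ a ∈ C, ∀ b ∈ C, a * b = b * a) {x : X} (hx : x ∉ C) :
    x * x ∈ Subgroup.center X := by
  have hx2 : x * x ∈ C := by
    rw [Subgroup.mul_mem_iff_of_index_two hCi]
  exact mem_center_of_index_two hCi hCc hx hx2 (by group)

variable [Finite X]

/-- An abelian subgroup of index two in a nonabelian group: `|Z(X)| |X'| = |C|`. -/
theorem card_center_mul_card_commutator {C : Subgroup X} (hCi : C.index = 2)
    (hCc : ∀ a ∈ C, ∀ b ∈ C, a * b = b * a) (hnc : ∃ a b : X, a * b ≠ b * a) :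
    Nat.card (Subgroup.center X) * Nat.card (commutator X) = Nat.card C ∧ Subgroup.center X ≤ C := by
  classical
  haveI hn : C.Normal := Subgroup.normal_of_index_eq_two hCi
  have hCne : C ≠ ⊤ := by
    rintro rfl
    simp at hCi
  obtain ⟨x, hx⟩ : ∃ x, x ∉ C := by
    by_contra hcon
    push Not at hcon
    exact hCne (eq_top_iff.mpr fun y _ => hcon y)
  have hmem : ∀ g ∈ C, g * x * g⁻¹ * x⁻¹ ∈ C := by
    intro g hg
    have h1 := hn.conj_mem g⁻¹ (C.inv_mem hg) x
    have e : g * x * g⁻¹ * x⁻¹ = g * (x * g⁻¹ * x⁻¹) := by group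
    rw [e]
    exact C.mul_mem hg h1
  let φ : C →* X :=
    { toFun := fun g => (g : X) * x * (g : X)⁻¹ * x⁻¹
      map_one' := by simp
      map_mul' := by
        intro g h
        simp only [Subgroup.coe_mul]
        have h1 := hCc _ g.2 _ (hmem h h.2)
        have h2 := hCc _ (hmem h h.2) _ (hmem g g.2)
        calc (g : X) * h * x * ((g : X) * h)⁻¹ * x⁻¹
            = (g : X) * ((h : X) * x * (h : X)⁻¹ * x⁻¹) * (x * (g : X)⁻¹ * x⁻¹) := by group
          _ = ((h : X) * x * (h : X)⁻¹ * x⁻¹) * (g : X) * (x * (g : X)⁻¹ * x⁻¹) := by rw [h1]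
          _ = ((h : X) * x * (h : X)⁻¹ * x⁻¹) * ((g : X) * x * (g : X)⁻¹ * x⁻¹) := by group
          _ = _ := by rw [h2] }
  have hφ : ∀ g : C, φ g = (g : X) * x * (g : X)⁻¹ * x⁻¹ := fun g => rfl
  -- the range is the commutator subgroup
  have hR : φ.range = commutator X := by
    apply le_antisymm
    · rintro _ ⟨g, rfl⟩
      rw [hφ]
      exact Subgroup.commutator_mem_commutator (Subgroup.mem_top _) (Subgroup.mem_top _)
    · have hstep : ∀ a ∈ C, ∀ b, b ∉ C → a * b * a⁻¹ * b⁻¹ ∈ φ.range := by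
        intro a ha b hb
        have h1 : b * x⁻¹ ∈ C := by
          rw [Subgroup.mul_mem_iff_of_index_two hCi]
          exact ⟨fun h => absurd h hb, fun h => absurd (by simpa using C.inv_mem h) hx⟩
        obtain ⟨h, hh, rfl⟩ : ∃ h ∈ C, b = h * x := ⟨_, h1, by group⟩
        refine ⟨⟨a, ha⟩, ?_⟩
        rw [hφ]
        have h2 := hCc a ha h hh
        have h3 := hCc h hh _ (hmem a ha)
        calc (a : X) * x * a⁻¹ * x⁻¹ = h * (a * x * a⁻¹ * x⁻¹) * h⁻¹ := by rw [h3]; group
          _ = (h * a) * x * a⁻¹ * x⁻¹ * h⁻¹ := by group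
          _ = (a * h) * x * a⁻¹ * x⁻¹ * h⁻¹ := by rw [h2]
          _ = _ := by group
      rw [commutator_def, Subgroup.commutator_le]
      intro a _ b _
      rw [commutatorElement_def]
      by_cases ha : a ∈ C <;> by_cases hb : b ∈ C
      · rw [hCc a ha b hb]
        simp [Subgroup.one_mem]
      · exact hstep a ha b hb
      · have h1 := φ.range.inv_mem (hstep b hb a ha)
        have e : (b * a * b⁻¹ * a⁻¹)⁻¹ = a * b * a⁻¹ * b⁻¹ := by group
        rwa [e] at h1
      · -- both outside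
        have h1 : b * a⁻¹ ∈ C := by
          rw [Subgroup.mul_mem_iff_of_index_two hCi]
          exact ⟨fun h => absurd h hb, fun h => absurd (by simpa using C.inv_mem h) ha⟩
        obtain ⟨k, hk, rfl⟩ : ∃ k ∈ C, b = k * a := ⟨_, h1, by group⟩
        have h2 := φ.range.inv_mem (hstep k hk a ha)
        have e : (k * a * k⁻¹ * a⁻¹)⁻¹ = a * (k * a) * a⁻¹ * (k * a)⁻¹ := by group
        rwa [e] at h2
  -- center in `C`
  have hZC : Subgroup.center X ≤ C := by
    intro y hy
    by_contra hyC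
    have h1 : x * y⁻¹ ∈ C := by
      rw [Subgroup.mul_mem_iff_of_index_two hCi]
      exact ⟨fun h => absurd h hx, fun h => absurd (by simpa using C.inv_mem h) hyC⟩
    obtain ⟨h, hh, hxe⟩ : ∃ h ∈ C, x = h * y := ⟨_, h1, by group⟩
    have hy' := Subgroup.mem_center_iff.mp hy
    have htriv : φ.range = ⊥ := by
      rw [eq_bot_iff]
      rintro _ ⟨g, rfl⟩
      rw [hφ, Subgroup.mem_bot]
      have h2 : (g : X) * x = x * g := by
        rw [hxe, ← mul_assoc, hCc _ g.2 _ hh, mul_assoc, hy' g, mul_assoc]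
      rw [h2]
      group
    rw [hR] at htriv
    obtain ⟨a, b, hab⟩ := hnc
    apply hab
    have h3 : ⁅a, b⁆ ∈ commutator X :=
      Subgroup.commutator_mem_commutator (Subgroup.mem_top _) (Subgroup.mem_top _)
    rw [htriv, Subgroup.mem_bot, commutatorElement_eq_one_iff_mul_comm] at h3
    exact h3
  refine ⟨?_, hZC⟩
  have hker : Nat.card φ.ker = Nat.card (Subgroup.center X) := by
    refine Nat.card_congr ⟨fun g => ⟨(g : C), ?_⟩, fun z => ⟨⟨z, hZC z.2⟩, ?_⟩, ?_, ?_⟩
    · have h1 : φ (g : C) = 1 := g.2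
      rw [hφ, mul_inv_eq_one, mul_inv_eq_iff_eq_mul] at h1
      exact mem_center_of_index_two hCi hCc hx (g : C).2 h1
    · rw [MonoidHom.mem_ker, hφ]
      have h2 := Subgroup.mem_center_iff.mp z.2 x
      simp only
      rw [← h2]
      group
    · intro g; rfl
    · intro z; rfl
  have h1 := Subgroup.card_mul_index φ.ker
  rw [Subgroup.index_ker, hker, hR] at h1
  exact h1

end AbMax

section Main

variable {X : Type u} [Group X] [Finite X]

/-- A `p`-group with cyclic abelianization is commutative. -/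
theorem comm_of_cyclic_abelianization {Q : Type*} [Group Q] [Finite Q] {p : ℕ} [hp : Fact p.Prime]
    (hQ : IsPGroup p Q) (hcyc : IsCyclic (Q ⧸ commutator Q)) (a b : Q) : a * b = b * a := by
  obtain ⟨y, hy⟩ := hcyc.exists_generator
  obtain ⟨x, rfl⟩ := QuotientGroup.mk_surjective y
  have hsup : Subgroup.zpowers x ⊔ frattini Q = ⊤ := by
    rw [eq_top_iff]
    intro g _
    obtain ⟨n, hn⟩ := Subgroup.mem_zpowers_iff.mp (hy (g : Q ⧸ commutator Q))
    have h1 : x ^ n * (x ^ n)⁻¹ * g = g := by group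
    rw [← h1, mul_assoc]
    refine Subgroup.mul_mem_sup (Subgroup.zpow_mem_zpowers x n) ?_
    apply Cfsg.Agent.H01.commutator_le_frattini_of_isPGroup hQ
    rw [← QuotientGroup.eq_one_iff]
    have h2 : ((x : Q ⧸ commutator Q)) ^ n = g := hn
    rw [QuotientGroup.mk_mul, QuotientGroup.mk_inv, QuotientGroup.mk_zpow, h2, inv_mul_cancel]
  have htop := frattini_nongenerating hsup
  obtain ⟨i, hi⟩ := Subgroup.mem_zpowers_iff.mp (htop ▸ Subgroup.mem_top a)
  obtain ⟨j, hj⟩ := Subgroup.mem_zpowers_iff.mp (htop ▸ Subgroup.mem_top b)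
  rw [← hi, ← hj, ← zpow_add, ← zpow_add, add_comm]

theorem index_ge_of_noncomm {Q : Type*} [Group Q] [Finite Q] {p : ℕ} [hp : Fact p.Prime] (hQ : IsPGroup p Q)
    (hnc : ∃ a b : Q, a * b ≠ b * a) : p ^ 2 ≤ (commutator Q).index := by
  classical
  by_contra hlt
  push Not at hlt
  obtain ⟨k, hk⟩ := (hQ.index (commutator Q))
  have hk1 : k < 2 := by
    rw [hk] at hlt
    exact (Nat.pow_lt_pow_iff_right hp.out.one_lt).mp hlt
  have hcyc : IsCyclic (Q ⧸ commutator Q) := by
    have hcard : Nat.card (Q ⧸ commutator Q) = p ^ k := hk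
    interval_cases k
    · have : Nat.card (Q ⧸ commutator Q) = 1 := by simpa using hcard
      haveI := (Nat.card_eq_one_iff_unique.mp this).1
      exact isCyclic_of_subsingleton
    · exact isCyclic_of_prime_card (p := p) (by simpa using hcard)
  obtain ⟨a, b, hab⟩ := hnc
  exact hab (comm_of_cyclic_abelianization hQ hcyc a b)

end Main

end Cfsg.Agent.H01
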