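import Mathlib
import Cfsg.Agent.Lib.H01.MaxClass2
import Cfsg.Agent.Lib.H19.MaxClass

/-! Taussky's theorem: `2`-groups of order `2 ^ n` with abelianization of order four have class
`n - 1`, a cyclic subgroup of index two, and a centre of order two. -/

set_option autoImplicit false

namespace Cfsg.Agent.H01

open scoped commutatorElement

universe u

/-- The base case: order eight. -/
theorem maxclass_base (X : Type u) [Group X] [Finite X] (hcard : Nat.card X = 2 ^ 3)
    (hidx : (commutator X).index = 4) :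
    (∃ C : Subgroup X, IsCyclic C ∧ C.index = 2) ∧ Nat.card (Subgroup.center X) = 2 ∧
      Group.nilpotencyClass X = 3 - 1 := by
  classical
  haveI : Fact (Nat.Prime 2) := ⟨Nat.prime_two⟩
  have hp : IsPGroup 2 X := IsPGroup.of_card hcard
  haveI : Group.IsNilpotent X := hp.isNilpotent
  have hX' : Nat.card (commutator X) = 2 := by
    have := Subgroup.card_mul_index (commutator X)
    rw [hidx, hcard] at this
    omega
  have hnc : ∃ a b : X, a * b ≠ b * a := by
    by_contra hcon
    push Not at hcon
    have h1 : commutator X = ⊥ := by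
      rw [eq_bot_iff, commutator_def, Subgroup.commutator_le]
      intro a _ b _
      rw [Subgroup.mem_bot, commutatorElement_eq_one_iff_mul_comm]
      exact hcon a b
    rw [h1, Subgroup.card_bot] at hX'
    omega
  -- an element of order four
  obtain ⟨x, hx⟩ : ∃ x : X, orderOf x = 4 := by
    by_contra hcon
    push Not at hcon
    obtain ⟨a, b, hab⟩ := hnc
    have hall : ∀ y : X, y ^ 2 = 1 := by
      intro y
      obtain ⟨k, hk⟩ := IsPGroup.iff_orderOf.mp hp y
      have hk3 : 2 ^ k ∣ 2 ^ 3 := by
        rw [← hk, ← hcard]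
        exact orderOf_dvd_natCard y
      have hk4 : k ≤ 3 := (Nat.pow_dvd_pow_iff_le_right (by norm_num)).mp hk3
      have : k ≠ 3 := by
        rintro rfl
        have hcyc : IsCyclic X := isCyclic_of_orderOf_eq_card y (by rw [hk, hcard])
        apply hab
        letI := IsCyclic.commGroup (α := X)
        exact mul_comm a b
      have h2 : k ≠ 2 := by
        rintro rfl
        exact hcon y (by rw [hk]; norm_num)
      have hk1 : k ≤ 1 := by omega
      have : orderOf y ∣ 2 := by
        rw [hk]
        simpa using pow_dvd_pow 2 hk1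
      exact orderOf_dvd_iff_pow_eq_one.mp this
    apply hab
    have h1 := hall (a * b)
    have h2 := hall a
    have h3 := hall b
    rw [sq] at h1 h2 h3
    calc a * b = a * (a * b * (a * b)) * b := by rw [h1]; simp
      _ = (a * a) * b * a * (b * b) := by group
      _ = b * a := by rw [h2, h3]; simp
  have hCi : (Subgroup.zpowers x).index = 2 := by
    have := Subgroup.card_mul_index (Subgroup.zpowers x)
    rw [Nat.card_zpowers, hx, hcard] at this
    omega
  have hCc : ∀ a ∈ Subgroup.zpowers x, ∀ b ∈ Subgroup.zpowers x, a * b = b * a := by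
    intro a ha b hb
    obtain ⟨i, rfl⟩ := Subgroup.mem_zpowers_iff.mp ha
    obtain ⟨j, rfl⟩ := Subgroup.mem_zpowers_iff.mp hb
    rw [← zpow_add, ← zpow_add, add_comm]
  obtain ⟨h1, -⟩ := card_center_mul_card_commutator hCi hCc hnc
  rw [hX', Nat.card_zpowers, hx] at h1
  have hZ : Nat.card (Subgroup.center X) = 2 := by omega
  refine ⟨⟨_, inferInstance, hCi⟩, hZ, ?_⟩
  haveI : Nontrivial X := by
    obtain ⟨a, b, hab⟩ := hnc
    refine ⟨a * b, b * a, hab⟩
  rw [Group.nilpotencyClass_eq_quotient_center_plus_one]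
  -- the quotient has order four
  have hq : Nat.card (X ⧸ Subgroup.center X) = 2 ^ 2 := by
    have := Subgroup.card_eq_card_quotient_mul_card_subgroup (Subgroup.center X)
    rw [hZ, hcard] at this
    omega
  have hqc : IsMulCommutative (X ⧸ Subgroup.center X) := ⟨⟨fun a b =>
    IsPGroup.commutative_of_card_eq_prime_sq hq a b⟩⟩
  haveI : Nontrivial (X ⧸ Subgroup.center X) := by
    apply Finite.one_lt_card_iff_nontrivial.mp
    rw [hq]
    norm_num
  have hle := (Group.IsNilpotent.nilpotencyClass_le_one_iff (G := X ⧸ Subgroup.center X)).mpr hqc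
  have hne : Group.nilpotencyClass (X ⧸ Subgroup.center X) ≠ 0 := by
    intro h
    rw [Group.nilpotencyClass_zero_iff_subsingleton] at h
    exact false_of_nontrivial_of_subsingleton (X ⧸ Subgroup.center X)
  omega

/-- The inductive step. -/
theorem maxclass_step (n : ℕ) (hn : 3 ≤ n)
    (ih : ∀ (Y : Type u) [Group Y] [Finite Y], Nat.card Y = 2 ^ n → (commutator Y).index = 4 →
      (∃ C : Subgroup Y, IsCyclic C ∧ C.index = 2) ∧ Nat.card (Subgroup.center Y) = 2 ∧
        Group.nilpotencyClass Y = n - 1)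
    (X : Type u) [Group X] [Finite X] (hcard : Nat.card X = 2 ^ (n + 1))
    (hidx : (commutator X).index = 4) :
    (∃ C : Subgroup X, IsCyclic C ∧ C.index = 2) ∧ Nat.card (Subgroup.center X) = 2 ∧
      Group.nilpotencyClass X = n + 1 - 1 := by
  classical
  haveI : Fact (Nat.Prime 2) := ⟨Nat.prime_two⟩
  have hp : IsPGroup 2 X := IsPGroup.of_card hcard
  haveI : Group.IsNilpotent X := hp.isNilpotent
  obtain ⟨m, rfl⟩ : ∃ m, n = m + 3 := ⟨n - 3, by omega⟩
  have hX' : Nat.card (commutator X) = 2 ^ (m + 2) := by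
    have := Subgroup.card_mul_index (commutator X)
    rw [hidx, hcard] at this
    have h2 : 2 ^ (m + 3 + 1) = 2 ^ (m + 2) * 4 := by ring
    rw [h2] at this
    exact Nat.eq_of_mul_eq_mul_right (by norm_num) this
  have hX'big : 4 ≤ Nat.card (commutator X) := by
    rw [hX', pow_add]
    have : 1 ≤ 2 ^ m := Nat.one_le_two_pow
    omega
  have hX'ne : commutator X ≠ ⊥ := by
    intro h
    rw [h, Subgroup.card_bot] at hX'big
    omega
  have hnc : ∃ a b : X, a * b ≠ b * a := by
    by_contra hcon
    push Not at hcon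
    apply hX'ne
    rw [eq_bot_iff, commutator_def, Subgroup.commutator_le]
    intro a _ b _
    rw [Subgroup.mem_bot, commutatorElement_eq_one_iff_mul_comm]
    exact hcon a b
  -- a central involution in the commutator subgroup
  obtain ⟨z, hzX', hz2, hz1, hzc⟩ : ∃ z ∈ commutator X, z ^ 2 = 1 ∧ z ≠ 1 ∧ ∀ t : X, t * z = z * t := by
    obtain ⟨w, hw, hw1, hwc⟩ := exists_central_mem_normal hp (N := commutator X) inferInstance hX'ne
    obtain ⟨k, hk⟩ := IsPGroup.iff_orderOf.mp hp w
    have hk0 : k ≠ 0 := by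
      rintro rfl
      exact hw1 (orderOf_eq_one_iff.mp (by simpa using hk))
    obtain ⟨l, rfl⟩ : ∃ l, k = l + 1 := ⟨k - 1, by omega⟩
    refine ⟨w ^ 2 ^ l, Subgroup.pow_mem _ hw _, ?_, ?_, ?_⟩
    · rw [← pow_mul, ← pow_succ, ← hk, pow_orderOf_eq_one]
    · apply pow_ne_one_of_lt_orderOf (by positivity)
      rw [hk]
      exact Nat.pow_lt_pow_right (by norm_num) (by omega)
    · intro t
      exact ((show Commute t w from hwc t).pow_right _).eq
  obtain ⟨N, hNdef⟩ : ∃ N : Subgroup X, N = Subgroup.zpowers z := ⟨_, rfl⟩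
  have hNmem : ∀ w ∈ N, w = 1 ∨ w = z := by
    intro w hw
    rw [hNdef] at hw
    obtain ⟨k, rfl⟩ := Subgroup.mem_zpowers_iff.mp hw
    rcases Int.even_or_odd' k with ⟨l, rfl | rfl⟩
    · left
      rw [zpow_mul]
      have : z ^ (2 : ℤ) = 1 := by exact_mod_cast hz2
      rw [this, one_zpow]
    · right
      rw [zpow_add, zpow_mul]
      have : z ^ (2 : ℤ) = 1 := by exact_mod_cast hz2
      rw [this, one_zpow]
      simp
  have hNcent : ∀ w ∈ N, ∀ t : X, t * w = w * t := by
    intro w hw t
    rcases hNmem w hw with rfl | rfl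
    · simp
    · exact hzc t
  haveI hNn : N.Normal := by
    constructor
    intro w hw g
    rw [hNcent w hw g, mul_inv_cancel_right]
    exact hw
  have hNcard : Nat.card N = 2 := by
    rw [hNdef, Nat.card_zpowers]
    exact orderOf_eq_prime hz2 hz1
  have hNX' : N ≤ commutator X := by
    rw [hNdef, Subgroup.zpowers_le]
    exact hzX'
  let π := QuotientGroup.mk' N
  have hπs : Function.Surjective π := QuotientGroup.mk'_surjective N
  have hY : Nat.card (X ⧸ N) = 2 ^ (m + 3) := by
    have := Subgroup.card_eq_card_quotient_mul_card_subgroup N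
    rw [hNcard, hcard] at this
    have h2 : 2 ^ (m + 3 + 1) = 2 ^ (m + 3) * 2 := by ring
    rw [h2] at this
    exact (Nat.eq_of_mul_eq_mul_right (by norm_num) this).symm
  have hYc : commutator (X ⧸ N) = (commutator X).map π := by
    rw [commutator_def, commutator_def, Subgroup.map_commutator,
      Subgroup.map_top_of_surjective π hπs]
  have hYi : (commutator (X ⧸ N)).index = 4 := by
    rw [hYc, Subgroup.index_map, MonoidHom.range_eq_top.mpr hπs, Subgroup.index_top, mul_one]
    have : π.ker = N := QuotientGroup.ker_mk' N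
    rw [this, sup_eq_left.mpr hNX', hidx]
  obtain ⟨⟨Cb, hCbc, hCbi⟩, hZb, hclass⟩ := ih (X ⧸ N) hY hYi
  -- the preimage
  let C : Subgroup X := Cb.comap π
  have hCi : C.index = 2 := by
    rw [Subgroup.index_comap_of_surjective _ hπs, hCbi]
  have hNC : N ≤ C := by
    intro w hw
    change π w ∈ Cb
    have : π w = 1 := (QuotientGroup.eq_one_iff w).mpr hw
    rw [this]
    exact Cb.one_mem
  obtain ⟨cb, hcb⟩ := hCbc.exists_generator
  obtain ⟨c, hc⟩ := hπs (cb : X ⧸ N)
  have hcC : c ∈ C := by
    change π c ∈ Cb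
    rw [hc]
    exact cb.2
  have hrep : ∀ g ∈ C, ∃ k : ℤ, ∃ ν ∈ N, g = c ^ k * ν := by
    intro g hg
    obtain ⟨k, hk⟩ := Subgroup.mem_zpowers_iff.mp (hcb ⟨π g, hg⟩)
    have h1 : ((cb : X ⧸ N)) ^ k = π g := by
      have := congrArg Subtype.val hk
      simpa using this
    refine ⟨k, (c ^ k)⁻¹ * g, ?_, by group⟩
    rw [← QuotientGroup.eq_one_iff]
    change π ((c ^ k)⁻¹ * g) = 1
    rw [map_mul, map_inv, map_zpow, hc, h1, inv_mul_cancel]
  have hCc : ∀ a ∈ C, ∀ b ∈ C, a * b = b * a := by
    intro a ha b hb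
    obtain ⟨i, ν, hν, rfl⟩ := hrep a ha
    obtain ⟨j, μ, hμ, rfl⟩ := hrep b hb
    have h1 : Commute (c ^ i) (c ^ j) := (Commute.refl c).zpow_zpow i j
    calc c ^ i * ν * (c ^ j * μ) = c ^ i * (ν * c ^ j) * μ := by group
      _ = c ^ i * (c ^ j * ν) * μ := by rw [hNcent ν hν (c ^ j)]
      _ = (c ^ i * c ^ j) * (ν * μ) := by group
      _ = (c ^ j * c ^ i) * (μ * ν) := by rw [h1.eq, hNcent μ hμ ν]
      _ = c ^ j * (c ^ i * μ) * ν := by group
      _ = c ^ j * (μ * c ^ i) * ν := by rw [hNcent μ hμ (c ^ i)]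
      _ = _ := by group
  have hCcard : Nat.card C = 2 ^ (m + 3) := by
    have := Subgroup.card_mul_index C
    rw [hCi, hcard] at this
    have h2 : 2 ^ (m + 3 + 1) = 2 ^ (m + 3) * 2 := by ring
    rw [h2] at this
    exact Nat.eq_of_mul_eq_mul_right (by norm_num) this
  obtain ⟨h1, hZC⟩ := card_center_mul_card_commutator hCi hCc hnc
  rw [hX', hCcard] at h1
  have hZ : Nat.card (Subgroup.center X) = 2 := by
    have h2 : 2 ^ (m + 3) = 2 * 2 ^ (m + 2) := by ring
    rw [h2] at h1
    exact Nat.eq_of_mul_eq_mul_right (by positivity) h1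
  have hNZ : N = Subgroup.center X := by
    apply Subgroup.eq_of_le_of_card_ge
    · intro w hw
      rw [Subgroup.mem_center_iff]
      exact hNcent w hw
    · rw [hZ, hNcard]
  -- cyclicity
  have hcyc : IsCyclic C := by
    have hc2 : c * c ≠ 1 := by
      intro h
      have h2 : (cb : X ⧸ N) ^ 2 = 1 := by
        rw [← hc, ← map_pow, sq, h, map_one]
      have h3 : orderOf (cb : X ⧸ N) = Nat.card Cb := by
        rw [Subgroup.orderOf_coe]
        exact orderOf_eq_card_of_forall_mem_zpowers hcb
      have h4 : Nat.card Cb * 2 = 2 ^ (m + 3) := by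
        have := Subgroup.card_mul_index Cb
        rwa [hCbi, hY] at this
      have h5 : orderOf (cb : X ⧸ N) ∣ 2 := orderOf_dvd_of_pow_eq_one h2
      rw [h3] at h5
      have h6 := Nat.le_of_dvd (by norm_num) h5
      have h7 : 2 ^ (m + 3) = 8 * 2 ^ m := by ring
      have h8 : 1 ≤ 2 ^ m := Nat.one_le_two_pow
      omega
    let D : Subgroup X :=
      { carrier := {w | ∃ g ∈ C, w = g * g}
        one_mem' := ⟨1, C.one_mem, by simp⟩
        mul_mem' := by
          rintro _ _ ⟨g, hg, rfl⟩ ⟨k, hk, rfl⟩
          refine ⟨g * k, C.mul_mem hg hk, ?_⟩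
          have := hCc g hg k hk
          calc g * g * (k * k) = g * (g * k) * k := by group
            _ = g * (k * g) * k := by rw [this]
            _ = _ := by group
        inv_mem' := by
          rintro _ ⟨g, hg, rfl⟩
          exact ⟨g⁻¹, C.inv_mem hg, by group⟩ }
    have hDn : D.Normal := by
      constructor
      rintro _ ⟨g, hg, rfl⟩ t
      haveI := Subgroup.normal_of_index_eq_two hCi
      exact ⟨t * g * t⁻¹, Subgroup.Normal.conj_mem inferInstance g hg t, by group⟩
    have hDne : D ≠ ⊥ := by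
      intro h
      have : c * c ∈ D := ⟨c, hcC, rfl⟩
      rw [h, Subgroup.mem_bot] at this
      exact hc2 this
    obtain ⟨w, ⟨g, hg, rfl⟩, hw1, hwc⟩ := exists_central_mem_normal hp hDn hDne
    have hwN : g * g ∈ N := by
      rw [hNZ, Subgroup.mem_center_iff]
      intro t
      exact hwc t
    have hz' : g * g = z := (hNmem _ hwN).resolve_left hw1
    obtain ⟨k, ν, hν, rfl⟩ := hrep g hg
    have hνν : ν * ν = 1 := by
      rcases hNmem ν hν with rfl | rfl
      · simp
      · rw [← sq, hz2]
    have hzc' : z ∈ Subgroup.zpowers c := by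
      refine Subgroup.mem_zpowers_iff.mpr ⟨k + k, ?_⟩
      rw [← hz', zpow_add]
      calc c ^ k * c ^ k = c ^ k * c ^ k * (ν * ν) := by rw [hνν, mul_one]
        _ = c ^ k * (c ^ k * ν) * ν := by group
        _ = c ^ k * (ν * c ^ k) * ν := by rw [hNcent ν hν (c ^ k)]
        _ = _ := by group
    have hCeq : C = Subgroup.zpowers c := by
      apply le_antisymm
      · intro g hg
        obtain ⟨k, ν, hν, rfl⟩ := hrep g hg
        refine Subgroup.mul_mem _ (Subgroup.zpow_mem_zpowers c k) ?_
        rcases hNmem ν hν with rfl | rfl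
        · exact Subgroup.one_mem _
        · exact hzc'
      · rw [Subgroup.zpowers_le]
        exact hcC
    rw [hCeq]
    infer_instance
  refine ⟨⟨C, hcyc, hCi⟩, hZ, ?_⟩
  haveI : Nontrivial X := by
    obtain ⟨a, b, hab⟩ := hnc
    exact ⟨a * b, b * a, hab⟩
  rw [Group.nilpotencyClass_eq_quotient_center_plus_one]
  have h3 : Group.nilpotencyClass (X ⧸ Subgroup.center X) = m + 3 - 1 := by
    subst hNZ
    exact hclass
  rw [h3]
  omega

/-- **Taussky's theorem.** -/
theorem maxclass_main (n : ℕ) (hn : 3 ≤ n) : ∀ (X : Type u) [Group X] [Finite X],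
    Nat.card X = 2 ^ n → (commutator X).index = 4 →
      (∃ C : Subgroup X, IsCyclic C ∧ C.index = 2) ∧ Nat.card (Subgroup.center X) = 2 ∧
        Group.nilpotencyClass X = n - 1 := by
  induction n, hn using Nat.le_induction with
  | base => exact fun X _ _ => maxclass_base X
  | succ n hn ih => exact fun X _ _ => maxclass_step n hn ih X

/-- Maximal class forces abelianization of order four. -/
theorem index_of_maxclass (n : ℕ) (hn : 3 ≤ n) (X : Type u) [Group X] [Finite X]
    (hcard : Nat.card X = 2 ^ n) (hc : Group.nilpotencyClass X = n - 1) :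
    (commutator X).index = 4 := by
  classical
  haveI : Fact (Nat.Prime 2) := ⟨Nat.prime_two⟩
  have hp : IsPGroup 2 X := IsPGroup.of_card hcard
  haveI hnil : Group.IsNilpotent X := hp.isNilpotent
  let γ : ℕ → Subgroup X := (⊤ : Subgroup X).lowerCentralSeries
  have hγc : γ (Group.nilpotencyClass X) = ⊥ := lowerCentralSeries_nilpotencyClass
  have hmin : ∀ i, i < Group.nilpotencyClass X → γ i ≠ ⊥ := by
    intro i hi
    have h := lowerCentralSeries_length_eq_nilpotencyClass (G := X)
    rw [← h] at hi
    exact Nat.find_min _ hi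
  have hstat : ∀ i, γ (i + 1) = γ i → ∀ j, γ (i + j) = γ i := by
    intro i hi j
    induction j with
    | zero => rfl
    | succ j ih =>
      have h1 : γ (i + (j + 1)) = ⁅γ (i + j), ⊤⁆ := rfl
      rw [h1, ih]
      exact hi
  have hstrict : ∀ i, i < Group.nilpotencyClass X → γ (i + 1) ≠ γ i := by
    intro i hi h
    have h1 := hstat i h (Group.nilpotencyClass X - i)
    rw [show i + (Group.nilpotencyClass X - i) = Group.nilpotencyClass X by omega, hγc] at h1
    exact hmin i hi h1.symm
  have hle : ∀ i, γ (i + 1) ≤ γ i := fun i =>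
    (⊤ : Subgroup X).lowerCentralSeries_antitone (Nat.le_succ i)
  have hcardγ : ∀ j, j ≤ Group.nilpotencyClass X →
      2 ^ j ≤ Nat.card (γ (Group.nilpotencyClass X - j)) := by
    intro j
    induction j with
    | zero => intro _; rw [pow_zero]; exact Nat.card_pos
    | succ j ih =>
      intro hj
      have h1 := ih (by omega)
      set i := Group.nilpotencyClass X - (j + 1) with hi
      have hi2 : Group.nilpotencyClass X - j = i + 1 := by omega
      rw [hi2] at h1
      have hd := Subgroup.card_dvd_of_le (hle i)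
      obtain ⟨k, hk⟩ := hd
      have hk0 : k ≠ 0 := by
        rintro rfl
        have := Nat.card_pos (α := γ i)
        omega
      have hk1 : k ≠ 1 := by
        rintro rfl
        rw [mul_one] at hk
        exact hstrict i (by omega) (Subgroup.eq_of_le_of_card_ge (hle i) hk.le)
      have hk2 : 2 ≤ k := by omega
      rw [hk, pow_succ]
      calc 2 ^ j * 2 ≤ Nat.card (γ (i + 1)) * 2 := Nat.mul_le_mul_right _ h1
        _ ≤ Nat.card (γ (i + 1)) * k := Nat.mul_le_mul_left _ hk2
  have hX := hcardγ (n - 2) (by omega)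
  have hi1 : Group.nilpotencyClass X - (n - 2) = 1 := by omega
  rw [hi1] at hX
  have hγ1 : γ 1 = commutator X := Subgroup.top_lowerCentralSeries_one
  rw [hγ1] at hX
  have hnc : ∃ a b : X, a * b ≠ b * a := by
    by_contra hcon
    push Not at hcon
    have : IsMulCommutative X := ⟨⟨hcon⟩⟩
    have h2 := (Group.IsNilpotent.nilpotencyClass_le_one_iff (G := X)).mpr this
    omega
  have hge := index_ge_of_noncomm hp hnc
  have hmul := Subgroup.card_mul_index (commutator X)
  rw [hcard] at hmul
  have h3 : 2 ^ n = 2 ^ (n - 2) * 4 := by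
    obtain ⟨m, rfl⟩ : ∃ m, n = m + 3 := ⟨n - 3, by omega⟩
    have : m + 3 - 2 = m + 1 := by omega
    rw [this]
    ring
  by_contra hne
  have hlt : 5 ≤ (commutator X).index := by omega
  have h4 : 2 ^ (n - 2) * 5 ≤ Nat.card (commutator X) * (commutator X).index :=
    Nat.mul_le_mul hX hlt
  have h5 : 0 < 2 ^ (n - 2) := by positivity
  omega

end Cfsg.Agent.H01
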