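import Mathlib
import Cfsg.Agent.Lib.H01.Hall

/-!
Maximal subgroups and quotients; maximal subgroups of solvable groups have prime power index.
-/

namespace Cfsg.Agent.H01

open Subgroup
open scoped Pointwise

universe u

section

variable {G : Type u} [Group G]

/-- The image of a maximal subgroup containing the normal subgroup `N` is maximal. -/
theorem isCoatom_map_mk {N M : Subgroup G} [N.Normal] (hNM : N ≤ M) (hM : IsCoatom M) :
    IsCoatom (M.map (QuotientGroup.mk' N)) := by
  set f := QuotientGroup.mk' N with hf
  have hfs : Function.Surjective f := QuotientGroup.mk'_surjective N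
  have hker : f.ker ≤ M := by rwa [hf, QuotientGroup.ker_mk']
  constructor
  · intro h
    apply hM.1
    have := congrArg (Subgroup.comap f) h
    rw [Subgroup.comap_map_eq_self hker, Subgroup.comap_top] at this
    exact this
  · intro X hX
    have h1 : M < X.comap f := by
      refine lt_of_le_of_ne ?_ ?_
      · intro m hm
        exact hX.le (Subgroup.mem_map_of_mem f hm)
      · intro h
        apply hX.ne
        rw [h, Subgroup.map_comap_eq_self_of_surjective hfs]
    have h2 := hM.2 _ h1
    have h3 := congrArg (Subgroup.map f) h2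
    rw [Subgroup.map_comap_eq_self_of_surjective hfs] at h3
    rw [h3, ← MonoidHom.range_eq_map, MonoidHom.range_eq_top_of_surjective _ hfs]

theorem index_map_mk_of_le {N M : Subgroup G} [N.Normal] (hNM : N ≤ M) :
    (M.map (QuotientGroup.mk' N)).index = M.index := by
  set f := QuotientGroup.mk' N with hf
  have hfs : Function.Surjective f := QuotientGroup.mk'_surjective N
  have hker : f.ker ≤ M := by rwa [hf, QuotientGroup.ker_mk']
  have h1 := Subgroup.index_comap_of_surjective (M.map f) hfs
  rw [Subgroup.comap_map_eq_self hker] at h1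
  exact h1.symm

end

/-- Maximal subgroups of a finite solvable group have prime power index. -/
theorem isPrimePow_index_of_isCoatom : ∀ (n : ℕ) (G : Type u) [Group G] [Finite G] [Group.IsSolvable G],
    Nat.card G = n → ∀ M : Subgroup G, IsCoatom M → IsPrimePow M.index := by
  intro n
  induction n using Nat.strong_induction_on with
  | _ n ih =>
  intro G _ _ _ hn M hM
  haveI hnt : Nontrivial G := by
    by_contra h
    rw [not_nontrivial_iff_subsingleton] at h
    exact hM.1 (Subsingleton.elim _ _)
  obtain ⟨R, p, hRn, hRbot, hp, hab, hRpow⟩ := exists_elementary_abelian_normal (G := G)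
  have hRpos : 0 < Nat.card R := Nat.card_pos
  have hRgt : 1 < Nat.card R := by
    have hne : Nat.card R ≠ 1 := by
      intro h
      exact hRbot ((Subgroup.card_eq_one).mp h)
    omega
  have hQcard := card_quotient_mul R
  by_cases hRM : R ≤ M
  · have hQlt : Nat.card (G ⧸ R) < n := by
      rw [← hn, ← hQcard]
      have hQpos : 0 < Nat.card (G ⧸ R) := Nat.card_pos
      nlinarith
    have := ih _ hQlt (G ⧸ R) rfl _ (isCoatom_map_mk hRM hM)
    rwa [index_map_mk_of_le hRM] at this
  · have hsup : M ⊔ R = ⊤ := by
      apply hM.2
      exact lt_of_le_of_ne le_sup_left (fun h => hRM (by rw [h]; exact le_sup_right))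
    -- `|G : M| = |R : R ∩ M|`
    have h1 := card_sup_mul_card_inf M R
    rw [hsup, Subgroup.card_top, ← M.card_mul_index] at h1
    have hMpos : 0 < Nat.card M := Nat.card_pos
    have h2 : M.index * Nat.card (M ⊓ R : Subgroup G) = Nat.card R := by
      apply Nat.eq_of_mul_eq_mul_left hMpos
      rw [← h1]
      ring
    haveI := Fact.mk hp
    have hpg : IsPGroup p R := fun x => ⟨1, by
      apply Subtype.ext
      simpa using hRpow x x.2⟩
    obtain ⟨k, hk⟩ := IsPGroup.iff_card.mp hpg
    have h3 : M.index ∣ p ^ k := by
      rw [← hk, ← h2]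
      exact Dvd.intro _ rfl
    obtain ⟨j, -, hj⟩ := (Nat.dvd_prime_pow hp).mp h3
    rw [isPrimePow_nat_iff]
    refine ⟨p, j, hp, ?_, hj.symm⟩
    rcases Nat.eq_zero_or_pos j with h0 | h0
    · exfalso
      rw [h0, pow_zero, Subgroup.index_eq_one] at hj
      exact hM.1 hj
    · exact h0

end Cfsg.Agent.H01
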