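import Mathlib
import Cfsg.Agent.Lib.H14.UniqueSub
import Cfsg.Agent.Lib.H14.Nilp
import Cfsg.Agent.Lib.H15.EarlyChar2
import Cfsg.Agent.Lib.H01.MaxNormal
import Cfsg.Agent.Lib.H19.MaxClass
import Cfsg.Agent.Lib.H18.Syl

/-! A `2`-group containing an elementary abelian subgroup of order 8 has a normal four-subgroup. -/

set_option autoImplicit false

namespace Cfsg.Agent.H01

open scoped commutatorElement

variable {T : Type*} [Group T] [Finite T]

theorem mem_zpowers_sq {z w : T} (hz : z ^ 2 = 1) (hw : w ∈ Subgroup.zpowers z) : w = 1 ∨ w = z := by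
  obtain ⟨k, rfl⟩ := Subgroup.mem_zpowers_iff.mp hw
  rcases Int.even_or_odd' k with ⟨m, rfl | rfl⟩
  · left
    rw [zpow_mul]
    have : z ^ (2 : ℤ) = 1 := by exact_mod_cast hz
    rw [this, one_zpow]
  · right
    rw [zpow_add, zpow_mul]
    have : z ^ (2 : ℤ) = 1 := by exact_mod_cast hz
    rw [this, one_zpow]
    simp

/-- A four-group from a central involution and an involution central modulo it. -/
theorem mk_normal_four {z a : T} (hz : z ^ 2 = 1) (hz1 : z ≠ 1) (hzc : ∀ t : T, t * z * t⁻¹ = z)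
    (ha : a ^ 2 = 1) (haZ : a ∉ Subgroup.zpowers z)
    (hac : ∀ t : T, t * a * t⁻¹ * a⁻¹ ∈ Subgroup.zpowers z) :
    ∃ V : Subgroup T, V.Normal ∧ Nat.card V = 4 ∧ (∀ v ∈ V, v ^ 2 = 1) ∧ z ∈ V ∧ a ∈ V := by
  classical
  set Z := Subgroup.zpowers z with hZ
  have hZn : Z.Normal := by
    constructor
    intro n hn g
    obtain ⟨k, rfl⟩ := Subgroup.mem_zpowers_iff.mp hn
    rw [← conj_zpow, hzc]
    exact Subgroup.zpow_mem_zpowers z k
  let π := QuotientGroup.mk' Z
  have hac' : ∀ s : T ⧸ Z, s * π a * s⁻¹ = π a := by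
    intro s
    obtain ⟨t, rfl⟩ := QuotientGroup.mk'_surjective Z s
    have h1 := hac t
    have h2 : π (t * a * t⁻¹ * a⁻¹) = 1 := (QuotientGroup.eq_one_iff _).mpr h1
    simp only [map_mul, map_inv] at h2
    rw [mul_inv_eq_one] at h2
    exact h2
  let W : Subgroup (T ⧸ Z) := Subgroup.zpowers (π a)
  have hWn : W.Normal := by
    constructor
    intro n hn g
    obtain ⟨k, rfl⟩ := Subgroup.mem_zpowers_iff.mp hn
    rw [← conj_zpow, hac']
    exact Subgroup.zpow_mem_zpowers _ k
  have hπa1 : π a ≠ 1 := fun h => haZ ((QuotientGroup.eq_one_iff _).mp h)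
  have hπa2 : (π a) ^ 2 = 1 := by rw [← map_pow, ha, map_one]
  have hordπ : orderOf (π a) = 2 := orderOf_eq_prime hπa2 hπa1
  have hordz : orderOf z = 2 := orderOf_eq_prime hz hz1
  refine ⟨W.comap π, hWn.comap π, ?_, ?_, ?_, ?_⟩
  · have h1 := Cfsg.Agent.H19.card_comap_mk (Z := Z) W
    rw [h1, Nat.card_zpowers, Nat.card_zpowers, hordπ, hordz]
  · intro v hv
    obtain ⟨k, hk⟩ := Subgroup.mem_zpowers_iff.mp hv
    have h2 : (a ^ k)⁻¹ * v ∈ Z := by
      rw [← QuotientGroup.eq_one_iff]
      change π ((a ^ k)⁻¹ * v) = 1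
      rw [map_mul, map_inv, map_zpow, hk, inv_mul_cancel]
    obtain ⟨j, hj⟩ := Subgroup.mem_zpowers_iff.mp h2
    have h3 : v = a ^ k * z ^ j := by rw [hj]; group
    have hcz : ∀ t : T, Commute t (z ^ j) := by
      intro t
      apply Commute.zpow_right
      have := hzc t
      rw [mul_inv_eq_iff_eq_mul] at this
      exact this
    rw [h3, (hcz _).mul_pow]
    have h4 : (a ^ k) ^ 2 = 1 := by
      rw [← zpow_natCast, ← zpow_mul, mul_comm, zpow_mul, zpow_natCast, ha, one_zpow]
    have h5 : (z ^ j) ^ 2 = 1 := by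
      rw [← zpow_natCast, ← zpow_mul, mul_comm, zpow_mul, zpow_natCast, hz, one_zpow]
    rw [h4, h5, one_mul]
  · have : π z = 1 := (QuotientGroup.eq_one_iff _).mpr (Subgroup.mem_zpowers z)
    change π z ∈ W
    rw [this]
    exact W.one_mem
  · exact Subgroup.mem_zpowers (π a)

/-- Key lemma. -/
theorem exists_normal_four_of_E8 (hT : IsPGroup 2 T) (E : Subgroup T) (hE8 : Nat.card E = 8)
    (hE2 : ∀ e ∈ E, e ^ 2 = 1) :
    ∃ V : Subgroup T, V.Normal ∧ Nat.card V = 4 ∧ ∀ v ∈ V, v ^ 2 = 1 := by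
  classical
  haveI : Fact (Nat.Prime 2) := ⟨Nat.prime_two⟩
  haveI : Group.IsNilpotent T := hT.isNilpotent
  obtain ⟨M, hMn, hMab, hMc⟩ := Cfsg.Agent.H14.exists_normal_abelian_selfCentralizing (G := T)
  have hMcomm : ∀ a ∈ M, ∀ b ∈ M, a * b = b * a := by
    intro a ha b hb
    have := hMab.is_comm.comm ⟨a, ha⟩ ⟨b, hb⟩
    exact congrArg Subtype.val this
  have hMp : IsPGroup 2 M := hT.to_subgroup M
  by_cases hU : Cfsg.Agent.H14.UniqueP 2 M
  · -- cyclic case
    have hcyc : IsCyclic M := Cfsg.Agent.H14.isCyclic_of_comm_uniqueP hMp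
      (fun x y => Subtype.ext (hMcomm x x.2 y y.2)) hU
    -- elements of exponent 4
    let B : Subgroup T :=
      { carrier := {x | x ∈ M ∧ x ^ 4 = 1}
        one_mem' := ⟨M.one_mem, one_pow _⟩
        mul_mem' := by
          rintro a b ⟨ha, ha4⟩ ⟨hb, hb4⟩
          refine ⟨M.mul_mem ha hb, ?_⟩
          rw [(show Commute a b from hMcomm a ha b hb).mul_pow, ha4, hb4, one_mul]
        inv_mem' := by
          rintro a ⟨ha, ha4⟩
          exact ⟨M.inv_mem ha, by rw [inv_pow, ha4, inv_one]⟩ }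
    have hBn : B.Normal := by
      constructor
      rintro n ⟨hn, hn4⟩ g
      exact ⟨hMn.conj_mem n hn g, by rw [conj_pow, hn4]; simp⟩
    have hBab : IsMulCommutative B := ⟨⟨fun x y => Subtype.ext (hMcomm _ x.2.1 _ y.2.1)⟩⟩
    obtain ⟨i, hi⟩ := IsPGroup.iff_card.mp (hT.to_subgroup B)
    have hB4 : Nat.card B ≤ 4 := by
      haveI := Fintype.ofFinite M
      have h1 := IsCyclic.card_pow_eq_one_le (α := M) (n := 4) (by norm_num)
      have h2 : Nat.card B ≤ Nat.card {a : M // a ^ 4 = 1} := by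
        apply Nat.card_le_card_of_injective
          (fun b : B => (⟨⟨b.1, b.2.1⟩, Subtype.ext (by simpa using b.2.2)⟩ : {a : M // a ^ 4 = 1}))
        intro a b hab
        have := congrArg (fun x : {a : M // a ^ 4 = 1} => ((x.1 : M) : T)) hab
        exact Subtype.ext this
      have h3 : Nat.card {a : M // a ^ 4 = 1} = (Finset.univ.filter (fun a : M => a ^ 4 = 1)).card := by
        rw [Nat.card_eq_fintype_card, Fintype.card_subtype]
      omega
    have hi2 : i ≤ 2 := by
      rw [hi] at hB4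
      by_contra hc
      push Not at hc
      have : 2 ^ 3 ≤ 2 ^ i := Nat.pow_le_pow_right (by norm_num) hc
      omega
    have hidx := Cfsg.Agent.H01.index_centralizer_le_choose hT i B hBn hBab hi
    have hidx2 : (Subgroup.centralizer (B : Set T)).index ≤ 2 := by
      refine hidx.trans ?_
      interval_cases i <;> simp
    -- an element of `E` outside `M` centralizing `B`
    set C := Subgroup.centralizer (B : Set T) with hC
    have hEC : 4 ≤ Nat.card (E ⊓ C : Subgroup T) := by
      have h1 : C.relIndex E ≤ C.index := by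
        have h2 := Subgroup.relIndex_le_of_le_right (H := C) (K := E) (L := ⊤) le_top
          (by rw [Subgroup.relIndex_top_right]; exact Subgroup.index_ne_zero_of_finite)
        rwa [Subgroup.relIndex_top_right] at h2
      have h3 := Cfsg.Agent.H18.card_inf_mul_relIndex C E
      rw [inf_comm]
      rw [hE8] at h3
      have h4 : C.relIndex E ≤ 2 := h1.trans hidx2
      by_contra hlt
      push Not at hlt
      have : Nat.card (C ⊓ E : Subgroup T) * C.relIndex E ≤ 3 * 2 := Nat.mul_le_mul (by omega) h4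
      omega
    obtain ⟨u, huE, huC, huM⟩ : ∃ u, u ∈ E ∧ u ∈ C ∧ u ∉ M := by
      by_contra hcon
      push Not at hcon
      have h1 := Cfsg.Agent.H14.card_pow_p_le (G := M) (p := 2) hU
      have h2 : Nat.card (E ⊓ C : Subgroup T) ≤ Nat.card {g : M // g ^ 2 = 1} := by
        apply Nat.card_le_card_of_injective
          (fun b : (E ⊓ C : Subgroup T) => (⟨⟨b.1, hcon b.1 b.2.1 b.2.2⟩, Subtype.ext (by simpa using hE2 b.1 b.2.1)⟩ : {a : M // a ^ 2 = 1}))
        intro a b hab
        have := congrArg (fun x : {a : M // a ^ 2 = 1} => ((x.1 : M) : T)) hab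
        exact Subtype.ext this
      omega
    have hu2 : u ^ 2 = 1 := hE2 u huE
    have huinv : u⁻¹ = u := by
      rw [inv_eq_iff_mul_eq_one, ← sq, hu2]
    -- elements inverted by `u`
    have hinvert : ∀ y ∈ M, u * y * u⁻¹ = y⁻¹ → y ^ 2 = 1 := by
      intro y hyM hy
      by_contra hy2
      obtain ⟨k, hk⟩ := IsPGroup.iff_orderOf.mp hT y
      have hk2 : 2 ≤ k := by
        by_contra hlt
        push Not at hlt
        apply hy2
        have : orderOf y ∣ 2 := by
          rw [hk]
          simpa using pow_dvd_pow 2 (show k ≤ 1 by omega)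
        exact orderOf_dvd_iff_pow_eq_one.mp this
      obtain ⟨l, rfl⟩ : ∃ l, k = l + 2 := ⟨k - 2, by omega⟩
      let b := y ^ 2 ^ l
      have hb4 : b ^ 4 = 1 := by
        have : b ^ 4 = y ^ (2 ^ (l + 2)) := by
          simp only [b]
          rw [← pow_mul]
          congr 1
          ring
        rw [this, ← hk, pow_orderOf_eq_one]
      have hbB : b ∈ B := ⟨M.pow_mem hyM _, hb4⟩
      have hb2 : b ^ 2 ≠ 1 := by
        have : b ^ 2 = y ^ (2 ^ (l + 1)) := by
          simp only [b]
          rw [← pow_mul, pow_succ]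
        rw [this]
        apply pow_ne_one_of_lt_orderOf (by positivity)
        rw [hk]
        exact Nat.pow_lt_pow_right (by norm_num) (by omega)
      have hbc : u * b = b * u := (Subgroup.mem_centralizer_iff.mp huC b hbB).symm
      have hbinv : u * b * u⁻¹ = b⁻¹ := by
        simp only [b]
        rw [← conj_pow, hy, inv_pow]
      apply hb2
      rw [hbc, mul_inv_cancel_right] at hbinv
      rw [sq]
      nth_rw 1 [hbinv]
      exact inv_mul_cancel b
    -- a commutator
    have hne : u ∉ Subgroup.centralizer (M : Set T) := fun h => huM (hMc h)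
    rw [Subgroup.mem_centralizer_iff] at hne
    push Not at hne
    obtain ⟨x, hxM, hxu⟩ := hne
    let z := u * x * u⁻¹ * x⁻¹
    have hzM : z ∈ M := by
      refine M.mul_mem (hMn.conj_mem x hxM u) (M.inv_mem hxM)
    have hz1 : z ≠ 1 := by
      intro h
      apply hxu
      simp only [z] at h
      rw [mul_inv_eq_one, mul_inv_eq_iff_eq_mul] at h
      exact h.symm
    have hzinv : u * z * u⁻¹ = z⁻¹ := by
      simp only [z]
      have h1 : u * (u * x * u⁻¹ * x⁻¹) * u⁻¹ = (u * u) * x * (u⁻¹ * u⁻¹) * (u * x⁻¹ * u⁻¹) := by group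
      rw [h1]
      have h2 : u * u = 1 := by rw [← sq, hu2]
      have h3 : u⁻¹ * u⁻¹ = 1 := by rw [huinv, h2]
      rw [h2, h3]
      group
    have hz2 : z ^ 2 = 1 := hinvert z hzM hzinv
    -- the unique involution
    have hinv : ∀ w ∈ M, w ^ 2 = 1 → w ∈ Subgroup.zpowers z := by
      intro w hw hw2
      by_cases hw1 : w = 1
      · rw [hw1]
        exact Subgroup.one_mem _
      have h1 : orderOf (⟨z, hzM⟩ : M) = 2 := by
        rw [Subgroup.orderOf_mk]
        exact orderOf_eq_prime hz2 hz1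
      have h2 : orderOf (⟨w, hw⟩ : M) = 2 := by
        rw [Subgroup.orderOf_mk]
        exact orderOf_eq_prime hw2 hw1
      obtain ⟨k, hk⟩ := Subgroup.mem_zpowers_iff.mp (hU _ _ h1 h2)
      refine Subgroup.mem_zpowers_iff.mpr ⟨k, ?_⟩
      have := congrArg Subtype.val hk
      simpa using this
    have hzc : ∀ t : T, t * z * t⁻¹ = z := by
      intro t
      have h1 : t * z * t⁻¹ ∈ M := hMn.conj_mem z hzM t
      have h2 : (t * z * t⁻¹) ^ 2 = 1 := by rw [conj_pow, hz2]; simp
      rcases mem_zpowers_sq hz2 (hinv _ h1 h2) with h3 | h3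
      · exfalso
        apply hz1
        rw [mul_inv_eq_one] at h3
        exact mul_left_cancel (a := t) (by rw [h3, mul_one])
      · exact h3
    -- power maps
    obtain ⟨a, ha⟩ := hcyc.exists_generator
    obtain ⟨s, hs⟩ : ∃ s : ℤ, u * (a : T) * u⁻¹ = (a : T) ^ s := by
      have h1 : u * (a : T) * u⁻¹ ∈ M := hMn.conj_mem _ a.2 u
      obtain ⟨s, hs⟩ := Subgroup.mem_zpowers_iff.mp (ha ⟨_, h1⟩)
      refine ⟨s, ?_⟩
      have := congrArg Subtype.val hs
      simpa using this.symm
    have hpow : ∀ c ∈ M, u * c * u⁻¹ = c ^ s := by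
      intro c hc
      obtain ⟨j, hj⟩ := Subgroup.mem_zpowers_iff.mp (ha ⟨c, hc⟩)
      have hcj : c = (a : T) ^ j := by
        have := congrArg Subtype.val hj
        simpa using this.symm
      rw [hcj, ← conj_zpow, hs, ← zpow_mul, ← zpow_mul, mul_comm]
    have hac : ∀ t : T, t * u * t⁻¹ * u⁻¹ ∈ Subgroup.zpowers z := by
      intro t
      set w := t * u * t⁻¹ with hw
      have hcent : u⁻¹ * w ∈ Subgroup.centralizer (M : Set T) := by
        rw [Subgroup.mem_centralizer_iff]
        intro m hm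
        have hm' : t⁻¹ * m * t ∈ M := by
          have := hMn.conj_mem m hm t⁻¹
          simpa using this
        have h1 : w * m * w⁻¹ = u * m * u⁻¹ := by
          have h2 : w * m * w⁻¹ = t * (u * (t⁻¹ * m * t) * u⁻¹) * t⁻¹ := by
            rw [hw]; group
          rw [h2, hpow _ hm', hpow _ hm]
          have h3 : t⁻¹ * m * t = t⁻¹ * m * t⁻¹⁻¹ := by simp
          rw [h3, ← conj_zpow]
          simp only [inv_inv]
          have h4 : t * (t⁻¹ * m * t) * t⁻¹ = m := by group
          rw [h4]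
        have h5 : w * m = u * m * u⁻¹ * w := by
          rw [← h1]; group
        calc m * (u⁻¹ * w) = u⁻¹ * (u * m * u⁻¹ * w) := by group
          _ = u⁻¹ * (w * m) := by rw [h5]
          _ = u⁻¹ * w * m := by group
      have hbM : u⁻¹ * w ∈ M := hMc hcent
      have hb2M : w * u⁻¹ ∈ M := by
        have := hMn.conj_mem _ hbM u
        have e : u * (u⁻¹ * w) * u⁻¹ = w * u⁻¹ := by group
        rwa [e] at this
      have hw2 : w ^ 2 = 1 := by rw [hw, conj_pow, hu2]; simp
      have hbinv : u * (w * u⁻¹) * u⁻¹ = (w * u⁻¹)⁻¹ := by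
        have hwinv : w⁻¹ = w := by rw [inv_eq_iff_mul_eq_one, ← sq, hw2]
        rw [mul_inv_rev, inv_inv, hwinv, huinv]
        have h2 : u * u = 1 := by rw [← sq, hu2]
        calc u * (w * u) * u = u * w * (u * u) := by group
          _ = u * w := by rw [h2, mul_one]
      have := hinvert _ hb2M hbinv
      exact hinv _ hb2M this
    have huZ : u ∉ Subgroup.zpowers z := by
      intro h
      rcases mem_zpowers_sq hz2 h with h3 | h3
      · exact huM (h3 ▸ M.one_mem)
      · exact huM (h3 ▸ hzM)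
    obtain ⟨V, h1, h2, h3, -, -⟩ := mk_normal_four hz2 hz1 hzc hu2 huZ hac
    exact ⟨V, h1, h2, h3⟩
  · -- two independent involutions
    unfold Cfsg.Agent.H14.UniqueP at hU
    push Not at hU
    obtain ⟨x, y, hx, hy, hxy⟩ := hU
    let Ω : Subgroup T :=
      { carrier := {a | a ∈ M ∧ a ^ 2 = 1}
        one_mem' := ⟨M.one_mem, one_pow _⟩
        mul_mem' := by
          rintro a b ⟨ha, ha4⟩ ⟨hb, hb4⟩
          refine ⟨M.mul_mem ha hb, ?_⟩
          rw [(show Commute a b from hMcomm a ha b hb).mul_pow, ha4, hb4, one_mul]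
        inv_mem' := by
          rintro a ⟨ha, ha4⟩
          exact ⟨M.inv_mem ha, by rw [inv_pow, ha4, inv_one]⟩ }
    have hΩn : Ω.Normal := by
      constructor
      rintro n ⟨hn, hn4⟩ g
      exact ⟨hMn.conj_mem n hn g, by rw [conj_pow, hn4]; simp⟩
    have hxΩ : (x : T) ∈ Ω := ⟨x.2, by
      have : x ^ 2 = 1 := by rw [← hx]; exact pow_orderOf_eq_one x
      exact_mod_cast congrArg Subtype.val this⟩
    have hyΩ : (y : T) ∈ Ω := ⟨y.2, by
      have : y ^ 2 = 1 := by rw [← hy]; exact pow_orderOf_eq_one y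
      exact_mod_cast congrArg Subtype.val this⟩
    have hx1 : (x : T) ≠ 1 := by
      intro h
      have : x = 1 := Subtype.ext h
      rw [this, orderOf_one] at hx
      omega
    have hy1 : (y : T) ≠ 1 := by
      intro h
      have : y = 1 := Subtype.ext h
      rw [this, orderOf_one] at hy
      omega
    obtain ⟨z, hzΩ, hz1, hzc⟩ := Cfsg.Agent.H15.exists_central_mod Ω ⊥ hΩn (by
      intro h
      exact hx1 (Subgroup.mem_bot.mp (h hxΩ)))
    have hz1' : z ≠ 1 := fun h => hz1 (by rw [h]; exact Subgroup.one_mem _)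
    have hzcc : ∀ t : T, t * z * t⁻¹ = z := by
      intro t
      have h0 := hzc t
      rw [Subgroup.mem_bot] at h0
      have h1 : Commute z t := commutatorElement_eq_one_iff_commute.mp h0
      rw [← h1.eq, mul_inv_cancel_right]
    have hz2 : z ^ 2 = 1 := hzΩ.2
    obtain ⟨a, haΩ, haZ, hac⟩ := Cfsg.Agent.H15.exists_central_mod Ω (Subgroup.zpowers z) hΩn (by
      intro h
      have h1 : (x : T) = z := (mem_zpowers_sq hz2 (h hxΩ)).resolve_left hx1
      have h2 : (y : T) = z := (mem_zpowers_sq hz2 (h hyΩ)).resolve_left hy1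
      apply hxy
      have : y = x := Subtype.ext (h2.trans h1.symm)
      rw [this]
      exact Subgroup.mem_zpowers x)
    have hac' : ∀ t : T, t * a * t⁻¹ * a⁻¹ ∈ Subgroup.zpowers z := by
      intro t
      have h2 := (Subgroup.zpowers z).inv_mem (hac t)
      rwa [commutatorElement_inv, commutatorElement_def] at h2
    obtain ⟨V, h1, h2, h3, -, -⟩ := mk_normal_four hz2 hz1' hzcc haΩ.2 haZ hac'
    exact ⟨V, h1, h2, h3⟩

end Cfsg.Agent.H01
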