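import Cfsg.Agent.Lib.H01.OmFinal
import Cfsg.Agent.Lib.Lead.OmegaForms
/-! The automorphism groups of the orthogonal groups of the three standard forms. -/
set_option autoImplicit false
set_option linter.unusedSimpArgs false
set_option linter.style.haveILetI false
set_option linter.unusedSectionVars false
set_option linter.unusedVariables false
namespace Cfsg.Agent.H01.Om
open Matrix Cfsg.Agent.Lead.Ortho Cfsg.Agent.Lead.Omega

variable {F : Type*} [Field F] [Fintype F] {ι : Type} [Fintype ι] [DecidableEq ι]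
variable {Q : (ι → F) → F} {B : (ι → F) → (ι → F) → F}

/-- the assembled context from a standard frame -/
lemma mkCx (h : QF Q B) (hnd : ND B (⊤ : Submodule F (ι → F))) {m' : ℕ}
    {t₀ : Fin (m' + 1 + 1) → (ι → F) × (ι → F)} (ht₀ : IsHF Q B t₀) (hm : 1 ≤ m')
    (hanis : ∀ w ∈ perpOf h t₀, Q w = 0 → w = 0) : Cx Q B t₀ :=
  ⟨h, hnd, ht₀, by omega, omega_eq_SS h hnd ht₀ hm hanis⟩

/-- if there is no totally singular quadruple -/
lemma noFour_of_anis (h : QF Q B) (hnd : ND B (⊤ : Submodule F (ι → F))) 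
    {t₀ : Fin 3 → (ι → F) × (ι → F)} (ht₀ : IsHF Q B t₀) 
    (hanis : ∀ w ∈ perpOf h t₀, Q w = 0 → w = 0) : NoFour Q B := by
  intro a Qa Ba hind
  obtain ⟨t, ht, -, -⟩ := exists_frame h hnd a (fun _ => Submodule.mem_top) Qa Ba hind
  obtain ⟨w, hw, hw0, Qw⟩ := hasSing h ht (show 3 < 4 by norm_num) t₀ ht₀
  exact hw0 (hanis w hw Qw)

/-- a large space has room -/
lemma big_of_card (h : QF Q B) {m : ℕ} {t₀ : Fin m → (ι → F) × (ι → F)} (ht₀ : IsHF Q B t₀) (hm : 3 < m)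
    (hcard : 8 < Fintype.card ι) : Big h := by
  constructor
  · intro t ht
    let L : (ι → F) →ₗ[F] (Fin 4 ⊕ Fin 4 → F) :=
      { toFun := fun x => Sum.elim (fun i => B x (t i).1) (fun i => B x (t i).2)
        map_add' := fun x y => by
          funext k
          rcases k with i | i <;> simp [h.add_left]
        map_smul' := fun c x => by
          funext k
          rcases k with i | i <;> simp [h.smul_left] }
    have hk : LinearMap.ker L ≠ ⊥ := by
      apply LinearMap.ker_ne_bot_of_finrank_lt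
      simpa using hcard
    obtain ⟨r, hr, hr0⟩ := (Submodule.ne_bot_iff _).1 hk
    refine ⟨r, ?_, hr0⟩
    intro i
    have e1 : L r = 0 := hr
    exact ⟨congrFun e1 (.inl i), congrFun e1 (.inr i)⟩
  · intro t ht
    exact hasSing h ht₀ hm t ht

theorem gamma_top_three (h : QF Q B) (hnd : ND B (⊤ : Submodule F (ι → F)))
    {t₀ : Fin 3 → (ι → F) × (ι → F)} (ht₀ : IsHF Q B t₀)
    (hanis : ∀ w ∈ perpOf h t₀, Q w = 0 → w = 0) : Cfsg.gammaPOmega F Q = ⊤ :=
  (mkCx (m' := 1) h hnd ht₀ le_rfl hanis).gamma_top (Or.inl (noFour_of_anis h hnd ht₀ hanis))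

theorem gamma_top_big (h : QF Q B) (hnd : ND B (⊤ : Submodule F (ι → F))) {m' : ℕ}
    {t₀ : Fin (m' + 1 + 1) → (ι → F) × (ι → F)} (ht₀ : IsHF Q B t₀) (hm : 2 ≤ m')
    (hanis : ∀ w ∈ perpOf h t₀, Q w = 0 → w = 0) (hcard : 8 < Fintype.card ι) : Cfsg.gammaPOmega F Q = ⊤ :=
  (mkCx h hnd ht₀ (by omega) hanis).gamma_top (Or.inr (big_of_card h ht₀ (by omega) hcard))

/-- odd dimension -/
theorem gamma_top_odd (hodd : Odd (Fintype.card F)) {m : ℕ} (hm : 3 ≤ m) :
    Cfsg.gammaPOmega F (Cfsg.quadFormOdd m F) = ⊤ := by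
  have h2 : (2 : F) ≠ 0 := two_ne_zero_of_odd rfl hodd
  rcases Nat.lt_or_ge 3 m with hm3 | hm3
  · obtain ⟨m', rfl⟩ : ∃ m', m = m' + 1 + 1 := ⟨m - 2, by omega⟩
    refine gamma_top_big (qfOdd _) (ndOdd _ h2) (frameOdd_HF _) (by omega) (frameOdd_anis _) ?_
    simp only [Fintype.card_sum, Fintype.card_unit, Fintype.card_fin]
    omega
  · obtain rfl : m = 3 := by omega
    exact gamma_top_three (qfOdd _) (ndOdd _ h2) (frameOdd_HF _) (frameOdd_anis _)

/-- plus type -/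
theorem gamma_top_plus {m : ℕ} (hm : 5 ≤ m) :
    Cfsg.gammaPOmega F (Cfsg.quadFormPlus m F) = ⊤ := by
  obtain ⟨m', rfl⟩ : ∃ m', m = m' + 1 + 1 := ⟨m - 2, by omega⟩
  refine gamma_top_big (qfPlus _) (ndPlus _) (framePlus_HF _) (by omega) (framePlus_anis _) ?_
  simp only [Fintype.card_sum, Fintype.card_fin]
  omega

/-- minus type -/
theorem gamma_top_minus {m : ℕ} (hm : 3 ≤ m) (a b : F)
    (hab : ∀ z₁ z₂ : F, z₁ ^ 2 + a * z₁ * z₂ + b * z₂ ^ 2 = 0 → z₁ = 0 ∧ z₂ = 0) :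
    Cfsg.gammaPOmega F (Cfsg.quadFormMinus m F a b) = ⊤ := by
  rcases Nat.lt_or_ge 3 m with hm3 | hm3
  · obtain ⟨m', rfl⟩ : ∃ m', m = m' + 1 + 1 := ⟨m - 2, by omega⟩
    refine gamma_top_big (qfMinus _ a b) (ndMinus _ a b hab) (frameMinus_HF a b _) (by omega) (frameMinus_anis a b hab _) ?_
    simp only [Fintype.card_sum, Fintype.card_fin]
    omega
  · obtain rfl : m = 3 := by omega
    exact gamma_top_three (qfMinus _ a b) (ndMinus _ a b hab) (frameMinus_HF a b _) (frameMinus_anis a b hab _)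

end Cfsg.Agent.H01.Om
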