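import Cfsg.Agent.Lib.H01.OmIdxOdd
/-! The automorphisms of `PΩ` coming from the isometry group and from field automorphisms. -/
set_option autoImplicit false
set_option linter.unusedSimpArgs false
set_option linter.style.haveILetI false
set_option linter.unusedSectionVars false
set_option linter.unusedVariables false
namespace Cfsg.Agent.H01.Om
open Matrix Cfsg.Agent.Lead.Ortho Cfsg.Agent.Lead.Omega

variable {F : Type*} [Field F] [Fintype F] {ι : Type} [Fintype ι] [DecidableEq ι]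
variable {Q : (ι → F) → F} {B : (ι → F) → (ι → F) → F}
variable {m : ℕ} {t₀ : Fin m → (ι → F) × (ι → F)}

/-- `liftZ` as a homomorphism -/
noncomputable def liftZH {H : Type*} [Group H] : MulAut H →* MulAut (H ⧸ Subgroup.center H) where
  toFun := liftZ
  map_one' := by
    ext x
    obtain ⟨s, rfl⟩ := QuotientGroup.mk_surjective x
    rfl
  map_mul' a b := by
    ext x
    obtain ⟨s, rfl⟩ := QuotientGroup.mk_surjective x
    rfl

/-- restriction to `Ω` of automorphisms of the isometry group -/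
noncomputable def resΩ (Q : (ι → F) → F) : MulAut (OG F Q) →* MulAut ↥(Cfsg.Omega F Q) where
  toFun θ := (θ.subgroupMap (Cfsg.Omega F Q)).trans
    (MulEquiv.subgroupCongr (Subgroup.characteristic_iff_map_eq.mp inferInstance θ))
  map_one' := by
    ext x
    rfl
  map_mul' a b := by
    ext x
    rfl

lemma resΩ_val (θ : MulAut (OG F Q)) (s : ↥(Cfsg.Omega F Q)) : ((resΩ Q θ s : ↥(Cfsg.Omega F Q)) : OG F Q) = θ (s : OG F Q) := rfl

/-- automorphisms of the isometry group act on `PΩ` -/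
noncomputable def Thh (Q : (ι → F) → F) : MulAut (OG F Q) →* MulAut (Cfsg.POmega F Q) := liftZH.comp (resΩ Q)

lemma Thh_mk (θ : MulAut (OG F Q)) (s : ↥(Cfsg.Omega F Q)) :
    Thh Q θ (QuotientGroup.mk s : Cfsg.POmega F Q) = QuotientGroup.mk (resΩ Q θ s) := rfl

/-- conjugation by isometries -/
noncomputable def cc (Q : (ι → F) → F) : OG F Q →* MulAut (Cfsg.POmega F Q) := (Thh Q).comp MulAut.conj

lemma cc_mk (g : OG F Q) (s : ↥(Cfsg.Omega F Q)) :
    cc Q g (QuotientGroup.mk s : Cfsg.POmega F Q) = QuotientGroup.mk (resΩ Q (MulAut.conj g) s) := rfl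

lemma cP_eq_Thh {g : GL ι F} {σ : F ≃+* F} {κ : F} (H : SemiM Q g σ κ) : cP H = Thh Q (cOA H) := rfl

lemma cOA_apply {g : GL ι F} {σ : F ≃+* F} {κ : F} (H : SemiM Q g σ κ) (s : OG F Q) : cOA H s = cO H s := rfl

section Cxx
variable (C : Cx Q B t₀)
include C

lemma Cx.cc_ee (g : OG F Q) {u a : ι → F} (hA : Adm Q B u a) :
    cc Q g (C.ee u a) = C.ee (act g u) (act g a) := by
  unfold Cx.ee
  rw [cc_mk]
  congr 1
  apply Subtype.ext
  rw [resΩ_val]
  exact eO_conj g hA

/-- isometries acting trivially on `PΩ` are scalars -/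
lemma Cx.scalar_of_cc (g : OG F Q) (hg : cc Q g = 1) : ∃ α : F, ∀ x, act g x = α • x := by
  have h := C.h
  apply scalar_of_eigen C.h C.nd C.ht C.hm
  intro v Qv hv0
  have hQ' : Q (act g v) = 0 := by rw [Q_act (Q := Q)]; exact Qv
  have hv' : act g v ≠ 0 := by
    intro e
    apply hv0
    apply act_injective g
    rw [e, act_zero]
  have hsub : C.QQ v ⊆ C.QQ (act g v) := by
    rintro _ ⟨a, ha, rfl⟩
    refine ⟨act g a, by rw [B_act h]; exact ha, ?_⟩
    have := C.cc_ee g ⟨Qv, ha⟩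
    rw [hg] at this
    exact this
  obtain ⟨c, -, e⟩ := C.par_of_QQ Qv hv0 hQ' hv' hsub
  exact ⟨c, e⟩

omit C in
lemma cc_of_scalar {g : OG F Q} {α : F} (hg : ∀ x, act g x = α • x) : cc Q g = 1 := by
  ext x
  obtain ⟨s, rfl⟩ := QuotientGroup.mk_surjective x
  rw [cc_mk]
  change _ = (s : Cfsg.POmega F Q)
  congr 1
  apply Subtype.ext
  rw [resΩ_val]
  change g * (s : OG F Q) * g⁻¹ = s
  have e : g * (s : OG F Q) = s * g := by
    apply og_ext
    intro x
    rw [act_mul, act_mul, hg, hg, act_smul]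
  rw [e, mul_inv_cancel_right]

/-- the action of induced automorphisms on Siegel maps -/
theorem Cx.cP_ee {g : GL ι F} {σ : F ≃+* F} {κ : F} (H : SemiM Q g σ κ) {u a : ι → F} (hA : Adm Q B u a) :
    cP H (C.ee u a) = C.ee ((g : Matrix ι ι F) *ᵥ smap σ u) (κ⁻¹ • ((g : Matrix ι ι F) *ᵥ smap σ a)) := by
  have h := C.h
  have hκ := H.hκ
  obtain ⟨φ, hφ⟩ : ∃ φ : (ι → F) → (ι → F), φ = fun x => (g : Matrix ι ι F) *ᵥ smap σ x := ⟨_, rfl⟩
  have hg : ∀ x, φ x = (g : Matrix ι ι F) *ᵥ smap σ x := fun x => by rw [hφ]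
  have hadd : ∀ x y, φ (x + y) = φ x + φ y := by
    intro x y
    rw [hg, hg, hg, ← Matrix.mulVec_add]
    congr 1
    funext i
    simp [smap]
  have hsmul : ∀ (c : F) x, φ (c • x) = σ c • φ x := by
    intro c x
    rw [hg, hg, ← Matrix.mulVec_smul]
    congr 1
    funext i
    simp [smap]
  have hQ : ∀ x, Q (φ x) = κ * σ (Q x) := fun x => by rw [hg]; exact H.hQ x
  have hB : ∀ x y, B (φ x) (φ y) = κ * σ (B x y) := by
    intro x y
    rw [h.polar, ← hadd, hQ, hQ, hQ, h.polar x y, map_sub, map_sub]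
    ring
  have hneg : ∀ x, φ (-x) = - φ x := by
    intro x
    have := hsmul (-1) x
    simpa using this
  have hsub : ∀ x y, φ (x - y) = φ x - φ y := by
    intro x y
    rw [sub_eq_add_neg, hadd, hneg, sub_eq_add_neg]
  rw [← hg, ← hg]
  have hA' : Adm Q B (φ u) (κ⁻¹ • φ a) := by
    refine ⟨by rw [hQ, hA.uu, map_zero, mul_zero], ?_⟩
    rw [h.smul_left, hB, hA.au, map_zero, mul_zero, mul_zero]
  unfold Cx.ee
  rw [cP_mk]
  congr 1
  apply Subtype.ext
  rw [cΩ_val]
  change cO H (eO C.h u a) = eO C.h (φ u) (κ⁻¹ • φ a)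
  apply og_ext
  intro z
  rw [act_cO, act_eO hA, act_eO hA']
  obtain ⟨x, hx⟩ : ∃ x, x = smap σ.symm (((g⁻¹ : GL ι F) : Matrix ι ι F) *ᵥ z) := ⟨_, rfl⟩
  have hz : z = φ x := by
    rw [hg, hx, smap_symm, Matrix.mulVec_mulVec, gl_mul_inv, Matrix.one_mulVec]
  rw [← hx, ← hg]
  unfold Efun
  rw [hz, hsub, hadd, hsmul, hsmul, map_add, map_mul, h.smul_right, hB, hB, h.smul, hQ]
  funext i
  simp only [Pi.add_apply, Pi.sub_apply, Pi.smul_apply, smul_eq_mul]
  field_simp

/-- the field automorphism is determined by the induced automorphism -/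
theorem Cx.sigma_of_cP {g : GL ι F} {σ : F ≃+* F} {κ : F} (H : SemiM Q g σ κ) (h1 : cP H = 1) : σ = 1 := by
  have h := C.h
  have hs := fun x y => h.symm x y
  have hκ := H.hκ
  obtain ⟨φ, hφ⟩ : ∃ φ : (ι → F) → (ι → F), φ = fun x => (g : Matrix ι ι F) *ᵥ smap σ x := ⟨_, rfl⟩
  have hg : ∀ x, φ x = (g : Matrix ι ι F) *ᵥ smap σ x := fun x => by rw [hφ]
  have hadd : ∀ x y, φ (x + y) = φ x + φ y := by
    intro x y
    rw [hg, hg, hg, ← Matrix.mulVec_add]
    congr 1
    funext i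
    simp [smap]
  have hsmul : ∀ (c : F) x, φ (c • x) = σ c • φ x := by
    intro c x
    rw [hg, hg, ← Matrix.mulVec_smul]
    congr 1
    funext i
    simp [smap]
  have hQ : ∀ x, Q (φ x) = κ * σ (Q x) := fun x => by rw [hg]; exact H.hQ x
  have hB : ∀ x y, B (φ x) (φ y) = κ * σ (B x y) := by
    intro x y
    rw [h.polar, ← hadd, hQ, hQ, hQ, h.polar x y, map_sub, map_sub]
    ring
  have hinj : ∀ v, v ≠ 0 → φ v ≠ 0 := by
    intro v hv e
    obtain ⟨y, -, hy⟩ := C.nd v Submodule.mem_top hv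
    apply hy
    have e1 := hB v y
    rw [e, h.zero_left] at e1
    exact (map_eq_zero σ).1 ((mul_eq_zero.1 e1.symm).resolve_left hκ)
  have key : ∀ v, Q v = 0 → v ≠ 0 → ∃ c : F, φ v = c • v := by
    intro v Qv hv0
    have hQ' : Q (φ v) = 0 := by rw [hQ, Qv, map_zero, mul_zero]
    have hsub : C.QQ v ⊆ C.QQ (φ v) := by
      rintro _ ⟨a, ha, rfl⟩
      refine ⟨κ⁻¹ • φ a, by rw [h.smul_left, hB, ha, map_zero, mul_zero, mul_zero], ?_⟩
      have e1 := C.cP_ee H ⟨Qv, ha⟩
      rw [h1, ← hg, ← hg] at e1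
      exact e1
    obtain ⟨c, -, e⟩ := C.par_of_QQ Qv hv0 hQ' (hinj v hv0) hsub
    exact ⟨c, e⟩
  obtain ⟨e, f, e1, f1, e2, f2, T⟩ := C.exists_T3
  have he0 : e ≠ 0 := by
    rintro rfl
    have := T.e0f0
    rw [h.zero_left] at this
    exact zero_ne_one this
  have he10 : e1 ≠ 0 := by
    rintro rfl
    have := T.e1f1
    rw [h.zero_left] at this
    exact zero_ne_one this
  obtain ⟨c₀, hc₀⟩ := key e T.Qe0 he0
  obtain ⟨c₁, hc₁⟩ := key e1 T.Qe1 he10
  have hmain : ∀ t : F, σ t * c₁ = c₀ * t := by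
    intro t
    have Qx : Q (e + t • e1) = 0 := by
      rw [h.add, h.smul, T.Qe0, T.Qe1, h.smul_right, T.e0e1]
      ring
    have hx0 : e + t • e1 ≠ 0 := by
      intro e3
      have e4 := congrArg (fun w => B w f) e3
      simp only [h.add_left, h.smul_left, T.e0f0, h.zero_left] at e4
      rw [hs e1 f, T.f0e1] at e4
      simp at e4
    obtain ⟨d, hd⟩ := key _ Qx hx0
    rw [hadd, hsmul, hc₀, hc₁] at hd
    have e4 := congrArg (fun w => B w f) hd
    have e5 := congrArg (fun w => B w f1) hd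
    simp only [h.add_left, h.smul_left, T.e0f0, h.zero_left, smul_add] at e4 e5
    rw [hs e1 f, T.f0e1] at e4
    rw [T.e0f1, T.e1f1] at e5
    simp only [mul_zero, add_zero, mul_one, zero_add] at e4 e5
    rw [← e4] at e5
    exact e5
  have hc : c₁ = c₀ := by
    have := hmain 1
    simpa using this
  have hc0 : c₁ ≠ 0 := by
    rintro e0
    have e4 := hc₁
    rw [e0, zero_smul] at e4
    exact hinj e1 he10 e4
  ext t
  have := hmain t
  rw [← hc, mul_comm c₁ t] at this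
  exact mul_right_cancel₀ hc0 this

end Cxx

/-! ### Field automorphisms -/
section Std

lemma semi_one (hstd : ∀ (σ : F ≃+* F) (x : ι → F), Q (smap σ x) = σ (Q x)) (σ : F ≃+* F) : SemiM Q (1 : GL ι F) σ 1 :=
  ⟨one_ne_zero, fun x => by
    rw [Units.val_one, Matrix.one_mulVec, hstd, one_mul]⟩

lemma act_cOA_one (hstd : ∀ (σ : F ≃+* F) (x : ι → F), Q (smap σ x) = σ (Q x)) (σ : F ≃+* F) (s : OG F Q) (z : ι → F) :
    act (cOA (semi_one hstd σ) s) z = smap σ (act s (smap σ.symm z)) := by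
  rw [cOA_apply, act_cO]
  simp

/-- field automorphisms act on the isometry group -/
noncomputable def fldO (hstd : ∀ (σ : F ≃+* F) (x : ι → F), Q (smap σ x) = σ (Q x)) : (F ≃+* F) →* MulAut (OG F Q) where
  toFun σ := cOA (semi_one hstd σ)
  map_one' := by
    ext s : 1
    apply og_ext
    intro z
    rw [act_cOA_one hstd]
    simp [smap]
    rfl
  map_mul' σ τ := by
    ext s : 1
    apply og_ext
    intro z
    rw [act_cOA_one hstd]
    change _ = act (cOA (semi_one hstd σ) (cOA (semi_one hstd τ) s)) z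
    rw [act_cOA_one hstd, act_cOA_one hstd]
    rfl

/-- field automorphisms act on `PΩ` -/
noncomputable def ssf (hstd : ∀ (σ : F ≃+* F) (x : ι → F), Q (smap σ x) = σ (Q x)) : (F ≃+* F) →* MulAut (Cfsg.POmega F Q) :=
  (Thh Q).comp (fldO hstd)

lemma ssf_apply (hstd : ∀ (σ : F ≃+* F) (x : ι → F), Q (smap σ x) = σ (Q x)) (σ : F ≃+* F) :
    ssf hstd σ = cP (semi_one hstd σ) := rfl

end Std

/-- conjugating the conjugation map by an automorphism -/
lemma Thh_conj (θ : MulAut (OG F Q)) (g : OG F Q) : Thh Q θ * cc Q g * (Thh Q θ)⁻¹ = cc Q (θ g) := by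
  unfold cc
  simp only [MonoidHom.comp_apply]
  rw [← map_inv, ← map_mul, ← map_mul]
  congr 1
  ext x
  simp [MulAut.conj_apply, map_mul, map_inv]

end Cfsg.Agent.H01.Om
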