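import Cfsg.Agent.Lib.Lead.OmegaSimple
/-! Siegel transformations as total functions, duals, frames, rigidity of lifts to `Ω`. -/
set_option autoImplicit false
set_option linter.unusedSimpArgs false
set_option linter.style.haveILetI false
set_option linter.unusedSectionVars false
set_option linter.unusedVariables false
namespace Cfsg.Agent.H01.Om
open Matrix Cfsg.Agent.Lead.Ortho Cfsg.Agent.Lead.Omega
open scoped commutatorElement

variable {F : Type*} [Field F] [Fintype F] {ι : Type} [Fintype ι] [DecidableEq ι]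
variable {Q : (ι → F) → F} {B : (ι → F) → (ι → F) → F}

/-! ### Duals and frames -/
section Dual
variable (h : QF Q B)
include h

/-- the form is additive on the right over finite sums -/
lemma sum_right {κ : Type*} (s : Finset κ) (g : κ → ι → F) (y : ι → F) :
    B y (∑ i ∈ s, g i) = ∑ i ∈ s, B y (g i) := by
  rw [h.symm, h.sum_left]
  exact Finset.sum_congr rfl fun i _ => h.symm _ _

/-- independent vectors have prescribed values against some vector of a nondegenerate subspace -/
lemma exists_dual {S : Submodule F (ι → F)} (hS : ND B S) {k : ℕ} (a : Fin k → ι → F)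
    (ha : ∀ i, a i ∈ S) (hind : LinearIndependent F a) (c : Fin k → F) :
    ∃ y ∈ S, ∀ i, B y (a i) = c i := by
  let L : S →ₗ[F] (Fin k → F) :=
    { toFun := fun y i => B y.1 (a i)
      map_add' := fun x y => by
        funext i
        simp only [Submodule.coe_add, h.add_left, Pi.add_apply]
      map_smul' := fun r x => by
        funext i
        simp only [Submodule.coe_smul, h.smul_left, Pi.smul_apply, smul_eq_mul, RingHom.id_apply] }
  have hr : LinearMap.range L = ⊤ := by
    by_contra hne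
    obtain ⟨f, hf0, hf⟩ := Submodule.exists_le_ker_of_lt_top _ (lt_top_iff_ne_top.2 hne)
    let d : Fin k → F := fun i => f (Pi.single i 1)
    have hfv : ∀ v : Fin k → F, f v = ∑ i, d i * v i := by
      intro v
      have e : v = ∑ i, v i • (Pi.single i 1 : Fin k → F) := by
        funext j
        simp [Finset.sum_apply, Pi.single_apply]
      conv_lhs => rw [e]
      rw [map_sum]
      exact Finset.sum_congr rfl fun i _ => by rw [map_smul, smul_eq_mul, mul_comm]
    have hz : ∀ y ∈ S, B y (∑ i, d i • a i) = 0 := by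
      intro y hy
      have h1 : f (L ⟨y, hy⟩) = 0 := hf ⟨_, rfl⟩
      rw [hfv] at h1
      rw [sum_right h]
      simpa [h.smul_right, L] using h1
    have hmem : ∑ i, d i • a i ∈ S := S.sum_mem fun i _ => S.smul_mem _ (ha i)
    have h0 : ∑ i, d i • a i = 0 := by
      by_contra hne0
      obtain ⟨y, hy, hxy⟩ := hS _ hmem hne0
      exact hxy (by rw [h.symm]; exact hz y hy)
    have hd : ∀ i, d i = 0 := (Fintype.linearIndependent_iff.1 hind) d h0
    apply hf0
    apply LinearMap.ext
    intro v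
    rw [hfv]
    simp [hd]
  have hc : c ∈ LinearMap.range L := by rw [hr]; trivial
  obtain ⟨y, hy⟩ := hc
  exact ⟨y.1, y.2, fun i => congrFun hy i⟩

/-- a totally singular independent tuple extends to a frame -/
lemma exists_frame {k : ℕ} : ∀ {S : Submodule F (ι → F)}, ND B S → ∀ (a : Fin k → ι → F), (∀ i, a i ∈ S) →
    (∀ i, Q (a i) = 0) → (∀ i j, B (a i) (a j) = 0) → LinearIndependent F a →
    ∃ t : Fin k → (ι → F) × (ι → F), IsHF Q B t ∧ (∀ i, (t i).1 = a i) ∧ ∀ i, (t i).2 ∈ S := by
  induction k with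
  | zero =>
    intro S hS a _ _ _ _
    exact ⟨Fin.elim0, fun i => i.elim0, fun i => i.elim0, fun i => i.elim0⟩
  | succ k ih =>
    intro S hS a ha hQ hB hind
    obtain ⟨y, hy, hyv⟩ := exists_dual h hS a ha hind (Fin.cons 1 (fun _ => 0))
    have hy0 : B y (a 0) = 1 := by simpa using hyv 0
    have hys : ∀ j : Fin k, B y (a j.succ) = 0 := fun j => by simpa using hyv j.succ
    obtain ⟨y', hy'⟩ : ∃ y', y' = y - Q y • a 0 := ⟨_, rfl⟩
    have hy'S : y' ∈ S := by rw [hy']; exact S.sub_mem hy (S.smul_mem _ (ha 0))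
    have hQy' : Q y' = 0 := by
      rw [hy', Q_sub h, h.smul, hQ 0, h.smul_right, hy0]
      ring
    have hay' : B (a 0) y' = 1 := by
      rw [hy', h.sub_right, h.smul_right, hB 0 0, h.symm, hy0]
      ring
    have hS' : ND B (perp2 h S (a 0) y') := ND_perp2 h hS (ha 0) hy'S (hQ 0) hQy' hay'
    have hmem : ∀ j : Fin k, a j.succ ∈ perp2 h S (a 0) y' := by
      intro j
      refine ⟨ha _, hB _ _, ?_⟩
      rw [hy', h.sub_right, h.smul_right, hB, h.symm, hys]
      ring
    obtain ⟨t', ht', ht1, ht2⟩ := ih hS' (fun j => a j.succ) hmem (fun j => hQ _) (fun i j => hB _ _)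
      (hind.comp _ (Fin.succ_injective k))
    refine ⟨Fin.cons (a 0, y') t', ?_, ?_, ?_⟩
    · rw [isHF_cons_iff h]
      refine ⟨ht', fun i => ⟨?_, ?_⟩, fun i => ⟨?_, ?_⟩, hQ 0, hQy', hay'⟩
      · change B (a 0) (t' i).1 = 0
        rw [ht1]
        exact hB _ _
      · change B (a 0) (t' i).2 = 0
        rw [h.symm]
        exact (ht2 i).2.1
      · change B y' (t' i).1 = 0
        rw [ht1, h.symm]
        exact (hmem i).2.2
      · change B y' (t' i).2 = 0
        rw [h.symm]
        exact (ht2 i).2.2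
    · intro i
      refine Fin.cases ?_ (fun j => ?_) i
      · rfl
      · simpa using ht1 j
    · intro i
      refine Fin.cases ?_ (fun j => ?_) i
      · exact hy'S
      · simpa using (ht2 j).1

end Dual

/-- independence of a pair, in concrete form -/
def Ind2 (x y : ι → F) : Prop := ∀ s t : F, s • x + t • y = 0 → s = 0 ∧ t = 0

lemma ind2_iff {x y : ι → F} : Ind2 x y ↔ LinearIndependent F ![x, y] := by
  rw [LinearIndependent.pair_iff]
  rfl

lemma Ind2.swap {x y : ι → F} (H : Ind2 x y) : Ind2 y x := fun s t e => by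
  have := H t s (by rw [add_comm]; exact e)
  exact ⟨this.2, this.1⟩

lemma Ind2.left_ne {x y : ι → F} (H : Ind2 x y) : x ≠ 0 := by
  rintro rfl
  have := H 1 0 (by simp)
  exact one_ne_zero this.1

lemma Ind2.right_ne {x y : ι → F} (H : Ind2 x y) : y ≠ 0 := H.swap.left_ne

/-- the dual statement for two vectors -/
lemma exists_dual2 (h : QF Q B) (hnd : ND B (⊤ : Submodule F (ι → F))) {u v : ι → F} (H : Ind2 u v) (c d : F) :
    ∃ w, B w u = c ∧ B w v = d := by
  obtain ⟨w, _, hw⟩ := exists_dual h hnd ![u, v] (fun _ => trivial) (ind2_iff.1 H) ![c, d]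
  exact ⟨w, by simpa using hw 0, by simpa using hw 1⟩

/-! ### Total Siegel maps -/
section Total
variable (h : QF Q B)

open Classical in
/-- the Siegel map, `1` on inadmissible data -/
noncomputable def eO (h : QF Q B) (u a : ι → F) : OG F Q := if hA : Adm Q B u a then E h hA else 1

variable {h}
lemma eO_eq {u a : ι → F} (hA : Adm Q B u a) : eO h u a = E h hA := dif_pos hA

lemma act_eO {u a : ι → F} (hA : Adm Q B u a) (x : ι → F) : act (eO h u a) x = Efun Q B u a x := by
  rw [eO_eq hA, act_E]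

lemma eO_mul {u a a' : ι → F} (hA : Adm Q B u a) (hA' : Adm Q B u a') :
    eO h u a * eO h u a' = eO h u (a + a') := by
  rw [eO_eq hA, eO_eq hA', eO_eq (adm_add h hA hA'), E_mul]

lemma eO_conj (g : OG F Q) {u a : ι → F} (hA : Adm Q B u a) :
    g * eO h u a * g⁻¹ = eO h (act g u) (act g a) := by
  rw [eO_eq hA, eO_eq (adm_conj h g hA), E_conj]

lemma eO_inv {u a : ι → F} (hA : Adm Q B u a) : (eO h u a)⁻¹ = eO h u (-a) := by
  rw [eO_eq hA, eO_eq (adm_neg h hA), E_inv]

lemma eO_ext {u a u' a' : ι → F} (hA : Adm Q B u a) (hA' : Adm Q B u' a')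
    (H : ∀ x, Efun Q B u a x = Efun Q B u' a' x) : eO h u a = eO h u' a' := by
  apply og_ext
  intro x
  rw [act_eO hA, act_eO hA', H]

lemma eO_self {u : ι → F} (hu : Q u = 0) (c : F) : eO h u (c • u) = 1 := by
  have hA : Adm Q B u (c • u) := ⟨hu, by rw [h.smul_left, Buu h hu, mul_zero]⟩
  rw [eO_eq hA, E_self]

lemma eO_zero {u : ι → F} (hu : Q u = 0) : eO h u 0 = 1 := by
  simpa using eO_self (h := h) hu 0

lemma eO_scale {c : F} (hc : c ≠ 0) {x a : ι → F} (hA : Adm Q B (c • x) a) :
    eO h (c • x) a = eO h x (c • a) := by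
  rw [eO_eq hA, eO_eq (adm_scale h hc hA)]
  exact E_scale h hc hA

omit [Fintype F] in
/-- the Siegel map of a pure pair -/
lemma Efun_pure {u v : ι → F} (hv : Q v = 0) (x : ι → F) :
    Efun Q B u v x = x + B x u • v - B x v • u := by
  unfold Efun
  rw [hv]
  simp

end Total

/-! ### The setting -/

/-- The data: a nondegenerate space with a frame of length at least 3, with `Ω` generated by Siegel
transformations. -/
structure Cx (Q : (ι → F) → F) (B : (ι → F) → (ι → F) → F) {m : ℕ} (t₀ : Fin m → (ι → F) × (ι → F)) : Prop where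
  h : QF Q B
  nd : ND B (⊤ : Submodule F (ι → F))
  ht : IsHF Q B t₀
  hm : 3 ≤ m
  hΩ : Cfsg.Omega F Q = SS h

section Cx
variable {m : ℕ} {t₀ : Fin m → (ι → F) × (ι → F)} (C : Cx Q B t₀)
include C

lemma Cx.eO_mem (u a : ι → F) : eO C.h u a ∈ Cfsg.Omega F Q := by
  rw [C.hΩ]
  unfold eO
  split_ifs with hA
  · exact E_mem C.h hA
  · exact Subgroup.one_mem _

/-- Siegel maps in `Ω` -/
noncomputable def Cx.em (C : Cx Q B t₀) (u a : ι → F) : ↥(Cfsg.Omega F Q) := ⟨eO C.h u a, C.eO_mem u a⟩

/-- Siegel maps in `PΩ` -/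
noncomputable def Cx.ee (C : Cx Q B t₀) (u a : ι → F) : Cfsg.POmega F Q := QuotientGroup.mk (C.em u a)

lemma Cx.ee_mul {u a a' : ι → F} (hA : Adm Q B u a) (hA' : Adm Q B u a') :
    C.ee u a * C.ee u a' = C.ee u (a + a') := by
  rw [Cx.ee, Cx.ee, ← QuotientGroup.mk_mul]
  congr 1
  exact Subtype.ext (eO_mul hA hA')

/-- a pure Siegel map determines the span of its data -/
lemma Cx.mem_of_eO_eq {u w x y : ι → F} (hA : Adm Q B u w) (hA' : Adm Q B x y) (hy : Q y = 0)
    (H : eO C.h u w = eO C.h x y) (hind : Ind2 u w) :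
    u ∈ Submodule.span F {x, y} ∧ w ∈ Submodule.span F {x, y} := by
  have key : ∀ t, B t u • w - (B t w + Q w * B t u) • u = B t x • y - B t y • x := by
    intro t
    have e1 : act (eO C.h u w) t = act (eO C.h x y) t := by rw [H]
    rw [act_eO hA, act_eO hA', Efun_pure hy] at e1
    unfold Efun at e1
    funext i
    have := congrFun e1 i
    simp only [Pi.add_apply, Pi.sub_apply, Pi.smul_apply, smul_eq_mul] at this ⊢
    linear_combination this
  obtain ⟨t₁, h1, h2⟩ := exists_dual2 C.h C.nd hind 0 1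
  obtain ⟨t₂, h3, h4⟩ := exists_dual2 C.h C.nd hind 1 0
  have e1 := key t₁
  have e2 := key t₂
  rw [h1, h2] at e1
  rw [h3, h4] at e2
  simp only [zero_smul, mul_zero, add_zero, one_smul, zero_add, mul_one, zero_sub] at e1 e2
  have hu : u ∈ Submodule.span F {x, y} := by
    rw [Submodule.mem_span_pair]
    refine ⟨B t₁ y, -B t₁ x, ?_⟩
    funext i
    have := congrFun e1 i
    simp only [Pi.add_apply, Pi.sub_apply, Pi.smul_apply, smul_eq_mul, Pi.neg_apply] at this ⊢
    linear_combination this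
  refine ⟨hu, ?_⟩
  have e3 : w = (B t₂ x • y - B t₂ y • x) + Q w • u := by
    rw [← e2]
    abel
  rw [e3]
  refine Submodule.add_mem _ (Submodule.sub_mem _ ?_ ?_) (Submodule.smul_mem _ _ hu)
  · exact Submodule.smul_mem _ _ (Submodule.subset_span (by simp))
  · exact Submodule.smul_mem _ _ (Submodule.subset_span (by simp))

/-- an isometry commuting with all Siegel maps is scalar on singular vectors -/
lemma Cx.eigen_of_comm {z : OG F Q} (hz : ∀ u a, Adm Q B u a → z * eO C.h u a * z⁻¹ = eO C.h u a)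
    {v : ι → F} (hv : Q v = 0) (hv0 : v ≠ 0) : ∃ t : F, act z v = t • v := by
  have h := C.h
  obtain ⟨v', -, hv', hvv'⟩ := exists_partner h C.nd (Submodule.mem_top) hv0 hv
  have hvv'' : B v v' = 1 := by rw [h.symm]; exact hvv'
  have hm1 : 1 < m := by have := C.hm; omega
  let t1 : Fin 1 → (ι → F) × (ι → F) := fun _ => (v, v')
  have ht1 : IsHF Q B t1 := by
    intro i j
    have : i = j := Subsingleton.elim _ _
    subst this
    exact ⟨by simpa [t1] using hvv'', fun hne => absurd rfl hne, hv, hv'⟩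
  obtain ⟨a, ha, ha0, hQa⟩ := hasSing h C.ht hm1 t1 ht1
  obtain ⟨a', ha', hQa', haa'⟩ := exists_partner h (ND_perpOf h C.nd t1 ht1) ha ha0 hQa
  have hav : B a v = 0 := (ha 0).1
  have hav' : B a v' = 0 := (ha 0).2
  have ha'v : B a' v = 0 := (ha' 0).1
  have ha'v' : B a' v' = 0 := (ha' 0).2
  have haa'' : B a a' = 1 := by rw [h.symm]; exact haa'
  have hind : ∀ c : ι → F, B c v = 0 → B c v' = 0 → c ≠ 0 → Ind2 (act z v) (act z c) := by
    intro c hc1 hc2 hc0 s t e
    have e2 : act z (s • v + t • c) = 0 := by rw [act_add, act_smul, act_smul, e]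
    have e3 : s • v + t • c = 0 := by
      apply act_injective z
      rw [e2, act_zero]
    have e4 : s = 0 := by
      have := congrArg (fun w => B w v') e3
      simp only [h.add_left, h.smul_left, hvv'', hc2, h.zero_left] at this
      simpa using this
    refine ⟨e4, ?_⟩
    rw [e4, zero_smul, zero_add] at e3
    exact (smul_eq_zero.1 e3).resolve_right hc0
  have hmem : ∀ c : ι → F, B c v = 0 → B c v' = 0 → c ≠ 0 → Q c = 0 → act z v ∈ Submodule.span F {v, c} := by
    intro c hc1 hc2 hc0 hQc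
    have hA : Adm Q B v c := ⟨hv, hc1⟩
    have e := hz v c hA
    rw [eO_conj z hA] at e
    exact (C.mem_of_eO_eq (adm_conj h z hA) hA hQc e (hind c hc1 hc2 hc0)).1
  have m1 := hmem a hav hav' ha0 hQa
  have a'0 : a' ≠ 0 := by
    rintro rfl
    rw [h.zero_left] at haa'
    exact zero_ne_one haa'
  have m2 := hmem a' ha'v ha'v' a'0 hQa'
  rw [Submodule.mem_span_pair] at m1 m2
  obtain ⟨r1, s1, e1⟩ := m1
  obtain ⟨r2, s2, e2⟩ := m2
  have e3 : s1 = 0 := by
    have := congrArg (fun w => B w a') (e1.trans e2.symm)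
    simp only [h.add_left, h.smul_left, h.symm v a', ha'v, haa'', Buu h hQa'] at this
    simpa using this
  refine ⟨r1, ?_⟩
  rw [← e1, e3]
  simp

/-- the centre of `Ω` consists of scalars -/
lemma Cx.center_scalar {z : ↥(Cfsg.Omega F Q)} (hz : z ∈ Subgroup.center ↥(Cfsg.Omega F Q)) :
    ∃ α : F, ∀ x, act (z : OG F Q) x = α • x := by
  refine scalar_of_eigen C.h C.nd C.ht C.hm ?_
  apply C.eigen_of_comm
  intro u a hA
  have e := (Subgroup.mem_center_iff.1 hz) (C.em u a)
  have e2 : eO C.h u a * (z : OG F Q) = (z : OG F Q) * eO C.h u a := congrArg Subtype.val e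
  rw [← e2, mul_inv_cancel_right]

/-- scalars of `Ω` are central -/
lemma Cx.mem_center_of_scalar {z : ↥(Cfsg.Omega F Q)} {α : F} (hz : ∀ x, act (z : OG F Q) x = α • x) :
    z ∈ Subgroup.center ↥(Cfsg.Omega F Q) := by
  rw [Subgroup.mem_center_iff]
  intro s
  apply Subtype.ext
  apply og_ext
  intro x
  change act ((s : OG F Q) * (z : OG F Q)) x = act ((z : OG F Q) * (s : OG F Q)) x
  rw [act_mul, act_mul, hz, hz, act_smul]

/-- `N = g - 1` -/
def nn (g : OG F Q) (x : ι → F) : ι → F := act g x - x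

/-- `(g - 1)^3 = 0` -/
def Uni (g : OG F Q) : Prop := ∀ x, nn g (nn g (nn g x)) = 0

omit C in
lemma uni_eO (h : QF Q B) {u a : ι → F} (hA : Adm Q B u a) : Uni (eO h u a) := by
  have e1 : ∀ x, nn (eO h u a) x = B x u • a - (B x a + Q a * B x u) • u := by
    intro x
    unfold nn
    rw [act_eO hA]
    unfold Efun
    abel
  have e2 : ∀ x, B (nn (eO h u a) x) u = 0 := by
    intro x
    rw [e1, h.sub_left, h.smul_left, h.smul_left, hA.au, Buu h hA.uu]
    ring
  have e3 : nn (eO h u a) u = 0 := by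
    rw [e1, Buu h hA.uu, h.symm u a, hA.au]
    simp
  intro x
  have e4 : nn (eO h u a) (nn (eO h u a) x) = (- B (nn (eO h u a) x) a) • u := by
    rw [e1 (nn (eO h u a) x), e2]
    simp
  rw [e4]
  unfold nn
  rw [act_smul]
  have := e3
  unfold nn at this
  have e5 : act (eO h u a) u = u := sub_eq_zero.1 this
  rw [e5, sub_self]

/-- A lift with `(s-1)^3 = 0` of the class of an element with a fixed vector is that element -/
lemma Cx.rigid {s t : ↥(Cfsg.Omega F Q)}
    (hp : (QuotientGroup.mk s : Cfsg.POmega F Q) = QuotientGroup.mk t) (hU : Uni (s : OG F Q))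
    {v : ι → F} (hv0 : v ≠ 0) (hfix : act (t : OG F Q) v = v) : s = t := by
  have hc := QuotientGroup.eq.1 hp
  obtain ⟨α, hα⟩ := C.center_scalar hc
  have e1 : ∀ x, act (t : OG F Q) x = α • act (s : OG F Q) x := by
    intro x
    have e2 : (t : OG F Q) = (s : OG F Q) * ((s⁻¹ * t : ↥(Cfsg.Omega F Q)) : OG F Q) := by
      simp
    rw [e2, act_mul, hα, act_smul]
  have hα0 : α ≠ 0 := by
    rintro rfl
    have := e1 v
    rw [hfix, zero_smul] at this
    exact hv0 this
  have e3 : act (s : OG F Q) v = α⁻¹ • v := by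
    have := e1 v
    rw [hfix] at this
    conv_rhs => rw [this]
    rw [smul_smul, inv_mul_cancel₀ hα0, one_smul]
  have e4 : ∀ c : F, nn (s : OG F Q) (c • v) = (c * (α⁻¹ - 1)) • v := by
    intro c
    unfold nn
    rw [act_smul, e3, smul_smul]
    funext i
    simp only [Pi.sub_apply, Pi.smul_apply, smul_eq_mul]
    ring
  have e5 := hU v
  have e6 : nn (s : OG F Q) v = (α⁻¹ - 1) • v := by
    have := e4 1
    rwa [one_smul, one_mul] at this
  rw [e6, e4, e4, smul_eq_zero] at e5
  have e7 : α⁻¹ - 1 = 0 := by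
    rcases e5 with e5 | e5
    · have : ((α⁻¹ - 1) * (α⁻¹ - 1) * (α⁻¹ - 1)) = 0 := e5
      simpa using this
    · exact absurd e5 hv0
  have e8 : α = 1 := by
    have : α⁻¹ = 1 := sub_eq_zero.1 e7
    simpa using this
  apply Subtype.ext
  apply og_ext
  intro x
  rw [e1, e8, one_smul]

/-- Siegel maps have fixed vectors -/
lemma Cx.exists_fix {x y : ι → F} (hA : Adm Q B x y) : ∃ v, v ≠ 0 ∧ act (eO C.h x y) v = v := by
  by_cases hx : x = 0
  · subst hx
    have hm0 : 0 < m := by have := C.hm; omega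
    refine ⟨(t₀ ⟨0, hm0⟩).1, ?_, ?_⟩
    · intro e
      have := (C.ht ⟨0, hm0⟩ ⟨0, hm0⟩).1
      rw [if_pos rfl, e, C.h.zero_left] at this
      exact zero_ne_one this
    · rw [act_eO hA]
      unfold Efun
      simp [C.h.zero_right]
  · refine ⟨x, hx, ?_⟩
    rw [act_eO hA]
    unfold Efun
    rw [Buu C.h hA.uu, C.h.symm x y, hA.au]
    simp

/-- equal classes of Siegel maps come from equal maps -/
lemma Cx.eO_of_ee_eq {u a x y : ι → F} (hA : Adm Q B u a) (hA' : Adm Q B x y)
    (H : C.ee u a = C.ee x y) : eO C.h u a = eO C.h x y := by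
  obtain ⟨v, hv0, hv⟩ := C.exists_fix hA'
  exact congrArg Subtype.val (C.rigid (s := C.em u a) (t := C.em x y) H (uni_eO C.h hA) hv0 hv)

/-- a lift of an element commuting with the class of a Siegel map commutes with that map -/
lemma Cx.conj_of_comm (s : ↥(Cfsg.Omega F Q)) {u a : ι → F} (hA : Adm Q B u a)
    (H : (QuotientGroup.mk s : Cfsg.POmega F Q) * C.ee u a = C.ee u a * QuotientGroup.mk s) :
    eO C.h (act (s : OG F Q) u) (act (s : OG F Q) a) = eO C.h u a := by
  have hA' := adm_conj C.h (s : OG F Q) hA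
  apply C.eO_of_ee_eq hA' hA
  have e : C.em (act (s : OG F Q) u) (act (s : OG F Q) a) = s * C.em u a * s⁻¹ := by
    apply Subtype.ext
    change eO C.h _ _ = (s : OG F Q) * eO C.h u a * (s : OG F Q)⁻¹
    rw [eO_conj _ hA]
  unfold Cx.ee
  rw [e, QuotientGroup.mk_mul, QuotientGroup.mk_mul, QuotientGroup.mk_inv]
  change (QuotientGroup.mk s : Cfsg.POmega F Q) * C.ee u a * _ = C.ee u a
  rw [H]
  simp

end Cx

end Cfsg.Agent.H01.Om
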