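import Cfsg.Agent.Lib.H01.OmFix
/-! Every automorphism of `PΩ` is induced by a semisimilarity. -/
set_option autoImplicit false
set_option linter.unusedSimpArgs false
set_option linter.style.haveILetI false
set_option linter.unusedSectionVars false
set_option linter.unusedVariables false
namespace Cfsg.Agent.H01.Om
open Matrix Cfsg.Agent.Lead.Ortho Cfsg.Agent.Lead.Omega

variable {F : Type*} [Field F] [Fintype F] {ι : Type} [Fintype ι] [DecidableEq ι]
variable {Q : (ι → F) → F} {B : (ι → F) → (ι → F) → F}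
variable {m : ℕ} {t₀ : Fin m → (ι → F) × (ι → F)}

section Final
variable (C : Cx Q B t₀)
include C

/-- the induced automorphism permutes radicals according to the underlying map -/
theorem Cx.exists_ind' (σ : F ≃+* F) {κ : F} (hκ : κ ≠ 0) (φ : (ι → F) → (ι → F))
    (hadd : ∀ x y, φ (x + y) = φ x + φ y) (hsmul : ∀ (a : F) x, φ (a • x) = σ a • φ x)
    (hQ : ∀ x, Q (φ x) = κ * σ (Q x)) :
    ∃ β : MulAut (Cfsg.POmega F Q), β ∈ Cfsg.gammaPOmega F Q ∧
      (∀ u a, Adm Q B u a → β (C.ee u a) = C.ee (φ u) (κ⁻¹ • φ a)) ∧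
      ∀ u, Q u = 0 → β '' C.QQ u = C.QQ (φ u) := by
  have h := C.h
  obtain ⟨β, hβ, H⟩ := C.exists_ind σ hκ φ hadd hsmul hQ
  refine ⟨β, hβ, H, ?_⟩
  have hB : ∀ x y, B (φ x) (φ y) = κ * σ (B x y) := by
    intro x y
    rw [h.polar, ← hadd, hQ, hQ, hQ, h.polar x y, map_sub, map_sub]
    ring
  have hneg : ∀ x, φ (-x) = - φ x := by
    intro x
    have := hsmul (-1) x
    simpa using this
  have hinj : Function.Injective φ := by
    intro x y hxy
    have e1 : φ (x - y) = 0 := by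
      rw [sub_eq_add_neg, hadd, hneg, hxy]
      simp
    have e2 : x - y = 0 := by
      by_contra hne
      obtain ⟨z, -, hz⟩ := C.nd _ Submodule.mem_top hne
      apply hz
      have e3 := hB (x - y) z
      rw [e1, h.zero_left] at e3
      exact (map_eq_zero σ).1 ((mul_eq_zero.1 e3.symm).resolve_left hκ)
    exact sub_eq_zero.1 e2
  have hsurj : Function.Surjective φ := Finite.surjective_of_injective hinj
  intro u Qu
  have Qφu : Q (φ u) = 0 := by rw [hQ, Qu, map_zero, mul_zero]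
  ext g
  constructor
  · rintro ⟨_, ⟨a, ha, rfl⟩, rfl⟩
    refine ⟨κ⁻¹ • φ a, ?_, H u a ⟨Qu, ha⟩⟩
    rw [h.smul_left, hB, ha, map_zero, mul_zero, mul_zero]
  · rintro ⟨a, ha, rfl⟩
    obtain ⟨a₀, ha₀⟩ := hsurj (κ • a)
    have e1 : B a₀ u = 0 := by
      have e2 := hB a₀ u
      rw [ha₀, h.smul_left, ha, mul_zero] at e2
      exact (map_eq_zero σ).1 ((mul_eq_zero.1 e2.symm).resolve_left hκ)
    refine ⟨C.ee u a₀, ⟨a₀, e1, rfl⟩, ?_⟩
    change β (C.ee u a₀) = C.ee (φ u) a
    rw [H u a₀ ⟨Qu, e1⟩, ha₀, smul_smul, inv_mul_cancel₀ hκ, one_smul]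

/-- extension of the semilinear map on the residue -/
theorem Cx.exists_ext {β : MulAut (Cfsg.POmega F Q)} {e f : ι → F} {T T' : (ι → F) → (ι → F)} (P : TP C β e f T T') :
    ∃ γ : MulAut (Cfsg.POmega F Q), γ ∈ Cfsg.gammaPOmega F Q ∧
      (∀ x, IsU B e f x → γ (C.ee e x) = C.ee e (T x)) ∧ γ '' C.QQ f = C.QQ f := by
  have h := C.h
  have hs := fun x y => h.symm x y
  have Qe := P.Qe
  have Qf := P.Qf
  have Bef := P.ef
  have Bfe : B f e = 1 := by rw [hs]; exact Bef
  have Bee := Buu h Qe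
  have Bff := Buu h Qf
  obtain ⟨σ, hσ⟩ := P.sigma
  obtain ⟨κ, hκ, hQT⟩ := P.Qform hσ
  have hsm := fun (c : F) (x : ι → F) (hx : IsU B e f x) => P.smul_all hσ hx c
  let π : (ι → F) → (ι → F) := fun x => x - B x f • e - B x e • f
  have hπU : ∀ x, IsU B e f (π x) := by
    intro x
    constructor
    · simp only [π, h.sub_left, h.smul_left, Bee, Bfe]
      ring
    · simp only [π, h.sub_left, h.smul_left, Bef, Bff]
      ring
  have hπadd : ∀ x y, π (x + y) = π x + π y := by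
    intro x y
    simp only [π, h.add_left, add_smul]
    abel
  have hπsmul : ∀ (c : F) x, π (c • x) = c • π x := by
    intro c x
    simp only [π, h.smul_left, smul_sub, smul_smul]
  let φ : (ι → F) → (ι → F) := fun x => (κ * σ (B x f)) • e + σ (B x e) • f + T (π x)
  have φadd : ∀ x y, φ (x + y) = φ x + φ y := by
    intro x y
    simp only [φ, hπadd, P.add (hπU x) (hπU y), h.add_left, map_add, mul_add, add_smul]
    abel
  have φsmul : ∀ (c : F) x, φ (c • x) = σ c • φ x := by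
    intro c x
    simp only [φ, hπsmul, hsm c _ (hπU x), h.smul_left, map_mul, smul_add, smul_smul]
    congr 2
    congr 1
    ring
  have φQ : ∀ x, Q (φ x) = κ * σ (Q x) := by
    intro x
    have hTU := P.mem _ (hπU x)
    simp only [φ]
    rw [h.Q_pair Qe Qf Bef hTU.1 hTU.2, hQT _ (hπU x)]
    have e1 : x = B x f • e + B x e • f + π x := by
      simp only [π]
      abel
    have e2 : Q x = B x f * B x e + Q (π x) := by
      conv_lhs => rw [e1]
      exact h.Q_pair Qe Qf Bef (hπU x).1 (hπU x).2 _ _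
    rw [e2, map_add, map_mul]
    ring
  have φe : φ e = κ • e := by
    have e1 : π e = 0 := by
      simp only [π, Bef, Bee, one_smul, zero_smul]
      simp
    simp only [φ, e1, P.zero, Bef, Bee, map_one, map_zero, mul_one, zero_smul, add_zero]
  have φf : φ f = f := by
    have e1 : π f = 0 := by
      simp only [π, Bfe, Bff, one_smul, zero_smul]
      simp
    simp only [φ, e1, P.zero, Bfe, Bff, map_one, map_zero, mul_zero, one_smul, zero_smul, add_zero, zero_add]
  have φU : ∀ x, IsU B e f x → φ x = T x := by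
    intro x hx
    have e1 : π x = x := by
      simp only [π, hx.1, hx.2, zero_smul, sub_zero]
    simp only [φ, e1, hx.1, hx.2, map_zero, mul_zero, zero_smul, zero_add]
  obtain ⟨γ, hγ, H1, H2⟩ := C.exists_ind' σ hκ φ φadd φsmul φQ
  refine ⟨γ, hγ, ?_, ?_⟩
  · intro x hx
    have hTU := P.mem _ hx
    rw [H1 e x ⟨Qe, hx.1⟩, φe, φU x hx]
    apply C.ee_eq_of_eO
    have hA : Adm Q B (κ • e) (κ⁻¹ • T x) := by
      refine ⟨by rw [h.smul, Qe, mul_zero], ?_⟩
      rw [h.smul_left, h.smul_right, hTU.1]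
      ring
    rw [eO_scale hκ hA, smul_smul, mul_inv_cancel₀ hκ, one_smul]
  · rw [H2 f Qf, φf]

end Final

/-- **Every automorphism of `PΩ` is induced by a semisimilarity.** -/
theorem Cx.gamma_top (C : Cx Q B t₀) (HH : NoFour Q B ∨ Big C.h) : Cfsg.gammaPOmega F Q = ⊤ := by
  have h := C.h
  have hs := fun x y => h.symm x y
  rw [eq_top_iff]
  intro α _
  obtain ⟨e, f, e1, f1, e2, f2, T3'⟩ := C.exists_T3
  have Qe := T3'.Qe0
  have Qf := T3'.Qf0
  have Bef := T3'.e0f0
  have Bfe : B f e = 1 := by rw [hs]; exact Bef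
  have he0 : e ≠ 0 := by
    rintro rfl
    rw [h.zero_left] at Bef
    exact zero_ne_one Bef
  have hf0 : f ≠ 0 := by
    rintro rfl
    rw [h.zero_right] at Bef
    exact zero_ne_one Bef
  obtain ⟨p, hp0, Qp, hp⟩ := C.image_QQ_eq HH α Qe he0
  obtain ⟨p', hp'0, Qp', hp'⟩ := C.image_QQ_eq HH α Qf hf0
  have hpp' := C.nonperp Qe Qf Bef Qp Qp' hp0 hp'0 α hp hp'
  obtain ⟨c, hc⟩ : ∃ c, c = (B p p')⁻¹ := ⟨_, rfl⟩
  have hc0 : c ≠ 0 := by rw [hc]; exact inv_ne_zero hpp'
  have Qcp' : Q (c • p') = 0 := by rw [h.smul, Qp', mul_zero]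
  have Bpcp' : B p (c • p') = 1 := by
    rw [h.smul_right, hc, inv_mul_cancel₀ hpp']
  obtain ⟨s, -, hs1⟩ := trans_frame h C.nd C.ht 1 (by have := C.hm; omega) (t1F p (c • p')) (t1F e f)
    (t1F_HF Qp Qcp' Bpcp') (t1F_HF Qe Qf Bef)
  have s1 : act s p = e := (hs1 0).1
  have s2 : act s p' = c⁻¹ • f := by
    have := (hs1 0).2
    change act s (c • p') = f at this
    rw [act_smul] at this
    rw [← this, smul_smul, inv_mul_cancel₀ hc0, one_smul]
  obtain ⟨γ₁, hγ₁, -, H₁⟩ := C.exists_ind' (RingEquiv.refl F) one_ne_zero (act s) (act_add s)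
    (fun a x => act_smul s a x) (fun x => by simpa using Q_act (Q := Q) s x)
  have E1 : (γ₁ * α) '' C.QQ e = C.QQ e := by
    change (fun x => γ₁ (α x)) '' C.QQ e = C.QQ e
    rw [← Set.image_image, hp, H₁ p Qp, s1]
  have E2 : (γ₁ * α) '' C.QQ f = C.QQ f := by
    change (fun x => γ₁ (α x)) '' C.QQ f = C.QQ f
    rw [← Set.image_image, hp', H₁ p' Qp', s2, C.QQ_scale (inv_ne_zero hc0) Qf]
  obtain ⟨T, T', P⟩ := C.exists_TP Qe Qf Bef E1
  obtain ⟨γ₂, hγ₂, H1, H2⟩ := C.exists_ext P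
  -- the remaining automorphism
  obtain ⟨β₁, hβ₁⟩ : ∃ β₁ : MulAut (Cfsg.POmega F Q), β₁ = γ₂⁻¹ * (γ₁ * α) := ⟨_, rfl⟩
  have Fe : ∀ x, IsU B e f x → β₁ (C.ee e x) = C.ee e x := by
    intro x hx
    rw [hβ₁]
    change γ₂⁻¹ ((γ₁ * α) (C.ee e x)) = C.ee e x
    rw [P.act x hx, ← H1 x hx]
    simp
  have E3 : β₁ '' C.QQ f = C.QQ f := by
    rw [hβ₁]
    change (fun x => γ₂⁻¹ ((γ₁ * α) x)) '' C.QQ f = C.QQ f
    rw [← Set.image_image, E2]
    nth_rewrite 1 [← H2]
    rw [Set.image_image]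
    simp
  obtain ⟨T₁, T₁', P₁⟩ := C.exists_TP Qf Qe Bfe E3
  have Ff : ∀ x, IsU B f e x → β₁ (C.ee f x) = C.ee f x := by
    intro x hx
    rw [P₁.act x hx, P₁.eq_id Fe T3' hx]
  have Bee := Buu h Qe
  have Bff := Buu h Qf
  have one : β₁ = 1 := by
    apply C.eq_one_of_fix Qe Qf Bef
    · intro a ha
      obtain ⟨a', ha'⟩ : ∃ a', a' = a - B a f • e := ⟨_, rfl⟩
      have hU : IsU B e f a' := by
        constructor
        · rw [ha', h.sub_left, h.smul_left, ha, Bee]
          ring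
        · rw [ha', h.sub_left, h.smul_left, Bef]
          ring
      have e0 : a = a' + B a f • e := by rw [ha']; abel
      rw [e0, C.ee_add_self Qe hU.1]
      exact Fe a' hU
    · intro a ha
      obtain ⟨a', ha'⟩ : ∃ a', a' = a - B a e • f := ⟨_, rfl⟩
      have hU : IsU B f e a' := by
        constructor
        · rw [ha', h.sub_left, h.smul_left, ha, Bff]
          ring
        · rw [ha', h.sub_left, h.smul_left, Bfe]
          ring
      have e0 : a = a' + B a e • f := by rw [ha']; abel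
      rw [e0, C.ee_add_self Qf hU.1]
      exact Ff a' hU
  have e3 : α = γ₁⁻¹ * γ₂ := by
    rw [hβ₁] at one
    have e4 : γ₁ * α = γ₂ := by
      have := congrArg (fun g => γ₂ * g) one
      simpa using this
    rw [← e4]
    group
  rw [e3]
  exact (Cfsg.gammaPOmega F Q).mul_mem ((Cfsg.gammaPOmega F Q).inv_mem hγ₁) hγ₂

end Cfsg.Agent.H01.Om
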