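import Cfsg.Agent.Lib.H01.OmStab
/-! The final steps: an automorphism fixing one radical pointwise and stabilising an opposite one is trivial. -/
set_option autoImplicit false
set_option linter.unusedSimpArgs false
set_option linter.style.haveILetI false
set_option linter.unusedSectionVars false
set_option linter.unusedVariables false
namespace Cfsg.Agent.H01.Om
open Matrix Cfsg.Agent.Lead.Ortho Cfsg.Agent.Lead.Omega

variable {F : Type*} [Field F] [Fintype F] {ι : Type} [Fintype ι] [DecidableEq ι]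
variable {Q : (ι → F) → F} {B : (ι → F) → (ι → F) → F}
variable {m : ℕ} {t₀ : Fin m → (ι → F) × (ι → F)}

/-- swap of the table -/
lemma T3.swap (h : QF Q B) {e f e1 f1 e2 f2 : ι → F} (T : T3 Q B e f e1 f1 e2 f2) : T3 Q B f e e1 f1 e2 f2 :=
  { Qe0 := T.Qf0, Qf0 := T.Qe0, Qe1 := T.Qe1, Qf1 := T.Qf1, Qe2 := T.Qe2, Qf2 := T.Qf2
    e0f0 := by rw [h.symm]; exact T.e0f0
    e1f1 := T.e1f1, e2f2 := T.e2f2
    e0e1 := T.f0e1, e0f1 := T.f0f1, e0e2 := T.f0e2, e0f2 := T.f0f2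
    f0e1 := T.e0e1, f0f1 := T.e0f1, f0e2 := T.e0e2, f0f2 := T.e0f2
    e1e2 := T.e1e2, e1f2 := T.e1f2, f1e2 := T.f1e2, f1f2 := T.f1f2 }

section Rel
variable (h : QF Q B)
include h

/-- the first commutator relation -/
lemma rel2 {e f a b : ι → F} (Qe : Q e = 0) (Qf : Q f = 0) (Bef : B e f = 1) (Qa : Q a = 0) (Qb : Q b = 0)
    (ha : IsU B e f a) (hb : IsU B e f b) (Bab : B a b = 0) :
    eO h f a * eO h e b = eO h a b * eO h e b * eO h f a := by
  have hs := fun x y => h.symm x y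
  have Bfe : B f e = 1 := by rw [hs]; exact Bef
  have Bae := ha.1
  have Baf := ha.2
  have Bbe := hb.1
  have Bbf := hb.2
  have Bea : B e a = 0 := by rw [hs]; exact Bae
  have Bfa : B f a = 0 := by rw [hs]; exact Baf
  have Beb : B e b = 0 := by rw [hs]; exact Bbe
  have Bfb : B f b = 0 := by rw [hs]; exact Bbf
  have Bba : B b a = 0 := by rw [hs]; exact Bab
  have A1 : Adm Q B f a := ⟨Qf, Baf⟩
  have A2 : Adm Q B e b := ⟨Qe, Bbe⟩
  have A3 : Adm Q B a b := ⟨Qa, Bba⟩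
  apply og_ext
  intro w
  simp only [act_mul, act_eO A1, act_eO A2, act_eO A3, Efun_pure Qa, Efun_pure Qb, h.add_left, h.sub_left, h.smul_left, Bae, Baf,
    Bbe, Bbf, Bea, Bfa, Beb, Bfb, Bba, Bab, Bfe, Bef, Buu h Qe, Buu h Qf, Buu h Qa, Buu h Qb]
  funext i
  simp only [Pi.add_apply, Pi.sub_apply, Pi.smul_apply, smul_eq_mul]
  ring

/-- the second commutator relation -/
lemma rel1 {e f v u y : ι → F} (Qf : Q f = 0) (Qv : Q v = 0) (Qu : Q u = 0) (Qy : Q y = 0)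
    (hv : IsU B e f v) (hu : IsU B e f u) (hy : IsU B e f y) (Byu : B y u = 0) (Byv : B y v = 0) :
    eO h f v * eO h u y = eO h f (-(B u v • y)) * eO h u y * eO h f v := by
  have hs := fun x y => h.symm x y
  have Bvf := hv.2
  have Buf := hu.2
  have Byf := hy.2
  have Bfv : B f v = 0 := by rw [hs]; exact Bvf
  have Bfu : B f u = 0 := by rw [hs]; exact Buf
  have Bfy : B f y = 0 := by rw [hs]; exact Byf
  have Buy : B u y = 0 := by rw [hs]; exact Byu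
  have Bvy : B v y = 0 := by rw [hs]; exact Byv
  have Bvu : B v u = B u v := hs v u
  have e3 : B (-(B u v • y)) f = 0 := by rw [h.neg_left, h.smul_left, Byf]; ring
  have Qn : Q (-(B u v • y)) = 0 := by
    have := h.smul (-(B u v)) y
    rw [Qy, mul_zero, neg_smul] at this
    exact this
  have A1 : Adm Q B f v := ⟨Qf, Bvf⟩
  have A2 : Adm Q B u y := ⟨Qu, Byu⟩
  have A3 : Adm Q B f (-(B u v • y)) := ⟨Qf, e3⟩
  have e4 : ∀ w, B w (-(B u v • y)) = - (B u v * B w y) := by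
    intro w
    rw [hs, h.neg_left, h.smul_left, hs y w]
  apply og_ext
  intro w
  simp only [act_mul, act_eO A1, act_eO A2, act_eO A3, Efun_pure Qv, Efun_pure Qy, Efun_pure Qn, e4, h.add_left, h.sub_left, h.smul_left,
    Bvf, Buf, Byf, Bfv, Bfu, Bfy, Buy, Bvy, Bvu, Byu, Byv, Buu h Qf, Buu h Qv, Buu h Qu, Buu h Qy]
  funext i
  simp only [Pi.add_apply, Pi.sub_apply, Pi.smul_apply, smul_eq_mul, Pi.neg_apply]
  ring

end Rel

section Fix
variable {C : Cx Q B t₀} {β : MulAut (Cfsg.POmega F Q)} {e f : ι → F} {T T' : (ι → F) → (ι → F)}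

/-- singular vectors are eigenvectors -/
lemma TP.eigen (P : TP C β f e T T') (hfix : ∀ x, IsU B e f x → β (C.ee e x) = C.ee e x) {u : ι → F} (hu : IsU B f e u) (Qu : Q u = 0)
    (hu0 : u ≠ 0) : ∃ d : F, T u = d • u := by
  have h := C.h
  have hs := fun x y => h.symm x y
  have Bfe := P.ef
  have Bef : B e f = 1 := by rw [hs]; exact Bfe
  have Qe := P.Qf
  have Qf := P.Qe
  have Beu : B e u = 0 := by rw [hs]; exact hu.2
  have Bfu : B f u = 0 := by rw [hs]; exact hu.1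
  have A1 : Adm Q B e u := ⟨Qe, hu.2⟩
  have A2 : Adm Q B f u := ⟨Qf, hu.1⟩
  have hcomm : C.ee e u * C.ee f u = C.ee f u * C.ee e u := by
    unfold Cx.ee
    rw [← QuotientGroup.mk_mul, ← QuotientGroup.mk_mul]
    congr 1
    apply Subtype.ext
    change eO C.h e u * eO C.h f u = eO C.h f u * eO C.h e u
    rw [C.eO_swap Qe Qu Beu, C.eO_swap Qf Qu Bfu]
    have A3 : Adm Q B u (-e) := ⟨Qu, by rw [h.neg_left, Beu, neg_zero]⟩
    have A4 : Adm Q B u (-f) := ⟨Qu, by rw [h.neg_left, Bfu, neg_zero]⟩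
    rw [eO_mul A3 A4, eO_mul A4 A3, add_comm]
  have e1 := congrArg β hcomm
  rw [map_mul, map_mul, hfix u hu.swap, P.act _ hu] at e1
  obtain ⟨y, hy⟩ : ∃ y, y = T u := ⟨_, rfl⟩
  rw [← hy] at e1 ⊢
  have hyU : IsU B f e y := by rw [hy]; exact P.mem _ hu
  have Qy : Q y = 0 := by rw [hy]; exact P.Q_sing hu Qu
  have e2 := C.conj_of_comm (C.em f y) A1 e1.symm
  change eO C.h (Cfsg.Agent.Lead.Omega.act (eO C.h f y) e) (Cfsg.Agent.Lead.Omega.act (eO C.h f y) u) = eO C.h e u at e2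
  have I : Ind2 e u := by
    intro s t e3
    have e4 := congrArg (fun w => B w f) e3
    simp only [h.add_left, h.smul_left, Bef, hu.1, h.zero_left, mul_one, mul_zero, add_zero] at e4
    subst e4
    rw [zero_smul, zero_add] at e3
    exact ⟨rfl, (smul_eq_zero.1 e3).resolve_right hu0⟩
  have A5 : Adm Q B f y := ⟨Qf, hyU.1⟩
  have m1 := (C.mem_of_eO_eq (adm_conj h _ A1) A1 Qu e2 (ind2_act C _ I)).1
  rw [act_eO A5, Efun_pure Qy, Submodule.mem_span_pair] at m1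
  obtain ⟨r, d, e3⟩ := m1
  have Bey : B e y = 0 := by rw [hs]; exact hyU.2
  rw [Bef, Bey, zero_smul, sub_zero, one_smul] at e3
  have e4 := congrArg (fun w => B w f) e3
  simp only [h.add_left, h.smul_left, Bef, hu.1, hyU.1, mul_one, mul_zero, add_zero] at e4
  subst e4
  refine ⟨d, ?_⟩
  funext i
  have := congrFun e3 i
  simp only [Pi.add_apply, Pi.smul_apply, smul_eq_mul] at this ⊢
  linear_combination -this

/-- the eigenvalue is common -/
lemma TP.mu (P : TP C β f e T T') (hfix : ∀ x, IsU B e f x → β (C.ee e x) = C.ee e x)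
    {u u₁ : ι → F} (hu : IsU B f e u) (Qu : Q u = 0) (hu0 : u ≠ 0) (hu₁ : IsU B f e u₁) (Qu₁ : Q u₁ = 0) (hu₁0 : u₁ ≠ 0) {d d₁ : F}
    (e1 : T u = d • u) (e2 : T u₁ = d₁ • u₁) : d = d₁ := by
  have h := C.h
  refine C.connect P.Qe P.Qf P.ef (fun u d => T u = d • u) (fun u hu Qu hu0 => P.eigen hfix hu Qu hu0) ?_ u u₁ hu Qu hu0 hu₁ Qu₁ hu₁0
    d d₁ e1 e2
  intro u u₁ hu Qu hu0 hu₁ Qu₁ hu₁0 Buu₁ I d d₁ e1 e2
  have Qs : Q (u + u₁) = 0 := by rw [h.add, Qu, Qu₁, Buu₁]; ring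
  have hs0 : u + u₁ ≠ 0 := by
    intro e0
    have := I 1 1 (by simpa using e0)
    exact one_ne_zero this.1
  obtain ⟨d₂, e3⟩ := P.eigen hfix (hu.add h hu₁) Qs hs0
  rw [P.add hu hu₁, e1, e2] at e3
  have e4 := I (d - d₂) (d₁ - d₂) (by
    funext i
    have := congrFun e3 i
    simp only [Pi.add_apply, Pi.smul_apply, smul_eq_mul, Pi.zero_apply] at this ⊢
    linear_combination this)
  rw [sub_eq_zero.1 e4.1, sub_eq_zero.1 e4.2]

/-- the map of the residue is the identity -/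
lemma TP.eq_id (P : TP C β f e T T') (hfix : ∀ x, IsU B e f x → β (C.ee e x) = C.ee e x) {e1 f1 e2 f2 : ι → F}
    (T3' : T3 Q B e f e1 f1 e2 f2) {x : ι → F} (hx : IsU B f e x) : T x = x := by
  have h := C.h
  have hs := fun x y => h.symm x y
  have Qe := T3'.Qe0
  have Qf := T3'.Qf0
  have hufe : ∀ x, IsU B e f x → IsU B f e x := fun x hx => hx.swap
  have hb1 : IsU B e f e1 := ⟨by rw [hs]; exact T3'.e0e1, by rw [hs]; exact T3'.f0e1⟩
  have hb2 : IsU B e f f1 := ⟨by rw [hs]; exact T3'.e0f1, by rw [hs]; exact T3'.f0f1⟩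
  have hb3 : IsU B e f e2 := ⟨by rw [hs]; exact T3'.e0e2, by rw [hs]; exact T3'.f0e2⟩
  have hb4 : IsU B e f f2 := ⟨by rw [hs]; exact T3'.e0f2, by rw [hs]; exact T3'.f0f2⟩
  have he10 : e1 ≠ 0 := by
    rintro rfl
    have := T3'.e1f1
    rw [h.zero_left] at this
    exact zero_ne_one this
  have hf10 : f1 ≠ 0 := by
    rintro rfl
    have := T3'.e1f1
    rw [h.zero_right] at this
    exact zero_ne_one this
  have he20 : e2 ≠ 0 := by
    rintro rfl
    have := T3'.e2f2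
    rw [h.zero_left] at this
    exact zero_ne_one this
  obtain ⟨μ, hμ⟩ := P.eigen hfix hb1.swap T3'.Qe1 he10
  have all : ∀ u, IsU B f e u → Q u = 0 → u ≠ 0 → T u = μ • u := by
    intro u hu Qu hu0
    obtain ⟨d, hd⟩ := P.eigen hfix hu Qu hu0
    rw [hd, P.mu hfix hu Qu hu0 hb1.swap T3'.Qe1 he10 hd hμ]
  have hμ0 : μ ≠ 0 := by
    rintro rfl
    rw [zero_smul] at hμ
    exact P.ne hb1.swap he10 hμ
  -- elements
  have cong : ∀ {a b c d : ι → F}, eO C.h a b = eO C.h c d → C.ee a b = C.ee c d := fun H => C.ee_eq_of_eO H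
  have R2 : ∀ a b, IsU B e f a → IsU B e f b → Q a = 0 → Q b = 0 → B a b = 0 →
      C.ee f a * C.ee e b = C.ee a b * C.ee e b * C.ee f a := by
    intro a b ha hb Qa Qb Bab
    unfold Cx.ee
    rw [← QuotientGroup.mk_mul, ← QuotientGroup.mk_mul, ← QuotientGroup.mk_mul]
    congr 1
    apply Subtype.ext
    exact rel2 C.h Qe Qf T3'.e0f0 Qa Qb ha hb Bab
  have R1 : ∀ v u y, IsU B e f v → IsU B e f u → IsU B e f y → Q v = 0 → Q u = 0 → Q y = 0 → B y u = 0 → B y v = 0 →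
      C.ee f v * C.ee u y = C.ee f (-(B u v • y)) * C.ee u y * C.ee f v := by
    intro v u y hv hu hy Qv Qu Qy Byu Byv
    unfold Cx.ee
    rw [← QuotientGroup.mk_mul, ← QuotientGroup.mk_mul, ← QuotientGroup.mk_mul]
    congr 1
    apply Subtype.ext
    exact rel1 C.h Qf Qv Qu Qy hv hu hy Byu Byv
  -- step A: the action on `E(e1, e2)`
  have Qμe1 : Q (μ • e1) = 0 := by rw [h.smul, T3'.Qe1, mul_zero]
  have Qμf1 : Q (μ • f1) = 0 := by rw [h.smul, T3'.Qf1, mul_zero]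
  have Qμe2 : Q (μ • e2) = 0 := by rw [h.smul, T3'.Qe2, mul_zero]
  have Be2e1 : B e2 e1 = 0 := by rw [hs]; exact T3'.e1e2
  have Be2f1 : B e2 f1 = 0 := by rw [hs]; exact T3'.f1e2
  have stepA : β (C.ee e1 e2) = C.ee e1 (μ • e2) := by
    have e3 := congrArg β (R2 e1 e2 hb1 hb3 T3'.Qe1 T3'.Qe2 T3'.e1e2)
    rw [map_mul, map_mul, map_mul, P.act _ hb1.swap, hfix _ hb3, hμ] at e3
    have e4 := R2 (μ • e1) e2 (hb1.smul h _) hb3 Qμe1 T3'.Qe2 (by rw [h.smul_left, T3'.e1e2, mul_zero])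
    rw [e4] at e3
    have e5 := mul_right_cancel (mul_right_cancel e3)
    rw [← e5]
    apply cong
    have hA : Adm Q B (μ • e1) e2 := ⟨Qμe1, by rw [h.smul_right, Be2e1, mul_zero]⟩
    exact eO_scale hμ0 hA
  -- step B
  have hnU : IsU B e f (-(1 : F) • e2) := hb3.smul h _
  have Qn : Q (-(1 : F) • e2) = 0 := by rw [h.smul, T3'.Qe2, mul_zero]
  have hn0 : -(1 : F) • e2 ≠ 0 := smul_ne_zero (neg_ne_zero.2 one_ne_zero) he20
  have e6 := congrArg β (R1 f1 e1 e2 hb2 hb1 hb3 T3'.Qf1 T3'.Qe1 T3'.Qe2 Be2e1 Be2f1)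
  rw [T3'.e1f1, one_smul] at e6
  have hn' : -e2 = -(1 : F) • e2 := by simp
  rw [map_mul, map_mul, map_mul, P.act _ hb2.swap, stepA, hn', P.act _ hnU.swap, all _ hb2.swap T3'.Qf1 hf10,
    all _ hnU.swap Qn hn0] at e6
  have e7 := R1 (μ • f1) e1 (μ • e2) (hb2.smul h _) hb1 (hb3.smul h _) Qμf1 T3'.Qe1 Qμe2
    (by rw [h.smul_left, Be2e1, mul_zero]) (by rw [h.smul_left, h.smul_right, Be2f1]; ring)
  rw [e7] at e6
  have e8 := mul_right_cancel (mul_right_cancel e6)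
  have hUa : IsU B f e (-(B e1 (μ • f1) • μ • e2)) := by
    have : -(B e1 (μ • f1) • μ • e2) = (-(B e1 (μ • f1) * μ)) • e2 := by
      rw [neg_smul, mul_smul]
    rw [this]
    exact hb3.swap.smul h _
  have e9 := C.U_inj P.Qe P.ef hUa (hnU.swap.smul h _) e8
  have hμ1 : μ = 1 := by
    rw [h.smul_right, T3'.e1f1, mul_one] at e9
    have e10 : (μ * μ - μ) • e2 = 0 := by
      funext i
      have := congrFun e9 i
      simp only [Pi.smul_apply, Pi.neg_apply, smul_eq_mul, Pi.zero_apply] at this ⊢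
      linear_combination -this
    have e11 : μ * μ - μ = 0 := (smul_eq_zero.1 e10).resolve_right he20
    have e12 : μ * (μ - 1) = 0 := by linear_combination e11
    exact sub_eq_zero.1 ((mul_eq_zero.1 e12).resolve_left hμ0)
  -- conclusion
  have sing : ∀ u, IsU B f e u → Q u = 0 → T u = u := by
    intro u hu Qu
    by_cases hu0 : u = 0
    · rw [hu0]
      exact P.zero
    · rw [all u hu Qu hu0, hμ1, one_smul]
  obtain ⟨r, s, w, hw, Qw, ex⟩ := decomp3 h (S := perpOf h (t1F e f)) ((mem_t1F h).2 hb1) ((mem_t1F h).2 hb2) T3'.Qe1 T3'.Qf1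
    T3'.e1f1 ((mem_t1F h).2 hx.swap)
  have hwU : IsU B e f w := (mem_t1F h).1 hw
  rw [ex, P.add ((hb1.swap.smul h _).add h (hb2.swap.smul h _)) hwU.swap, P.add (hb1.swap.smul h _) (hb2.swap.smul h _),
    sing _ (hb1.swap.smul h _) (by rw [h.smul, T3'.Qe1, mul_zero]), sing _ (hb2.swap.smul h _) (by rw [h.smul, T3'.Qf1, mul_zero]),
    sing _ hwU.swap Qw]

end Fix

/-! ### Generation -/
section Gen
variable (C : Cx Q B t₀)
include C

/-- `Ω` is generated by two opposite radicals -/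
lemma Cx.gen {e f : ι → F} (Qe : Q e = 0) (Qf : Q f = 0) (Bef : B e f = 1) :
    SS C.h ≤ Subgroup.closure ({g | ∃ a, B a e = 0 ∧ g = eO C.h e a} ∪ {g | ∃ a, B a f = 0 ∧ g = eO C.h f a}) := by
  have h := C.h
  have hs := fun x y => h.symm x y
  have Bfe : B f e = 1 := by rw [hs]; exact Bef
  obtain ⟨K, hK⟩ : ∃ K, K = Subgroup.closure ({g | ∃ a, B a e = 0 ∧ g = eO C.h e a} ∪ {g | ∃ a, B a f = 0 ∧ g = eO C.h f a}) := ⟨_, rfl⟩
  rw [← hK]
  have he : ∀ a, B a e = 0 → eO C.h e a ∈ K := fun a ha => by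
    rw [hK]
    exact Subgroup.subset_closure (Or.inl ⟨a, ha, rfl⟩)
  have hf : ∀ a, B a f = 0 → eO C.h f a ∈ K := fun a ha => by
    rw [hK]
    exact Subgroup.subset_closure (Or.inr ⟨a, ha, rfl⟩)
  have e0 : e ≠ 0 := by
    rintro rfl
    rw [h.zero_left] at Bef
    exact zero_ne_one Bef
  have f0 : f ≠ 0 := by
    rintro rfl
    rw [h.zero_right] at Bef
    exact zero_ne_one Bef
  -- moving with a radical
  have move : ∀ u v, Q u = 0 → Q v = 0 → u ≠ 0 → (∀ a, B a u = 0 → eO C.h u a ∈ K) → ∀ w, Q w = 0 → B w u ≠ 0 → B v u ≠ 0 →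
      ∃ k ∈ K, ∃ c : F, c ≠ 0 ∧ act k (c • v) = w := by
    intro u v Qu Qv hu0 hK' w Qw hw hv
    obtain ⟨c, hc⟩ : ∃ c, c = B w u / B v u := ⟨_, rfl⟩
    have hc0 : c ≠ 0 := by
      rw [hc]
      exact div_ne_zero hw hv
    have e1 : B (c • v) u = B w u := by
      rw [h.smul_left, hc]
      field_simp
    have Qcv : Q (c • v) = 0 := by rw [h.smul, Qv, mul_zero]
    obtain ⟨a, hA, -, e2⟩ := exists_E_map h Qu Qcv Qw (by rw [e1]; exact hw) e1.symm
    exact ⟨eO C.h u a, hK' a hA.au, c, hc0, by rw [act_eO hA, e2]⟩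
  -- conjugating radicals
  have conj : ∀ k ∈ K, ∀ c : F, c ≠ 0 → ∀ u w, Q u = 0 → act k (c • u) = w → (∀ a, B a u = 0 → eO C.h u a ∈ K) →
      ∀ a, B a w = 0 → eO C.h w a ∈ K := by
    intro k hk c hc u w Qu e1 hK' a ha
    have Qcu : Q (c • u) = 0 := by rw [h.smul, Qu, mul_zero]
    have e2 : B (act k⁻¹ a) (c • u) = 0 := by
      have := B_act h k (act k⁻¹ a) (c • u)
      rw [act_act_inv, e1, ha] at this
      exact this.symm
    have hA : Adm Q B (c • u) (act k⁻¹ a) := ⟨Qcu, e2⟩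
    have e3 := eO_conj (h := C.h) k hA
    rw [act_act_inv, e1] at e3
    rw [← e3, eO_scale hc hA]
    exact K.mul_mem (K.mul_mem hk (hK' _ (adm_scale h hc hA).au)) (K.inv_mem hk)
  -- the third point
  obtain ⟨w₀, hw₀, Qw₀⟩ := exists_univ h C.nd C.ht (by have := C.hm; omega : 1 < m) _ (t1F_HF Qe Qf Bef) (-1)
  have hw₀U : IsU B e f w₀ := (mem_t1F h).1 hw₀
  obtain ⟨z, hz⟩ : ∃ z, z = e + f + w₀ := ⟨_, rfl⟩
  have Qz : Q z = 0 := by
    have := h.Q_pair Qe Qf Bef hw₀U.1 hw₀U.2 1 1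
    rw [one_smul, one_smul, Qw₀] at this
    rw [hz, this]
    ring
  have Bze : B z e = 1 := by
    rw [hz, h.add_left, h.add_left, Buu h Qe, Bfe, hw₀U.1]
    ring
  have Bzf : B z f = 1 := by
    rw [hz, h.add_left, h.add_left, Bef, Buu h Qf, hw₀U.2]
    ring
  -- every singular vector is in the orbit of `e`
  have orbit : ∀ u, Q u = 0 → u ≠ 0 → ∃ k ∈ K, ∃ c : F, c ≠ 0 ∧ act k (c • e) = u := by
    have ff : ∀ w, Q w = 0 → B w f ≠ 0 → ∃ k ∈ K, ∃ c : F, c ≠ 0 ∧ act k (c • e) = w := fun w Qw hw =>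
      move f e Qf Qe f0 hf w Qw hw (by rw [Bef]; exact one_ne_zero)
    have ee' : ∀ w, Q w = 0 → B w e ≠ 0 → ∃ k ∈ K, ∃ c : F, c ≠ 0 ∧ act k (c • f) = w := fun w Qw hw =>
      move e f Qe Qf e0 he w Qw hw (by rw [Bfe]; exact one_ne_zero)
    -- `f` is in the orbit of `e`
    have hfe : ∃ k ∈ K, ∃ c : F, c ≠ 0 ∧ act k (c • e) = f := by
      obtain ⟨k₁, hk₁, c₁, hc₁, e1⟩ := ee' z Qz (by rw [Bze]; exact one_ne_zero)
      obtain ⟨k₂, hk₂, c₂, hc₂, e2⟩ := ff z Qz (by rw [Bzf]; exact one_ne_zero)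
      refine ⟨k₁⁻¹ * k₂, K.mul_mem (K.inv_mem hk₁) hk₂, c₁⁻¹ * c₂, mul_ne_zero (inv_ne_zero hc₁) hc₂, ?_⟩
      rw [act_mul, mul_smul, act_smul, e2, ← e1, act_smul, act_inv_act, smul_smul, inv_mul_cancel₀ hc₁, one_smul]
    obtain ⟨k₃, hk₃, c₃, hc₃, e3⟩ := hfe
    have ee'' : ∀ w, Q w = 0 → B w e ≠ 0 → ∃ k ∈ K, ∃ c : F, c ≠ 0 ∧ act k (c • e) = w := by
      intro w Qw hw
      obtain ⟨k, hk, c, hc, e4⟩ := ee' w Qw hw
      refine ⟨k * k₃, K.mul_mem hk hk₃, c * c₃, mul_ne_zero hc hc₃, ?_⟩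
      rw [act_mul, mul_smul, act_smul, e3, e4]
    intro u Qu hu0
    by_cases h1 : B u e = 0
    · obtain ⟨z', -, Qz', hz'e, hz'u⟩ := exists_third h C.nd (Submodule.mem_top (x := e)) (Submodule.mem_top (x := u)) Qe e0 hu0 h1
      obtain ⟨k, hk, c, hc, e4⟩ := ee'' z' Qz' hz'e
      have hrad := conj k hk c hc e z' Qe e4 he
      have hz'0 : z' ≠ 0 := by
        rintro rfl
        rw [h.zero_left] at hz'e
        exact hz'e rfl
      have h2 : B u z' ≠ 0 := by rw [hs]; exact hz'u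
      have h3 : B e z' ≠ 0 := by rw [hs]; exact hz'e
      exact move z' e Qz' Qe hz'0 hrad u Qu h2 h3
    · exact ee'' u Qu h1
  -- conclusion
  apply (Subgroup.closure_le _).2
  rintro _ ⟨u, a, hA, rfl⟩
  rw [← eO_eq hA]
  by_cases hu0 : u = 0
  · subst hu0
    have : eO C.h 0 a = 1 := by
      rw [eO_eq hA]
      exact E_zero_left C.h hA
    rw [this]
    exact K.one_mem
  · obtain ⟨k, hk, c, hc, e1⟩ := orbit u hA.uu hu0
    exact conj k hk c hc e u Qe e1 he a hA.au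

/-- an automorphism fixing two opposite radicals pointwise is trivial -/
lemma Cx.eq_one_of_fix {e f : ι → F} (Qe : Q e = 0) (Qf : Q f = 0) (Bef : B e f = 1) {β : MulAut (Cfsg.POmega F Q)}
    (h1 : ∀ a, B a e = 0 → β (C.ee e a) = C.ee e a) (h2 : ∀ a, B a f = 0 → β (C.ee f a) = C.ee f a) : β = 1 := by
  have h := C.h
  let π : ↥(Cfsg.Omega F Q) →* Cfsg.POmega F Q := QuotientGroup.mk' _
  let Fx : Subgroup ↥(Cfsg.Omega F Q) := MonoidHom.eqLocus (β.toMonoidHom.comp π) π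
  let Fy : Subgroup (OG F Q) := Fx.map (Cfsg.Omega F Q).subtype
  have hle : SS C.h ≤ Fy := by
    refine (C.gen Qe Qf Bef).trans ?_
    apply (Subgroup.closure_le _).2
    rintro _ (⟨a, ha, rfl⟩ | ⟨a, ha, rfl⟩)
    · exact ⟨C.em e a, h1 a ha, rfl⟩
    · exact ⟨C.em f a, h2 a ha, rfl⟩
  ext x
  obtain ⟨s, rfl⟩ := QuotientGroup.mk_surjective x
  have hs : (s : OG F Q) ∈ SS C.h := by
    rw [← C.hΩ]
    exact s.2
  obtain ⟨s', hs', e1⟩ := hle hs
  have e2 : s' = s := Subtype.ext e1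
  subst e2
  exact hs'

end Gen

end Cfsg.Agent.H01.Om
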