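import Cfsg.Agent.Lib.H01.OmBase
/-! The geometry of totally singular lines: a bijection of the lines preserving the basic relations
sends the lines through a point to lines through a point. -/
set_option autoImplicit false
set_option linter.unusedSimpArgs false
set_option linter.style.haveILetI false
set_option linter.unusedSectionVars false
set_option linter.unusedVariables false
namespace Cfsg.Agent.H01.Om
open Matrix Cfsg.Agent.Lead.Ortho Cfsg.Agent.Lead.Omega

variable {F : Type*} [Field F] [Fintype F] {ι : Type} [Fintype ι] [DecidableEq ι]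
variable {Q : (ι → F) → F} {B : (ι → F) → (ι → F) → F}

/-- the span of two vectors -/
abbrev sp (x y : ι → F) : Submodule F (ι → F) := Submodule.span F {x, y}

omit [Fintype F] in
lemma sp_eq_range (x y : ι → F) : sp x y = Submodule.span F (Set.range ![x, y]) := by
  have e : ({x, y} : Set (ι → F)) = Set.range ![x, y] := by
    ext z
    constructor
    · rintro (rfl | rfl)
      · exact ⟨0, rfl⟩
      · exact ⟨1, rfl⟩
    · rintro ⟨i, rfl⟩
      fin_cases i
      · exact Or.inl rfl
      · exact Or.inr rfl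
  rw [← e]

omit [Fintype F] in
lemma mem_sp_left (x y : ι → F) : x ∈ sp x y := Submodule.subset_span (by simp)

omit [Fintype F] in
lemma mem_sp_right (x y : ι → F) : y ∈ sp x y := Submodule.subset_span (by simp)

/-- totally singular lines -/
structure IsLn (Q : (ι → F) → F) (L : Submodule F (ι → F)) : Prop where
  rk : Module.finrank F L = 2
  ts : ∀ x ∈ L, Q x = 0

/-- two subspaces meet -/
def Meet (L M : Submodule F (ι → F)) : Prop := ∃ z, z ≠ 0 ∧ z ∈ L ∧ z ∈ M

/-- two subspaces are perpendicular -/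
def Prp (B : (ι → F) → (ι → F) → F) (L M : Submodule F (ι → F)) : Prop := ∀ x ∈ L, ∀ y ∈ M, B x y = 0

/-- `N` belongs to the pencil spanned by `L`, `M` -/
def Pnc (L M N : Submodule F (ι → F)) : Prop := (∃ z, z ≠ 0 ∧ z ∈ L ∧ z ∈ M ∧ z ∈ N) ∧ N ≤ L ⊔ M

/-- independence of triples -/
def Ind3 (a b c : ι → F) : Prop := ∀ r s t : F, r • a + s • b + t • c = 0 → r = 0 ∧ s = 0 ∧ t = 0

/-- independence of quadruples -/
def Ind4 (a b c d : ι → F) : Prop :=
  ∀ r s t u : F, r • a + s • b + t • c + u • d = 0 → r = 0 ∧ s = 0 ∧ t = 0 ∧ u = 0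

lemma Meet.symm {L M : Submodule F (ι → F)} (H : Meet L M) : Meet M L := by
  obtain ⟨z, h0, h1, h2⟩ := H
  exact ⟨z, h0, h2, h1⟩

lemma Prp.symm (h : QF Q B) {L M : Submodule F (ι → F)} (H : Prp B L M) : Prp B M L :=
  fun x hx y hy => by rw [h.symm]; exact H y hy x hx

lemma ind2_of_not_mult {x y : ι → F} (hx0 : x ≠ 0) (H : ∀ c : F, y ≠ c • x) : Ind2 x y := by
  intro s t e
  by_cases ht : t = 0
  · subst ht
    rw [zero_smul, add_zero] at e
    exact ⟨(smul_eq_zero.1 e).resolve_right hx0, rfl⟩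
  · exfalso
    apply H (-(t⁻¹ * s))
    have e2 : t • y = (-s) • x := by
      rw [neg_smul]
      exact eq_neg_of_add_eq_zero_right e
    calc y = t⁻¹ • (t • y) := by rw [smul_smul, inv_mul_cancel₀ ht, one_smul]
      _ = _ := by rw [e2, smul_smul]; congr 1; ring

section Lines
variable (h : QF Q B)
include h

lemma Q_comb {x y : ι → F} (hx : Q x = 0) (hy : Q y = 0) (hxy : B x y = 0) (s t : F) : Q (s • x + t • y) = 0 := by
  rw [h.add, h.smul, h.smul, h.smul_left, h.smul_right, hx, hy, hxy]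
  ring

lemma isLn_sp {x y : ι → F} (hx : Q x = 0) (hy : Q y = 0) (hxy : B x y = 0) (H : Ind2 x y) : IsLn Q (sp x y) := by
  refine ⟨?_, ?_⟩
  · rw [sp_eq_range, finrank_span_eq_card (ind2_iff.1 H)]
    simp
  · intro z hz
    rw [Submodule.mem_span_pair] at hz
    obtain ⟨s, t, rfl⟩ := hz
    exact Q_comb h hx hy hxy s t

lemma IsLn.B0 {L : Submodule F (ι → F)} (hL : IsLn Q L) {x y : ι → F} (hx : x ∈ L) (hy : y ∈ L) : B x y = 0 := by
  have e := h.add x y
  rw [hL.ts _ (L.add_mem hx hy), hL.ts _ hx, hL.ts _ hy] at e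
  simpa using e.symm

lemma prp_sp {a b c d : ι → F} (h1 : B a c = 0) (h2 : B a d = 0) (h3 : B b c = 0) (h4 : B b d = 0) :
    Prp B (sp a b) (sp c d) := by
  intro x hx y hy
  rw [Submodule.mem_span_pair] at hx hy
  obtain ⟨s, t, rfl⟩ := hx
  obtain ⟨s', t', rfl⟩ := hy
  simp only [h.add_left, h.add_right, h.smul_left, h.smul_right, h1, h2, h3, h4]
  ring

/-- two lines through `p` with perpendicular directions -/
lemma adj_sp {p w w' : ι → F} (hp : Q p = 0) (hp0 : p ≠ 0) (h1 : B p w = 0) (h2 : B p w' = 0) (h3 : B w w' = 0) :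
    Meet (sp p w) (sp p w') ∧ Prp B (sp p w) (sp p w') :=
  ⟨⟨p, hp0, mem_sp_left _ _, mem_sp_left _ _⟩, prp_sp h (Buu h hp) h2 (by rw [h.symm]; exact h1) h3⟩

omit h in
lemma IsLn.eq_sp {L : Submodule F (ι → F)} (hL : IsLn Q L) {x y : ι → F} (hx : x ∈ L) (hy : y ∈ L) (H : Ind2 x y) :
    L = sp x y := by
  have hle : sp x y ≤ L := by
    rw [Submodule.span_le]
    rintro z (rfl | rfl)
    · exact hx
    · exact hy
  have hf : Module.finrank F (sp x y) = 2 := by
    rw [sp_eq_range, finrank_span_eq_card (ind2_iff.1 H)]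
    simp
  exact (Submodule.eq_of_le_of_finrank_eq hle (by rw [hf, hL.rk])).symm

omit h in
lemma IsLn.exists_sp {L : Submodule F (ι → F)} (hL : IsLn Q L) {z : ι → F} (hz : z ∈ L) (hz0 : z ≠ 0) :
    ∃ a ∈ L, Ind2 z a ∧ L = sp z a := by
  have hnle : ¬ L ≤ Submodule.span F {z} := by
    intro hle
    have h1 := Submodule.finrank_mono hle
    rw [hL.rk, finrank_span_singleton hz0] at h1
    omega
  obtain ⟨a, ha, hna⟩ := SetLike.not_le_iff_exists.1 hnle
  have hI : Ind2 z a := by
    apply ind2_of_not_mult hz0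
    intro c e
    apply hna
    rw [e]
    exact Submodule.smul_mem _ _ (Submodule.mem_span_singleton_self z)
  exact ⟨a, ha, hI, hL.eq_sp hz ha hI⟩

omit h in
lemma IsLn.exists_ne {L : Submodule F (ι → F)} (hL : IsLn Q L) : ∃ z ∈ L, z ≠ 0 := by
  apply Submodule.exists_mem_ne_zero_of_ne_bot
  rintro rfl
  have := hL.rk
  simp at this

omit h in
/-- two points common to two distinct lines are parallel -/
lemma two_pts {L M : Submodule F (ι → F)} (hL : IsLn Q L) (hM : IsLn Q M) (hne : L ≠ M) {x y : ι → F} (hx0 : x ≠ 0)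
    (hxL : x ∈ L) (hxM : x ∈ M) (hyL : y ∈ L) (hyM : y ∈ M) : ∃ c : F, y = c • x := by
  by_contra hc
  push Not at hc
  have hI := ind2_of_not_mult hx0 hc
  exact hne ((hL.eq_sp hxL hyL hI).trans (hM.eq_sp hxM hyM hI).symm)

omit h in
lemma IsLn.eq_of_le {L M : Submodule F (ι → F)} (hL : IsLn Q L) (hM : IsLn Q M) (hle : L ≤ M) : L = M :=
  Submodule.eq_of_le_of_finrank_eq hle (by rw [hL.rk, hM.rk])

end Lines

/-- the hypothesis of rank at least four and dimension at least nine -/
structure Big (h : QF Q B) : Prop where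
  r4 : ∀ t : Fin 4 → (ι → F) × (ι → F), IsHF Q B t → ∃ r ∈ perpOf h t, r ≠ 0
  s3 : ∀ t : Fin 3 → (ι → F) × (ι → F), IsHF Q B t → ∃ w ∈ perpOf h t, w ≠ 0 ∧ Q w = 0

/-- there is no totally singular independent quadruple -/
def NoFour (Q : (ι → F) → F) (B : (ι → F) → (ι → F) → F) : Prop :=
  ∀ a : Fin 4 → ι → F, (∀ i, Q (a i) = 0) → (∀ i j, B (a i) (a j) = 0) → ¬ LinearIndependent F a

/-- A bijection of the lines preserving the basic relations. -/
structure LM (Q : (ι → F) → F) (B : (ι → F) → (ι → F) → F)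
    (φ ψ : Submodule F (ι → F) → Submodule F (ι → F)) : Prop where
  ln : ∀ L, IsLn Q L → IsLn Q (φ L)
  ln' : ∀ L, IsLn Q L → IsLn Q (ψ L)
  lr : ∀ L, IsLn Q L → ψ (φ L) = L
  rl : ∀ L, IsLn Q L → φ (ψ L) = L
  cm : ∀ L M, IsLn Q L → IsLn Q M → (Meet L M ∨ Prp B L M) → (Meet (φ L) (φ M) ∨ Prp B (φ L) (φ M))
  cm' : ∀ L M, IsLn Q L → IsLn Q M → (Meet L M ∨ Prp B L M) → (Meet (ψ L) (ψ M) ∨ Prp B (ψ L) (ψ M))
  ad : ∀ L M, IsLn Q L → IsLn Q M → Meet L M → Prp B L M → (Meet (φ L) (φ M) ∧ Prp B (φ L) (φ M))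
  ad' : ∀ L M, IsLn Q L → IsLn Q M → Meet L M → Prp B L M → (Meet (ψ L) (ψ M) ∧ Prp B (ψ L) (ψ M))
  pn : ∀ L M N, IsLn Q L → IsLn Q M → IsLn Q N → L ≠ M → Meet L M → Prp B L M → Pnc L M N → Pnc (φ L) (φ M) (φ N)
  pn' : ∀ L M N, IsLn Q L → IsLn Q M → IsLn Q N → L ≠ M → Meet L M → Prp B L M → Pnc L M N → Pnc (ψ L) (ψ M) (ψ N)

namespace LM
variable {φ ψ : Submodule F (ι → F) → Submodule F (ι → F)}

lemma symm (M : LM Q B φ ψ) : LM Q B ψ φ :=
  ⟨M.ln', M.ln, M.rl, M.lr, M.cm', M.cm, M.ad', M.ad, M.pn', M.pn⟩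

lemma inj (M : LM Q B φ ψ) {L N : Submodule F (ι → F)} (hL : IsLn Q L) (hN : IsLn Q N) (e : φ L = φ N) : L = N := by
  rw [← M.lr L hL, e, M.lr N hN]

end LM

/-- the source configuration, first step -/
lemma src1 (h : QF Q B) {a b c : ι → F} {n : Submodule F (ι → F)} (Qa : Q a = 0) (Qb : Q b = 0) (Qc : Q c = 0)
    (Bab : B a b = 0) (Bac : B a c = 0) (Bbc : B b c = 0) (hI : Ind3 a b c) (hn : IsLn Q n)
    (m0 : Meet n (sp a b)) (p0 : Prp B n (sp a b)) (m1 : Meet n (sp a c)) (p1 : Prp B n (sp a c))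
    (nad : ¬ (Meet n (sp b c) ∧ Prp B n (sp b c))) :
    a ∈ n ∧ ∃ d ∈ n, Ind4 a b c d ∧ n = sp a d := by
  have Bba : B b a = 0 := by rw [h.symm]; exact Bab
  have Bca : B c a = 0 := by rw [h.symm]; exact Bac
  have Bcb : B c b = 0 := by rw [h.symm]; exact Bbc
  have Baa := Buu h Qa
  have Bbb := Buu h Qb
  have Bcc := Buu h Qc
  have Ha : a ∈ n := by
    by_contra hna
    obtain ⟨x, hx0, hxn, hxL⟩ := m0
    obtain ⟨y, hy0, hyn, hyL⟩ := m1
    rw [Submodule.mem_span_pair] at hxL hyL
    obtain ⟨α, β, rfl⟩ := hxL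
    obtain ⟨γ, δ, rfl⟩ := hyL
    have hβ : β ≠ 0 := by
      rintro rfl
      apply hna
      have : α ≠ 0 := by
        rintro rfl
        simp at hx0
      have e : a = α⁻¹ • (α • a + (0 : F) • b) := by
        rw [zero_smul, add_zero, smul_smul, inv_mul_cancel₀ this, one_smul]
      rw [e]
      exact n.smul_mem _ hxn
    have hδ : δ ≠ 0 := by
      rintro rfl
      apply hna
      have : γ ≠ 0 := by
        rintro rfl
        simp at hy0
      have e : a = γ⁻¹ • (γ • a + (0 : F) • c) := by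
        rw [zero_smul, add_zero, smul_smul, inv_mul_cancel₀ this, one_smul]
      rw [e]
      exact n.smul_mem _ hyn
    have hI2 : Ind2 (α • a + β • b) (γ • a + δ • c) := by
      intro s t e
      have e1 := hI (s * α + t * γ) (s * β) (t * δ) (by
        rw [← e]
        funext i
        simp only [Pi.add_apply, Pi.smul_apply, smul_eq_mul]
        ring)
      have e2 : s = 0 := (mul_eq_zero.1 e1.2.1).resolve_right hβ
      have e3 : t = 0 := (mul_eq_zero.1 e1.2.2).resolve_right hδ
      exact ⟨e2, e3⟩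
    have hne := hn.eq_sp hxn hyn hI2
    apply nad
    constructor
    · by_cases hz : γ • (α • a + β • b) - α • (γ • a + δ • c) = 0
      · have e1 := hI 0 (γ * β) (-(α * δ)) (by
          rw [← hz]
          funext i
          simp only [Pi.add_apply, Pi.sub_apply, Pi.smul_apply, smul_eq_mul, Pi.zero_apply]
          ring)
        have eγ : γ = 0 := (mul_eq_zero.1 e1.2.1).resolve_right hβ
        have eα : α = 0 := by
          have := neg_eq_zero.1 e1.2.2
          exact (mul_eq_zero.1 this).resolve_right hδ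
        subst eγ eα
        refine ⟨(0 : F) • a + β • b, hx0, hxn, ?_⟩
        rw [Submodule.mem_span_pair]
        exact ⟨β, 0, by simp⟩
      · refine ⟨_, hz, n.sub_mem (n.smul_mem _ hxn) (n.smul_mem _ hyn), ?_⟩
        rw [Submodule.mem_span_pair]
        refine ⟨γ * β, -(α * δ), ?_⟩
        funext i
        simp only [Pi.add_apply, Pi.sub_apply, Pi.smul_apply, smul_eq_mul]
        ring
    · rw [hne]
      apply prp_sp h
      · simp only [h.add_left, h.smul_left, Bab, Bbb]; ring
      · simp only [h.add_left, h.smul_left, Bac, Bbc]; ring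
      · simp only [h.add_left, h.smul_left, Bab, Bcb]; ring
      · simp only [h.add_left, h.smul_left, Bac, Bcc]; ring
  refine ⟨Ha, ?_⟩
  have ha0 : a ≠ 0 := by
    rintro rfl
    have := hI 1 0 0 (by simp)
    exact one_ne_zero this.1
  obtain ⟨d, hd, hI2, hnd⟩ := hn.exists_sp Ha ha0
  refine ⟨d, hd, ?_, hnd⟩
  intro r s t u e
  have hu : u = 0 := by
    by_contra hu
    apply nad
    -- `d` lies in the plane
    have ed : d = (-(u⁻¹ * r)) • a + (-(u⁻¹ * s)) • b + (-(u⁻¹ * t)) • c := by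
      have e2 : u • d = - (r • a + s • b + t • c) := eq_neg_of_add_eq_zero_right e
      calc d = u⁻¹ • (u • d) := by rw [smul_smul, inv_mul_cancel₀ hu, one_smul]
        _ = _ := by
          rw [e2]
          funext i
          simp only [Pi.add_apply, Pi.neg_apply, Pi.smul_apply, smul_eq_mul]
          ring
    constructor
    · refine ⟨d + (u⁻¹ * r) • a, ?_, n.add_mem hd (n.smul_mem _ Ha), ?_⟩
      · intro e0
        have := hI2 (u⁻¹ * r) 1 (by rw [one_smul, add_comm]; exact e0)
        exact one_ne_zero this.2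
      · rw [Submodule.mem_span_pair]
        refine ⟨-(u⁻¹ * s), -(u⁻¹ * t), ?_⟩
        conv_rhs => rw [ed]
        funext i
        simp only [Pi.add_apply, Pi.smul_apply, smul_eq_mul]
        ring
    · rw [hnd, ed]
      apply prp_sp h
      · exact Bab
      · exact Bac
      · simp only [h.add_left, h.smul_left, Bab, Bbb, Bcb]; ring
      · simp only [h.add_left, h.smul_left, Bac, Bbc, Bcc]; ring
  subst hu
  rw [zero_smul, add_zero] at e
  have := hI r s t e
  exact ⟨this.1, this.2.1, this.2.2, rfl⟩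

/-- the source configuration, second step -/
lemma src2 {a b c d : ι → F} {N : Submodule F (ι → F)} (hI : Ind4 a b c d) (hN : IsLn Q N)
    (m0 : Meet N (sp a b)) (m1 : Meet N (sp a d)) (m2 : Meet N (sp b c)) :
    (a ∈ N ∧ N ≤ Submodule.span F {a, b, c}) ∨ (b ∈ N ∧ N ≤ Submodule.span F {a, b, d}) := by
  obtain ⟨x, hx0, hxn, hxL⟩ := m0
  obtain ⟨y, hy0, hyn, hyL⟩ := m1
  obtain ⟨w, hw0, hwn, hwL⟩ := m2
  rw [Submodule.mem_span_pair] at hxL hyL hwL
  obtain ⟨α, β, rfl⟩ := hxL
  obtain ⟨γ, δ, rfl⟩ := hyL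
  obtain ⟨ε, ζ, rfl⟩ := hwL
  by_cases Ha : a ∈ N
  · left
    refine ⟨Ha, ?_⟩
    have hI2 : Ind2 a (ε • b + ζ • c) := by
      intro s t e
      have e1 := hI s (t * ε) (t * ζ) 0 (by
        rw [← e]
        funext i
        simp only [Pi.add_apply, Pi.smul_apply, smul_eq_mul, Pi.zero_apply]
        ring)
      refine ⟨e1.1, ?_⟩
      by_contra ht
      have e2 : ε = 0 := (mul_eq_zero.1 e1.2.1).resolve_left ht
      have e3 : ζ = 0 := (mul_eq_zero.1 e1.2.2.1).resolve_left ht
      subst e2 e3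
      simp at hw0
    rw [hN.eq_sp Ha hwn hI2, Submodule.span_le]
    rintro z (rfl | rfl)
    · exact Submodule.subset_span (by simp)
    · rw [SetLike.mem_coe, Submodule.mem_span_triple]
      exact ⟨0, ε, ζ, by simp⟩
  · right
    have hβ : β ≠ 0 := by
      rintro rfl
      apply Ha
      have : α ≠ 0 := by
        rintro rfl
        simp at hx0
      have e : a = α⁻¹ • (α • a + (0 : F) • b) := by
        rw [zero_smul, add_zero, smul_smul, inv_mul_cancel₀ this, one_smul]
      rw [e]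
      exact N.smul_mem _ hxn
    have hδ : δ ≠ 0 := by
      rintro rfl
      apply Ha
      have : γ ≠ 0 := by
        rintro rfl
        simp at hy0
      have e : a = γ⁻¹ • (γ • a + (0 : F) • d) := by
        rw [zero_smul, add_zero, smul_smul, inv_mul_cancel₀ this, one_smul]
      rw [e]
      exact N.smul_mem _ hyn
    have hI2 : Ind2 (α • a + β • b) (γ • a + δ • d) := by
      intro s t e
      have e1 := hI (s * α + t * γ) (s * β) 0 (t * δ) (by
        rw [← e]
        funext i
        simp only [Pi.add_apply, Pi.smul_apply, smul_eq_mul, Pi.zero_apply]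
        ring)
      exact ⟨(mul_eq_zero.1 e1.2.1).resolve_right hβ, (mul_eq_zero.1 e1.2.2.2).resolve_right hδ⟩
    have hNe := hN.eq_sp hxn hyn hI2
    have hle : N ≤ Submodule.span F {a, b, d} := by
      rw [hNe, Submodule.span_le]
      rintro z (rfl | rfl)
      · rw [SetLike.mem_coe, Submodule.mem_span_triple]
        exact ⟨α, β, 0, by simp⟩
      · rw [SetLike.mem_coe, Submodule.mem_span_triple]
        exact ⟨γ, 0, δ, by simp⟩
    refine ⟨?_, hle⟩
    have hw := hwn
    rw [hNe, Submodule.mem_span_pair] at hw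
    obtain ⟨s, t, e⟩ := hw
    have e1 := hI (s * α + t * γ) (s * β - ε) (-ζ) (t * δ) (by
      funext i
      have := congrFun e i
      simp only [Pi.add_apply, Pi.smul_apply, smul_eq_mul, Pi.zero_apply] at this ⊢
      linear_combination this)
    have eζ : ζ = 0 := neg_eq_zero.1 e1.2.2.1
    subst eζ
    have hε : ε ≠ 0 := by
      rintro rfl
      simp at hw0
    have e' : b = ε⁻¹ • (ε • b + (0 : F) • c) := by
      rw [zero_smul, add_zero, smul_smul, inv_mul_cancel₀ hε, one_smul]
    rw [e']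
    exact N.smul_mem _ hwn

omit [Fintype ι] in
lemma finrank_sp3_le (a b c : ι → F) [Fintype ι] : Module.finrank F (Submodule.span F {a, b, c}) ≤ 3 := by
  have e : Submodule.span F ({a, b, c} : Set (ι → F)) = Submodule.span F (Set.range ![a, b, c]) := by
    congr 1
    ext z
    constructor
    · rintro (rfl | rfl | rfl)
      · exact ⟨0, rfl⟩
      · exact ⟨1, rfl⟩
      · exact ⟨2, rfl⟩
    · rintro ⟨i, rfl⟩
      fin_cases i
      · exact Or.inl rfl
      · exact Or.inr (Or.inl rfl)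
      · exact Or.inr (Or.inr rfl)
  rw [e]
  have := finrank_range_le_card (R := F) ![a, b, c]
  simpa [Set.finrank] using this

/-- two distinct lines through a point in a plane span it -/
lemma le_sup_of_lines {S N N' : Submodule F (ι → F)} (hS : Module.finrank F S ≤ 3) (hN : IsLn Q N) (hN' : IsLn Q N')
    (hne : N ≠ N') (h1 : N ≤ S) (h2 : N' ≤ S) : S ≤ N ⊔ N' := by
  have hlt : N ⊓ N' < N := by
    apply lt_of_le_of_ne inf_le_left
    intro e
    exact hne (hN.eq_of_le hN' (inf_eq_left.1 e))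
  have h3 := Submodule.finrank_lt_finrank_of_lt hlt
  have h4 := Submodule.finrank_sup_add_finrank_inf_eq N N'
  rw [hN.rk] at h3
  rw [hN.rk, hN'.rk] at h4
  have hle : N ⊔ N' ≤ S := sup_le h1 h2
  have h5 : Module.finrank F S ≤ Module.finrank F (N ⊔ N' : Submodule F (ι → F)) := by omega
  exact (Submodule.eq_of_le_of_finrank_le hle h5).ge

end Cfsg.Agent.H01.Om
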