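import Cfsg.Agent.Lib.H01.OmSign
/-! The index of the Siegel subgroup in the orthogonal group. -/
set_option autoImplicit false
set_option linter.unusedSimpArgs false
set_option linter.style.haveILetI false
set_option linter.unusedSectionVars false
set_option linter.unusedVariables false
namespace Cfsg.Agent.H01.Om
open Matrix Cfsg.Agent.Lead.Ortho Cfsg.Agent.Lead.Omega
open scoped commutatorElement

variable {F : Type*} [Field F] [Fintype F] {ι : Type} [Fintype ι] [DecidableEq ι]
variable {Q : (ι → F) → F} {B : (ι → F) → (ι → F) → F}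

/-- closure of the four elements -/
lemma four_closed {G : Type*} [Group G] (hc : ∀ x y : G, x * y = y * x) {r s : G} (hr : r * r = 1) (hs : s * s = 1) :
    ∀ x y, x ∈ ({1, r, s, r * s} : Set G) → y ∈ ({1, r, s, r * s} : Set G) → x * y ∈ ({1, r, s, r * s} : Set G) := by
  have e1 : r * (r * s) = s := by rw [← mul_assoc, hr, one_mul]
  have e2 : s * (r * s) = r := by rw [hc r s, ← mul_assoc, hs, one_mul]
  have e3 : r * s * r = s := by rw [hc, e1]
  have e4 : r * s * s = r := by rw [mul_assoc, hs, mul_one]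
  have e5 : r * s * (r * s) = 1 := by rw [mul_assoc, e2, hr]
  have e6 : s * r = r * s := hc s r
  rintro x y (rfl | rfl | rfl | rfl) (rfl | rfl | rfl | rfl) <;>
    simp [hr, hs, e1, e2, e3, e4, e5, e6]

lemma four_inv {G : Type*} [Group G] (hc : ∀ x y : G, x * y = y * x) {r s : G} (hr : r * r = 1) (hs : s * s = 1) :
    ∀ x, x ∈ ({1, r, s, r * s} : Set G) → x⁻¹ ∈ ({1, r, s, r * s} : Set G) := by
  have e2 : s * (r * s) = r := by rw [hc r s, ← mul_assoc, hs, one_mul]
  have e5 : r * s * (r * s) = 1 := by rw [mul_assoc, e2, hr]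
  have i1 : r⁻¹ = r := inv_eq_of_mul_eq_one_left hr
  have i2 : s⁻¹ = s := inv_eq_of_mul_eq_one_left hs
  have i3 : (r * s)⁻¹ = r * s := inv_eq_of_mul_eq_one_left e5
  rintro x (rfl | rfl | rfl | rfl) <;> simp [i1, i2, i3]

/-- the two square classes -/
lemma square_class [DecidableEq F] {x y z : F} (hx : x ≠ 0) (hy : y ≠ 0) (hz : z ≠ 0) (hns : ¬ IsSquare (x * y)) :
    IsSquare (z * x) ∨ IsSquare (z * y) := by
  have hxy := mul_ne_zero hx hy
  have h1 : quadraticChar F (x * y) = -1 := by
    rcases quadraticChar_dichotomy hxy with h | h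
    · exact absurd ((quadraticChar_one_iff_isSquare hxy).1 h) hns
    · exact h
  rw [map_mul] at h1
  rcases quadraticChar_dichotomy hx with a | a <;> rcases quadraticChar_dichotomy hy with b | b <;>
    rcases quadraticChar_dichotomy hz with c | c <;> rw [a, b] at h1 <;> try norm_num at h1
  · left
    rw [← quadraticChar_one_iff_isSquare (mul_ne_zero hz hx), map_mul, a, c]
    norm_num
  · right
    rw [← quadraticChar_one_iff_isSquare (mul_ne_zero hz hy), map_mul, b, c]
    norm_num
  · right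
    rw [← quadraticChar_one_iff_isSquare (mul_ne_zero hz hy), map_mul, b, c]
    norm_num
  · left
    rw [← quadraticChar_one_iff_isSquare (mul_ne_zero hz hx), map_mul, a, c]
    norm_num

lemma eq_sq_mul {z x : F} (hz : z ≠ 0) (hx : x ≠ 0) (H : IsSquare (z * x)) : ∃ d : F, d ≠ 0 ∧ z = d ^ 2 * x := by
  obtain ⟨e, he⟩ := H
  refine ⟨e / x, ?_, ?_⟩
  · apply div_ne_zero _ hx
    rintro rfl
    rw [zero_mul] at he
    exact mul_ne_zero hz hx he
  · field_simp
    linear_combination he

section Index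
variable (h : QF Q B)

include h in
lemma R_scale {a : ι → F} {d : F} (hd : d ≠ 0) (ha : Q a ≠ 0) (ha' : Q (d • a) ≠ 0) : R h (d • a) ha' = R h a ha := by
  apply og_ext
  intro x
  rw [act_R, act_R, h.smul_right, h.smul, smul_smul]
  congr 2
  field_simp

variable (hnd : ND B (⊤ : Submodule F (ι → F))) {m' : ℕ} {t₀ : Fin (m' + 1 + 1) → (ι → F) × (ι → F)}
  (ht₀ : IsHF Q B t₀) (hm : 1 ≤ m') (hanis : ∀ w ∈ perpOf h t₀, Q w = 0 → w = 0)

include h ht₀ in
/-- reflections with norms in the same square class agree modulo `SS` -/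
lemma R_class {a a' : ι → F} (haX : a ∈ perpOf h (Fin.tail t₀)) (haX' : a' ∈ perpOf h (Fin.tail t₀)) (ha : Q a ≠ 0)
    (ha' : Q a' ≠ 0) {d : F} (hd : d ≠ 0) (e : Q a' = d ^ 2 * Q a) : R h a' ha' * R h a ha ∈ SS h := by
  obtain ⟨h1, -⟩ := cons_tail_HF h ht₀
  obtain ⟨-, -, -, hpu, hpv, hpuv⟩ := cons_tail_HF h h1
  have e1 : Q (d • a) = Q a' := by rw [h.smul, e]
  have e2 : Q (d • a) ≠ 0 := by rw [e1]; exact ha'
  have hb := haX 0
  have hb' := haX' 0
  have e3 := R_equiv h hpu hpv hpuv (a := d • a) (a' := a') (by rw [h.smul_left, hb.1, mul_zero]) (by rw [h.smul_left, hb.2, mul_zero])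
    hb'.1 hb'.2 e2 ha' e1.symm
  rwa [R_scale h hd ha e2] at e3

include hnd ht₀ hm hanis in
/-- The quotient by `SS` has order four, given separating data. -/
theorem index_four {a₁ a₂ : ι → F} (h1 : a₁ ∈ perpOf h (Fin.tail t₀)) (h2 : a₂ ∈ perpOf h (Fin.tail t₀)) (ha₁ : Q a₁ ≠ 0)
    (ha₂ : Q a₂ ≠ 0) (hns : ¬ IsSquare (Q a₁ * Q a₂)) (χ : OG F Q →* ℤˣ) (hχ : χ (R h a₁ ha₁) ≠ χ (R h a₂ ha₂)) :
    Nat.card (OG F Q) = 4 * Nat.card (SS h) := by
  classical
  haveI : (SS h).Normal := SS_normal h
  have hcomm : ∀ x y : OG F Q ⧸ SS h, x * y = y * x := by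
    intro x y
    obtain ⟨x, rfl⟩ := QuotientGroup.mk_surjective x
    obtain ⟨y, rfl⟩ := QuotientGroup.mk_surjective y
    rw [← QuotientGroup.mk_mul, ← QuotientGroup.mk_mul, QuotientGroup.eq]
    apply comm_le_SS h hnd ht₀ hanis
    have e : (x * y)⁻¹ * (y * x) = ⁅y⁻¹, x⁻¹⁆ := by
      simp only [commutatorElement_def]
      group
    rw [e, commutator_def]
    exact Subgroup.commutator_mem_commutator (Subgroup.mem_top _) (Subgroup.mem_top _)
  let π := QuotientGroup.mk' (SS h)
  obtain ⟨r₁, hr₁⟩ : ∃ r, r = π (R h a₁ ha₁) := ⟨_, rfl⟩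
  obtain ⟨r₂, hr₂⟩ : ∃ r, r = π (R h a₂ ha₂) := ⟨_, rfl⟩
  have r11 : r₁ * r₁ = 1 := by rw [hr₁, ← map_mul, R_mul_self, map_one]
  have r22 : r₂ * r₂ = 1 := by rw [hr₂, ← map_mul, R_mul_self, map_one]
  let T : Subgroup (OG F Q ⧸ SS h) :=
    { carrier := {1, r₁, r₂, r₁ * r₂}
      mul_mem' := fun {x y} hx hy => four_closed hcomm r11 r22 x y hx hy
      one_mem' := by simp
      inv_mem' := fun {x} hx => four_inv hcomm r11 r22 x hx }
  have hgen : ∀ g : OG F Q, π g ∈ T := by
    intro g
    have hle : SS h ⊔ RS h (perpOf h (Fin.tail t₀)) ≤ T.comap π := by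
      apply sup_le
      · intro x hx
        have e : π x = 1 := (QuotientGroup.eq_one_iff x).2 hx
        change π x ∈ T
        rw [e]
        exact T.one_mem
      · rw [RS, Subgroup.closure_le]
        rintro _ ⟨a, ha, haX, rfl⟩
        rcases square_class ha₁ ha₂ ha hns with H | H
        · obtain ⟨d, hd, e⟩ := eq_sq_mul ha ha₁ H
          have e2 := R_class h ht₀ h1 haX ha₁ ha hd e
          have e3 : π (R h a ha) = r₁ := by
            rw [hr₁]
            have e4 : π (R h a ha * R h a₁ ha₁) = 1 := (QuotientGroup.eq_one_iff _).2 e2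
            rw [map_mul] at e4
            have e5 : π (R h a₁ ha₁) * π (R h a₁ ha₁) = 1 := by rw [← map_mul, R_mul_self, map_one]
            exact mul_right_cancel (e4.trans e5.symm)
          change π (R h a ha) ∈ T
          rw [e3]
          change r₁ ∈ ({1, r₁, r₂, r₁ * r₂} : Set _)
          simp
        · obtain ⟨d, hd, e⟩ := eq_sq_mul ha ha₂ H
          have e2 := R_class h ht₀ h2 haX ha₂ ha hd e
          have e3 : π (R h a ha) = r₂ := by
            rw [hr₂]
            have e4 : π (R h a ha * R h a₂ ha₂) = 1 := (QuotientGroup.eq_one_iff _).2 e2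
            rw [map_mul] at e4
            have e5 : π (R h a₂ ha₂) * π (R h a₂ ha₂) = 1 := by rw [← map_mul, R_mul_self, map_one]
            exact mul_right_cancel (e4.trans e5.symm)
          change π (R h a ha) ∈ T
          rw [e3]
          change r₂ ∈ ({1, r₁, r₂, r₁ * r₂} : Set _)
          simp
    apply hle
    exact all_good h hnd ht₀ hanis g
  have hmk : (m' + 1 + 1 : ℕ) > 2 := by omega
  have n1 : r₁ ≠ 1 := by
    intro e
    rw [hr₁] at e
    exact R_not_mem_SS h hnd ht₀ hmk ha₁ ((QuotientGroup.eq_one_iff _).1 e)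
  have n2 : r₂ ≠ 1 := by
    intro e
    rw [hr₂] at e
    exact R_not_mem_SS h hnd ht₀ hmk ha₂ ((QuotientGroup.eq_one_iff _).1 e)
  have n3 : r₁ ≠ r₂ := by
    intro e
    rw [hr₁, hr₂] at e
    have e1 : (R h a₁ ha₁)⁻¹ * R h a₂ ha₂ ∈ SS h := QuotientGroup.eq.1 e
    have e2 : SS h ≤ χ.ker := by
      rw [← omega_eq_SS h hnd ht₀ hm hanis]
      exact Abelianization.commutator_subset_ker χ
    have e3 := e2 e1
    rw [MonoidHom.mem_ker, map_mul, map_inv] at e3
    apply hχ
    exact (inv_mul_eq_one.1 e3)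
  have hcard : Nat.card (OG F Q ⧸ SS h) = 4 := by
    haveI : Fintype (OG F Q ⧸ SS h) := Fintype.ofFinite _
    rw [Nat.card_eq_fintype_card, ← Finset.card_univ]
    have e1 : (Finset.univ : Finset (OG F Q ⧸ SS h)) = {1, r₁, r₂, r₁ * r₂} := by
      ext x
      obtain ⟨g, rfl⟩ := QuotientGroup.mk_surjective x
      simp only [Finset.mem_univ, Finset.mem_insert, Finset.mem_singleton, true_iff]
      exact hgen g
    rw [e1, Finset.card_insert_of_notMem, Finset.card_insert_of_notMem, Finset.card_insert_of_notMem,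
      Finset.card_singleton]
    · simp only [Finset.mem_singleton]
      intro e
      apply n1
      have := e
      nth_rewrite 1 [← mul_one r₂] at this
      rw [hcomm r₁ r₂] at this
      exact (mul_left_cancel this).symm
    · simp only [Finset.mem_insert, Finset.mem_singleton, not_or]
      refine ⟨n3, ?_⟩
      intro e
      apply n2
      nth_rewrite 1 [← mul_one r₁] at e
      exact (mul_left_cancel e).symm
    · simp only [Finset.mem_insert, Finset.mem_singleton, not_or]
      refine ⟨n1.symm, n2.symm, ?_⟩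
      intro e
      apply n3
      have e2 : r₁ * (r₁ * r₂) = r₂ := by rw [← mul_assoc, r11, one_mul]
      rw [← e, mul_one] at e2
      exact e2
  rw [Subgroup.card_eq_card_quotient_mul_card_subgroup (SS h), hcard]

include hnd ht₀ hm hanis in
/-- The quotient by `SS` has order two in characteristic two. -/
theorem index_two (h2 : (2 : F) = 0) {a₁ : ι → F} (h1 : a₁ ∈ perpOf h (Fin.tail t₀)) (ha₁ : Q a₁ ≠ 0) :
    Nat.card (OG F Q) = 2 * Nat.card (SS h) := by
  classical
  haveI : (SS h).Normal := SS_normal h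
  let π := QuotientGroup.mk' (SS h)
  obtain ⟨r₁, hr₁⟩ : ∃ r, r = π (R h a₁ ha₁) := ⟨_, rfl⟩
  have r11 : r₁ * r₁ = 1 := by rw [hr₁, ← map_mul, R_mul_self, map_one]
  have hinv : r₁⁻¹ = r₁ := inv_eq_of_mul_eq_one_left r11
  let T : Subgroup (OG F Q ⧸ SS h) :=
    { carrier := {1, r₁}
      mul_mem' := fun {x y} hx hy => by
        rcases hx with rfl | rfl <;> rcases hy with rfl | rfl <;> simp [r11]
      one_mem' := by simp
      inv_mem' := fun {x} hx => by
        rcases hx with rfl | rfl <;> simp [hinv] }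
  have hsq : ∀ z : F, IsSquare z := by
    intro z
    obtain ⟨y, hy⟩ := Finite.surjective_of_injective (f := fun x : F => x ^ 2) (by
      intro a b e
      have e1 : (a - b) ^ 2 = 0 := by
        have : (a - b) ^ 2 = a ^ 2 + b ^ 2 - 2 * (a * b) := by ring
        rw [this, h2, zero_mul, sub_zero]
        change a ^ 2 = b ^ 2 at e
        rw [e]
        linear_combination b ^ 2 * h2
      exact sub_eq_zero.1 (pow_eq_zero_iff (two_ne_zero) |>.1 e1)) z
    exact ⟨y, by rw [← hy]; ring⟩
  have hgen : ∀ g : OG F Q, π g ∈ T := by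
    intro g
    have hle : SS h ⊔ RS h (perpOf h (Fin.tail t₀)) ≤ T.comap π := by
      apply sup_le
      · intro x hx
        have e : π x = 1 := (QuotientGroup.eq_one_iff x).2 hx
        change π x ∈ T
        rw [e]
        exact T.one_mem
      · rw [RS, Subgroup.closure_le]
        rintro _ ⟨a, ha, haX, rfl⟩
        obtain ⟨d, hd, e⟩ := eq_sq_mul ha ha₁ (hsq _)
        have e2 := R_class h ht₀ h1 haX ha₁ ha hd e
        have e3 : π (R h a ha) = r₁ := by
          rw [hr₁]
          have e4 : π (R h a ha * R h a₁ ha₁) = 1 := (QuotientGroup.eq_one_iff _).2 e2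
          rw [map_mul] at e4
          have e5 : π (R h a₁ ha₁) * π (R h a₁ ha₁) = 1 := by rw [← map_mul, R_mul_self, map_one]
          exact mul_right_cancel (e4.trans e5.symm)
        change π (R h a ha) ∈ T
        rw [e3]
        change r₁ ∈ ({1, r₁} : Set _)
        simp
    apply hle
    exact all_good h hnd ht₀ hanis g
  have hmk : (m' + 1 + 1 : ℕ) > 2 := by omega
  have n1 : r₁ ≠ 1 := by
    intro e
    rw [hr₁] at e
    exact R_not_mem_SS h hnd ht₀ hmk ha₁ ((QuotientGroup.eq_one_iff _).1 e)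
  have hcard : Nat.card (OG F Q ⧸ SS h) = 2 := by
    haveI : Fintype (OG F Q ⧸ SS h) := Fintype.ofFinite _
    rw [Nat.card_eq_fintype_card, ← Finset.card_univ]
    have e1 : (Finset.univ : Finset (OG F Q ⧸ SS h)) = {1, r₁} := by
      ext x
      obtain ⟨g, rfl⟩ := QuotientGroup.mk_surjective x
      simp only [Finset.mem_univ, Finset.mem_insert, Finset.mem_singleton, true_iff]
      exact hgen g
    rw [e1, Finset.card_insert_of_notMem, Finset.card_singleton]
    simp only [Finset.mem_singleton]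
    exact n1.symm
  rw [Subgroup.card_eq_card_quotient_mul_card_subgroup (SS h), hcard]

end Index

end Cfsg.Agent.H01.Om
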