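import Cfsg.Agent.Lib.H01.OmIdx
/-! The index of `Ω` in the orthogonal group in odd dimension. -/
set_option autoImplicit false
set_option linter.unusedSimpArgs false
set_option linter.style.haveILetI false
set_option linter.unusedSectionVars false
set_option linter.unusedVariables false
namespace Cfsg.Agent.H01.Om
open Matrix Cfsg.Agent.Lead.Ortho Cfsg.Agent.Lead.Omega

variable {F : Type*} [Field F] [Fintype F]

lemma perp_coord_odd {m : ℕ} {w : Unit ⊕ (Fin m ⊕ Fin m) → F} (hw : w ∈ perpOf (qfOdd m) (frameOdd m F)) :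
    (∀ i, w (.inr (.inl i)) = 0) ∧ ∀ i, w (.inr (.inr i)) = 0 := by
  constructor
  · intro i
    have := (hw i).2
    simp only [frameOdd] at this
    rw [polarOdd_inr] at this
    exact this
  · intro i
    have := (hw i).1
    simp only [frameOdd] at this
    rw [polarOdd_inl] at this
    exact this

lemma Q_perp_odd {m : ℕ} {w : Unit ⊕ (Fin m ⊕ Fin m) → F} (hw : w ∈ perpOf (qfOdd m) (frameOdd m F)) :
    Cfsg.quadFormOdd m F w = w (.inl ()) ^ 2 := by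
  obtain ⟨e1, e2⟩ := perp_coord_odd hw
  simp only [Cfsg.quadFormOdd, e1, e2, zero_mul, Finset.sum_const_zero, add_zero]

lemma exists_nonsq (hodd : Odd (Fintype.card F)) : ∃ ν : F, ¬ IsSquare ν := by
  classical
  have h2 : (2 : F) ≠ 0 := two_ne_zero_of_odd rfl hodd
  apply FiniteField.exists_nonsquare
  intro e
  apply h2
  have := CharP.cast_eq_zero F (ringChar F)
  rw [e] at this
  exact_mod_cast this

/-- **`Ω` has index four in the orthogonal group of odd dimension.** -/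
theorem card_og_odd (hodd : Odd (Fintype.card F)) {m : ℕ} (hm : 3 ≤ m) :
    Nat.card (OG F (Cfsg.quadFormOdd m F)) = 4 * Nat.card (SS (qfOdd (F := F) m)) := by
  classical
  obtain ⟨m', rfl⟩ : ∃ m', m = m' + 1 + 1 := ⟨m - 2, by omega⟩
  have hm' : 1 ≤ m' := by omega
  have h2 : (2 : F) ≠ 0 := two_ne_zero_of_odd rfl hodd
  have h := qfOdd (F := F) (m' + 1 + 1)
  have hnd := ndOdd (F := F) (m' + 1 + 1) h2
  have ht₀ := frameOdd_HF (F := F) (m' + 1 + 1)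
  have hanis := frameOdd_anis (F := F) (m' + 1 + 1)
  have hs := fun x y => h.symm x y
  obtain ⟨ht, hu, hv, Qu, Qv, Buv⟩ := cons_tail_HF h ht₀
  obtain ⟨u, hu'⟩ : ∃ u, u = (frameOdd (m' + 1 + 1) F 0).1 := ⟨_, rfl⟩
  obtain ⟨v, hv'⟩ : ∃ v, v = (frameOdd (m' + 1 + 1) F 0).2 := ⟨_, rfl⟩
  rw [← hu'] at hu Qu Buv
  rw [← hv'] at hv Qv Buv
  obtain ⟨ν, hν⟩ := exists_nonsq hodd
  have hν0 : ν ≠ 0 := by
    rintro rfl
    exact hν (IsSquare.zero)
  obtain ⟨e₀, he₀⟩ : ∃ e₀ : Unit ⊕ (Fin (m' + 1 + 1) ⊕ Fin (m' + 1 + 1)) → F, e₀ = Pi.single (.inl ()) 1 := ⟨_, rfl⟩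
  have Qe₀ : Cfsg.quadFormOdd (m' + 1 + 1) F e₀ = 1 := by
    rw [he₀]
    simp [Cfsg.quadFormOdd, Pi.single_apply]
  have he₀p : e₀ ∈ perpOf h (frameOdd (m' + 1 + 1) F) := by
    intro i
    constructor
    · simp only [frameOdd]
      rw [polarOdd_inl, he₀]
      simp [Pi.single_apply]
    · simp only [frameOdd]
      rw [polarOdd_inr, he₀]
      simp [Pi.single_apply]
  have he₀X : e₀ ∈ perpOf h (Fin.tail (frameOdd (m' + 1 + 1) F)) := fun i => he₀p i.succ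
  obtain ⟨a₂, ha₂⟩ : ∃ a₂, a₂ = u + ν • v := ⟨_, rfl⟩
  have Qa₂ : Cfsg.quadFormOdd (m' + 1 + 1) F a₂ = ν := by
    rw [ha₂, h.add, h.smul, Qu, Qv, h.smul_right, Buv]
    ring
  have ha₂X : a₂ ∈ perpOf h (Fin.tail (frameOdd (m' + 1 + 1) F)) := by
    rw [ha₂]
    exact Submodule.add_mem _ hu (Submodule.smul_mem _ _ hv)
  have h10 : Cfsg.quadFormOdd (m' + 1 + 1) F e₀ ≠ 0 := by rw [Qe₀]; exact one_ne_zero
  have h20 : Cfsg.quadFormOdd (m' + 1 + 1) F a₂ ≠ 0 := by rw [Qa₂]; exact hν0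
  have he₀0 : e₀ ≠ 0 := by
    rintro e
    rw [e, h.Q_zero] at h10
    exact h10 rfl
  have ha₂0 : a₂ ≠ 0 := by
    rintro e
    rw [e, h.Q_zero] at h20
    exact h20 rfl
  refine index_four h hnd ht₀ hm' hanis he₀X ha₂X h10 h20 ?_ (chiS _ 1) ?_
  · rw [Qe₀, Qa₂, one_mul]
    exact hν
  refine chiS_sep h hnd ht h10 h20 he₀X ha₂X hodd 1 (w := -1) (by decide) ?_
  -- the first plane
  obtain ⟨W₁, hW₁⟩ : ∃ W₁, W₁ = LinearMap.ker (Lf h e₀) ⊓ perpOf h (Fin.tail (frameOdd (m' + 1 + 1) F)) := ⟨_, rfl⟩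
  obtain ⟨W₂, hW₂⟩ : ∃ W₂, W₂ = LinearMap.ker (Lf h a₂) ⊓ perpOf h (Fin.tail (frameOdd (m' + 1 + 1) F)) := ⟨_, rfl⟩
  rw [← hW₁, ← hW₂]
  have Bue : polarOdd (m' + 1 + 1) F u e₀ = 0 := by
    rw [hs, hu']
    exact (he₀p 0).1
  have Bve : polarOdd (m' + 1 + 1) F v e₀ = 0 := by
    rw [hs, hv']
    exact (he₀p 0).2
  have uW₁ : u ∈ W₁ := by
    rw [hW₁]
    exact ⟨Bue, hu⟩
  have vW₁ : v ∈ W₁ := by
    rw [hW₁]
    exact ⟨Bve, hv⟩
  have hP : perp2 h W₁ u v = ⊥ := by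
    rw [eq_bot_iff]
    rintro x ⟨hx1, hx2, hx3⟩
    rw [hW₁] at hx1
    obtain ⟨hx4, hx5⟩ := hx1
    have hxp : x ∈ perpOf h (frameOdd (m' + 1 + 1) F) := by
      rw [perpOf_eq_cons h]
      refine ⟨hx5, ?_, ?_⟩
      · rw [← hu']
        exact hx2
      · rw [← hv']
        exact hx3
    have hx6 : polarOdd (m' + 1 + 1) F x e₀ = 0 := hx4
    have e1 : x (.inl ()) = 0 := by
      obtain ⟨e2, e3⟩ := perp_coord_odd hxp
      rw [he₀] at hx6
      simp only [polarOdd, e2, e3, Pi.single_apply] at hx6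
      simpa [h2] using hx6
    apply hanis x hxp
    rw [Q_perp_odd hxp, e1]
    simp
  have c1 := cnt_rec h uW₁ vW₁ Qu Qv Buv 1
  have c2 := card_pair h uW₁ vW₁ Qu Qv Buv
  have hbot : cntS (Cfsg.quadFormOdd (m' + 1 + 1) F) (⊥ : Submodule F _) 1 = 0 := by
    unfold cntS
    have : IsEmpty {x : Unit ⊕ (Fin (m' + 1 + 1) ⊕ Fin (m' + 1 + 1)) → F // x ∈ (⊥ : Submodule F _) ∧ Cfsg.quadFormOdd (m' + 1 + 1) F x = 1} := by
      refine ⟨fun x => ?_⟩
      obtain ⟨x, hx, hx1⟩ := x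
      have : x = 0 := (Submodule.mem_bot F).1 hx
      rw [this, h.Q_zero] at hx1
      exact zero_ne_one hx1
    exact Nat.card_of_isEmpty
  have hbot2 : Nat.card ↥(⊥ : Submodule F (Unit ⊕ (Fin (m' + 1 + 1) ⊕ Fin (m' + 1 + 1)) → F)) = 1 := Nat.card_unique
  rw [hP, hbot, hbot2, mul_zero, mul_one, zero_add] at c1
  rw [hP, hbot2, mul_one] at c2
  -- the second plane
  have mema : ∀ (a : Unit ⊕ (Fin (m' + 1 + 1) ⊕ Fin (m' + 1 + 1)) → F), a ∈ perpOf h (Fin.tail (frameOdd (m' + 1 + 1) F)) →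
      ∀ i, (Fin.tail (frameOdd (m' + 1 + 1) F) i).1 ∈ LinearMap.ker (Lf h a) ∧ (Fin.tail (frameOdd (m' + 1 + 1) F) i).2 ∈ LinearMap.ker (Lf h a) := by
    intro a ha i
    rw [LinearMap.mem_ker, LinearMap.mem_ker, Lf_apply, Lf_apply, hs, hs (Fin.tail (frameOdd (m' + 1 + 1) F) i).2]
    exact ha i
  have hc := (card_ker h hnd ha₂0).trans (card_ker h hnd he₀0).symm
  obtain ⟨-, hc2⟩ := cnt_peel_frame h _ ht (mema a₂ ha₂X) (mema e₀ he₀X) hc 1
  rw [← hW₁, ← hW₂, c2] at hc2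
  have hani : ∀ x ∈ W₂, Cfsg.quadFormOdd (m' + 1 + 1) F x = 0 → x = 0 := by
    intro x hx Qx
    rw [hW₂] at hx
    obtain ⟨hx1, hx2⟩ := hx
    have hx3 : polarOdd (m' + 1 + 1) F x a₂ = 0 := hx1
    rw [ha₂, h.add_right, h.smul_right] at hx3
    obtain ⟨p, hp⟩ : ∃ p, p = polarOdd (m' + 1 + 1) F x v := ⟨_, rfl⟩
    obtain ⟨r, hr⟩ : ∃ r, r = polarOdd (m' + 1 + 1) F x u := ⟨_, rfl⟩
    rw [← hp, ← hr] at hx3
    obtain ⟨x', hx'⟩ : ∃ x', x' = x - p • u - r • v := ⟨_, rfl⟩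
    have Buu' : polarOdd (m' + 1 + 1) F u u = 0 := Buu h Qu
    have Bvv' : polarOdd (m' + 1 + 1) F v v = 0 := Buu h Qv
    have Bvu : polarOdd (m' + 1 + 1) F v u = 1 := by rw [hs]; exact Buv
    have e1 : polarOdd (m' + 1 + 1) F x' u = 0 := by
      rw [hx', h.sub_left, h.sub_left, h.smul_left, h.smul_left, ← hr, Buu', Bvu]
      ring
    have e2 : polarOdd (m' + 1 + 1) F x' v = 0 := by
      rw [hx', h.sub_left, h.sub_left, h.smul_left, h.smul_left, ← hp, Bvv', Buv]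
      ring
    have hx'p : x' ∈ perpOf h (frameOdd (m' + 1 + 1) F) := by
      rw [perpOf_eq_cons h]
      refine ⟨?_, ?_, ?_⟩
      · rw [hx']
        exact Submodule.sub_mem _ (Submodule.sub_mem _ hx2 (Submodule.smul_mem _ _ hu)) (Submodule.smul_mem _ _ hv)
      · rw [← hu']
        exact e1
      · rw [← hv']
        exact e2
    have e3 : x = p • u + r • v + x' := by
      rw [hx']
      abel
    have e4 := h.Q_pair Qu Qv Buv e1 e2 p r
    rw [← e3, Qx, Q_perp_odd hx'p] at e4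
    have e5 : r = - (ν * p) := by linear_combination hx3
    have hp0 : p = 0 := by
      by_contra hne
      apply hν
      refine ⟨x' (.inl ()) / p, ?_⟩
      field_simp
      rw [e5] at e4
      linear_combination e4
    have hr0 : r = 0 := by rw [e5, hp0, mul_zero, neg_zero]
    rw [hp0, zero_mul, zero_add] at e4
    have e6 : x' = 0 := hanis x' hx'p (by rw [Q_perp_odd hx'p, ← e4])
    rw [e3, hp0, hr0, e6]
    simp
  have c3 := cnt_eq h hc2 hani 1 one_ne_zero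
  rw [c1, c3]
  have hq : 1 ≤ Fintype.card F := Fintype.card_pos
  push_cast [Nat.cast_sub hq]
  ring

end Cfsg.Agent.H01.Om
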