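import Cfsg.Agent.Lib.H01.OmSyl2
import Cfsg.Prelude.Def_LieTypeDatum
/-! Automorphisms of `PΩ` induced by semisimilarities. -/
set_option autoImplicit false
set_option linter.unusedSimpArgs false
set_option linter.style.haveILetI false
set_option linter.unusedSectionVars false
set_option linter.unusedVariables false
namespace Cfsg.Agent.H01.Om
open Matrix Cfsg.Agent.Lead.Ortho Cfsg.Agent.Lead.Omega

variable {F : Type*} [Field F] [Fintype F] {ι : Type} [Fintype ι] [DecidableEq ι]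
variable {Q : (ι → F) → F} {B : (ι → F) → (ι → F) → F}
variable {m : ℕ} {t₀ : Fin m → (ι → F) × (ι → F)}

/-- automorphisms descend to the quotient by the centre -/
noncomputable def liftZ {H : Type*} [Group H] (e : MulAut H) : MulAut (H ⧸ Subgroup.center H) :=
  QuotientGroup.congr _ _ e (Subgroup.characteristic_iff_map_eq.mp inferInstance e)

@[simp] lemma liftZ_mk {H : Type*} [Group H] (e : MulAut H) (s : H) :
    liftZ e (s : H ⧸ Subgroup.center H) = ((e s : H) : H ⧸ Subgroup.center H) := rfl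

/-- coordinates under a field automorphism -/
def smap (σ : F ≃+* F) (x : ι → F) : ι → F := fun i => σ (x i)

omit [Fintype F] [Fintype ι] [DecidableEq ι] in
lemma smap_symm (σ : F ≃+* F) (x : ι → F) : smap σ (smap σ.symm x) = x := by
  funext i; simp [smap]

omit [Fintype F] [Fintype ι] [DecidableEq ι] in
lemma smap_symm' (σ : F ≃+* F) (x : ι → F) : smap σ.symm (smap σ x) = x := by
  funext i; simp [smap]

lemma map_mulVec_smap (σ : F ≃+* F) (M : Matrix ι ι F) (x : ι → F) :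
    (M.map σ) *ᵥ smap σ x = smap σ (M *ᵥ x) := by
  funext i
  simp only [Matrix.mulVec, dotProduct, smap, map_sum, map_mul, Matrix.map_apply]

/-- semisimilarity data for a matrix -/
structure SemiM (Q : (ι → F) → F) (g : GL ι F) (σ : F ≃+* F) (κ : F) : Prop where
  hκ : κ ≠ 0
  hQ : ∀ x, Q ((g : Matrix ι ι F) *ᵥ smap σ x) = κ * σ (Q x)

section Ind
variable {g : GL ι F} {σ : F ≃+* F} {κ : F} (H : SemiM Q g σ κ)

/-- the map of `GL`: conjugation after applying `σ` -/
noncomputable def cGL (g : GL ι F) (σ : F ≃+* F) : GL ι F →* GL ι F :=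
  (MulAut.conj g).toMonoidHom.comp (Matrix.GeneralLinearGroup.map (σ : F →+* F))

lemma cGL_val (s : GL ι F) :
    ((cGL g σ s : GL ι F) : Matrix ι ι F) =
      (g : Matrix ι ι F) * (s : Matrix ι ι F).map σ * ((g⁻¹ : GL ι F) : Matrix ι ι F) := by
  rfl

lemma gl_mul_inv (g : GL ι F) : (g : Matrix ι ι F) * ((g⁻¹ : GL ι F) : Matrix ι ι F) = 1 := by
  rw [← Units.val_mul, mul_inv_cancel, Units.val_one]

lemma gl_inv_mul (g : GL ι F) : ((g⁻¹ : GL ι F) : Matrix ι ι F) * (g : Matrix ι ι F) = 1 := by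
  rw [← Units.val_mul, inv_mul_cancel, Units.val_one]

lemma cGL_mulVec (s : GL ι F) (z : ι → F) :
    ((cGL g σ s : GL ι F) : Matrix ι ι F) *ᵥ z =
      (g : Matrix ι ι F) *ᵥ smap σ ((s : Matrix ι ι F) *ᵥ smap σ.symm (((g⁻¹ : GL ι F) : Matrix ι ι F) *ᵥ z)) := by
  rw [cGL_val, ← map_mulVec_smap, smap_symm, ← Matrix.mulVec_mulVec, ← Matrix.mulVec_mulVec]

include H in
lemma cGL_mem (s : OG F Q) : cGL g σ (s : GL ι F) ∈ Cfsg.isometryGroup F Q := by
  intro u _
  change Q (((cGL g σ (s : GL ι F) : GL ι F) : Matrix ι ι F) *ᵥ u) = Q u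
  rw [cGL_mulVec, H.hQ]
  have e1 : Q (((s : GL ι F) : Matrix ι ι F) *ᵥ smap σ.symm (((g⁻¹ : GL ι F) : Matrix ι ι F) *ᵥ u)) =
      Q (smap σ.symm (((g⁻¹ : GL ι F) : Matrix ι ι F) *ᵥ u)) := Q_act s _
  rw [e1, ← H.hQ, smap_symm, Matrix.mulVec_mulVec, gl_mul_inv, Matrix.one_mulVec]

/-- the endomorphism of the isometry group -/
noncomputable def cO (H : SemiM Q g σ κ) : OG F Q →* OG F Q where
  toFun s := ⟨cGL g σ (s : GL ι F), cGL_mem H s⟩
  map_one' := Subtype.ext (map_one (cGL g σ))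
  map_mul' s t := Subtype.ext (map_mul (cGL g σ) (s : GL ι F) (t : GL ι F))

lemma act_cO (s : OG F Q) (z : ι → F) :
    act (cO H s) z = (g : Matrix ι ι F) *ᵥ smap σ (act s (smap σ.symm (((g⁻¹ : GL ι F) : Matrix ι ι F) *ᵥ z))) :=
  cGL_mulVec (s : GL ι F) z

lemma cO_inj : Function.Injective (cO H) := by
  rw [injective_iff_map_eq_one]
  intro s hs
  apply og_ext
  intro x
  rw [act_one]
  have h1 := act_cO H s ((g : Matrix ι ι F) *ᵥ smap σ x)
  rw [hs, act_one, Matrix.mulVec_mulVec, gl_inv_mul, Matrix.one_mulVec, smap_symm'] at h1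
  have h3 := congrArg (fun z => ((g⁻¹ : GL ι F) : Matrix ι ι F) *ᵥ z) h1
  simp only [Matrix.mulVec_mulVec, gl_inv_mul, Matrix.one_mulVec] at h3
  have h4 := congrArg (smap σ.symm) h3
  rw [smap_symm', smap_symm'] at h4
  exact h4.symm

/-- the automorphism of the isometry group -/
noncomputable def cOA (H : SemiM Q g σ κ) : MulAut (OG F Q) :=
  MulEquiv.ofBijective (cO H) ⟨cO_inj H, Finite.surjective_of_injective (cO_inj H)⟩

/-- the automorphism of `Ω` -/
noncomputable def cΩ (H : SemiM Q g σ κ) : MulAut ↥(Cfsg.Omega F Q) :=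
  ((cOA H).subgroupMap (Cfsg.Omega F Q)).trans
    (MulEquiv.subgroupCongr (Subgroup.characteristic_iff_map_eq.mp inferInstance (cOA H)))

lemma cΩ_val (s : ↥(Cfsg.Omega F Q)) : ((cΩ H s : ↥(Cfsg.Omega F Q)) : OG F Q) = cO H (s : OG F Q) := rfl

/-- the automorphism of `PΩ` -/
noncomputable def cP (H : SemiM Q g σ κ) : MulAut (Cfsg.POmega F Q) := liftZ (cΩ H)

lemma cP_mk (s : ↥(Cfsg.Omega F Q)) :
    cP H (QuotientGroup.mk s : Cfsg.POmega F Q) = QuotientGroup.mk (cΩ H s) := rfl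

lemma cP_pair (H : SemiM Q g σ κ) : Cfsg.IsSemisimilarityPair Q g σ :=
  ⟨Units.mk0 κ H.hκ, fun v => H.hQ v⟩

lemma cP_induced (H : SemiM Q g σ κ) : Cfsg.IsInducedBySemilinearPOmega Q g σ (cP H) := by
  intro s s' hs
  rw [cP_mk]
  congr 1
  apply Subtype.ext
  apply Subtype.ext
  apply Units.ext
  rw [hs]
  rfl

lemma cP_mem (H : SemiM Q g σ κ) : cP H ∈ Cfsg.gammaPOmega F Q :=
  Subgroup.subset_closure ⟨g, σ, cP_pair H, cP_induced H⟩

end Ind

/-- a semilinear map which is a semisimilarity has matrix form -/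
lemma exists_semiM (h : QF Q B) (hnd : ND B (⊤ : Submodule F (ι → F))) (σ : F ≃+* F) {κ : F} (hκ : κ ≠ 0) (T : (ι → F) → (ι → F))
    (hadd : ∀ x y, T (x + y) = T x + T y) (hsmul : ∀ (a : F) x, T (a • x) = σ a • T x)
    (hQ : ∀ x, Q (T x) = κ * σ (Q x)) :
    ∃ g : GL ι F, SemiM Q g σ κ ∧ ∀ x, T x = (g : Matrix ι ι F) *ᵥ smap σ x := by
  classical
  let M : Matrix ι ι F := Matrix.of fun i j => T (Pi.single j 1) i
  let TH : (ι → F) →+ (ι → F) := AddMonoidHom.mk' T hadd
  have hM : ∀ x, T x = M *ᵥ smap σ x := by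
    intro x
    have e : x = ∑ j, x j • (Pi.single j 1 : ι → F) := by
      funext i
      simp only [Finset.sum_apply, Pi.smul_apply, Pi.single_apply, smul_eq_mul, mul_ite, mul_one, mul_zero,
        Finset.sum_ite_eq, Finset.mem_univ, if_true]
    conv_lhs => rw [e]
    have e2 : T (∑ j, x j • (Pi.single j 1 : ι → F)) = ∑ j, T (x j • (Pi.single j 1 : ι → F)) :=
      map_sum TH _ _
    rw [e2]
    funext i
    simp only [hsmul, Finset.sum_apply, Pi.smul_apply, smul_eq_mul, Matrix.mulVec, dotProduct, smap, M, Matrix.of_apply]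
    exact Finset.sum_congr rfl fun j _ => mul_comm _ _
  have hB : ∀ x y, B (T x) (T y) = κ * σ (B x y) := by
    intro x y
    rw [h.polar, ← hadd, hQ, hQ, hQ, h.polar x y, map_sub, map_sub]
    ring
  have hT0 : T 0 = 0 := by simpa using hsmul 0 0
  have hTneg : ∀ x, T (-x) = - T x := by
    intro x
    have := hsmul (-1) x
    simpa using this
  have hinj : Function.Injective M.mulVec := by
    intro x y hxy
    have e1 : T (smap σ.symm x) = T (smap σ.symm y) := by
      rw [hM, hM, smap_symm, smap_symm]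
      exact hxy
    have e2 : T (smap σ.symm x - smap σ.symm y) = 0 := by
      rw [sub_eq_add_neg, hadd, hTneg, e1]
      simp
    have e3 : smap σ.symm x - smap σ.symm y = 0 := by
      by_contra hne
      obtain ⟨z, -, hz⟩ := hnd _ Submodule.mem_top hne
      apply hz
      have := hB (smap σ.symm x - smap σ.symm y) z
      rw [e2, h.zero_left] at this
      have h4 : σ (B (smap σ.symm x - smap σ.symm y) z) = 0 :=
        (mul_eq_zero.1 this.symm).resolve_left hκ
      exact (map_eq_zero σ).1 h4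
    have e4 := congrArg (smap σ) (sub_eq_zero.1 e3)
    rwa [smap_symm, smap_symm] at e4
  have hu : IsUnit M := Matrix.mulVec_injective_iff_isUnit.mp hinj
  obtain ⟨g, hg⟩ := hu
  refine ⟨g, ⟨hκ, ?_⟩, ?_⟩
  · intro x
    rw [hg, ← hM]
    exact hQ x
  · rw [hg]
    exact hM

section E
variable (C : Cx Q B t₀)

/-- **Semisimilarities induce automorphisms of `PΩ` with the expected action on Siegel maps.** -/
theorem Cx.exists_ind (σ : F ≃+* F) {κ : F} (hκ : κ ≠ 0) (φ : (ι → F) → (ι → F))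
    (hadd : ∀ x y, φ (x + y) = φ x + φ y) (hsmul : ∀ (a : F) x, φ (a • x) = σ a • φ x)
    (hQ : ∀ x, Q (φ x) = κ * σ (Q x)) :
    ∃ β : MulAut (Cfsg.POmega F Q), β ∈ Cfsg.gammaPOmega F Q ∧
      ∀ u a, Adm Q B u a → β (C.ee u a) = C.ee (φ u) (κ⁻¹ • φ a) := by
  have h := C.h
  obtain ⟨g, H, hg⟩ := exists_semiM h C.nd σ hκ φ hadd hsmul hQ
  refine ⟨cP H, cP_mem H, ?_⟩
  intro u a hA
  have hB : ∀ x y, B (φ x) (φ y) = κ * σ (B x y) := by
    intro x y
    rw [h.polar, ← hadd, hQ, hQ, hQ, h.polar x y, map_sub, map_sub]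
    ring
  have hneg : ∀ x, φ (-x) = - φ x := by
    intro x
    have := hsmul (-1) x
    simpa using this
  have hsub : ∀ x y, φ (x - y) = φ x - φ y := by
    intro x y
    rw [sub_eq_add_neg, hadd, hneg, sub_eq_add_neg]
  have hA' : Adm Q B (φ u) (κ⁻¹ • φ a) := by
    refine ⟨by rw [hQ, hA.uu, map_zero, mul_zero], ?_⟩
    rw [h.smul_left, hB, hA.au, map_zero, mul_zero, mul_zero]
  unfold Cx.ee
  rw [cP_mk]
  congr 1
  apply Subtype.ext
  rw [cΩ_val]
  change cO H (eO C.h u a) = eO C.h (φ u) (κ⁻¹ • φ a)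
  apply og_ext
  intro z
  rw [act_cO, act_eO hA, act_eO hA']
  obtain ⟨x, hx⟩ : ∃ x, x = smap σ.symm (((g⁻¹ : GL ι F) : Matrix ι ι F) *ᵥ z) := ⟨_, rfl⟩
  have hz : z = φ x := by
    rw [hg, hx, smap_symm, Matrix.mulVec_mulVec, gl_mul_inv, Matrix.one_mulVec]
  rw [← hx, ← hg]
  unfold Efun
  rw [hz, hsub, hadd, hsmul, hsmul, map_add, map_mul, h.smul_right, hB, hB, h.smul, hQ]
  funext i
  simp only [Pi.add_apply, Pi.sub_apply, Pi.smul_apply, smul_eq_mul]
  field_simp

end E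

end Cfsg.Agent.H01.Om
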