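import Cfsg.Agent.Lib.H01.OmOut2
/-! The automorphism group and order of `PΩ_{2m+1}(q)`. -/
set_option autoImplicit false
set_option linter.unusedSimpArgs false
set_option linter.style.haveILetI false
set_option linter.unusedSectionVars false
set_option linter.unusedVariables false
namespace Cfsg.Agent.H01.Om
open Matrix Cfsg.Agent.Lead.Ortho Cfsg.Agent.Lead.Omega

variable {F : Type*} [Field F] [Fintype F]

lemma std_odd (m : ℕ) (σ : F ≃+* F) (x : Unit ⊕ (Fin m ⊕ Fin m) → F) :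
    Cfsg.quadFormOdd m F (smap σ x) = σ (Cfsg.quadFormOdd m F x) := by
  simp [Cfsg.quadFormOdd, smap, map_add, map_pow, map_sum, map_mul]

/-- all the structure in odd dimension -/
theorem odd_struct (hodd : Odd (Fintype.card F)) {m : ℕ} (hm : 3 ≤ m) :
    Nat.card (Cfsg.POmega F (Cfsg.quadFormOdd m F)) = Nat.card (Cfsg.Omega F (Cfsg.quadFormOdd m F)) ∧
    Nat.card (OG F (Cfsg.quadFormOdd m F)) = 4 * Nat.card (Cfsg.Omega F (Cfsg.quadFormOdd m F)) ∧
    Nat.card (MulAut (Cfsg.POmega F (Cfsg.quadFormOdd m F))) = 2 * Nat.card (F ≃+* F) * Nat.card (Cfsg.POmega F (Cfsg.quadFormOdd m F)) ∧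
    Nonempty (Cfsg.Out (Cfsg.POmega F (Cfsg.quadFormOdd m F)) ≃* Multiplicative (ZMod 2) × (F ≃+* F)) := by
  have h2 : (2 : F) ≠ 0 := two_ne_zero_of_odd rfl hodd
  obtain ⟨m', rfl⟩ : ∃ m', m = m' + 1 + 1 := ⟨m - 2, by omega⟩
  have C := mkCx (qfOdd (F := F) (m' + 1 + 1)) (ndOdd _ h2) (frameOdd_HF _) (by omega) (frameOdd_anis _)
  have hidx : Nat.card (OG F (Cfsg.quadFormOdd (m' + 1 + 1) F)) = 4 * Nat.card (Cfsg.Omega F (Cfsg.quadFormOdd (m' + 1 + 1) F)) := by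
    rw [C.hΩ]
    exact card_og_odd hodd hm
  have hcard : Odd (Fintype.card (Unit ⊕ (Fin (m' + 1 + 1) ⊕ Fin (m' + 1 + 1)))) := by
    simp only [Fintype.card_sum, Fintype.card_unit, Fintype.card_fin]
    exact ⟨m' + 1 + 1, by ring⟩
  have hneg : ∀ s : OG F (Cfsg.quadFormOdd (m' + 1 + 1) F), (∀ x, act s x = -x) → s ∉ Cfsg.Omega F (Cfsg.quadFormOdd (m' + 1 + 1) F) := by
    intro s hs
    rw [C.hΩ]
    exact neg_not_mem_SS C.h C.nd C.ht (by omega) h2 hcard hs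
  obtain ⟨e1, e2, e3⟩ := aut_struct C (gamma_top_odd hodd hm) (std_odd _) (fun g c hc hg => isSquare_of_sim C.h C.nd hcard g c hc hg)
    h2 hidx hneg
  exact ⟨e1, hidx, e2, e3⟩

end Cfsg.Agent.H01.Om
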