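import Cfsg.Agent.Lib.H01.OmAut
import Cfsg.Agent.Lib.Lead.AutPSLOut
/-! The automorphism group of `PΩ` when similarities are scalar multiples of isometries. -/
set_option autoImplicit false
set_option linter.unusedSimpArgs false
set_option linter.style.haveILetI false
set_option linter.unusedSectionVars false
set_option linter.unusedVariables false
namespace Cfsg.Agent.H01.Om
open Matrix Cfsg.Agent.Lead.Ortho Cfsg.Agent.Lead.Omega

variable {F : Type*} [Field F] [Fintype F] {ι : Type} [Fintype ι] [DecidableEq ι]
variable {Q : (ι → F) → F} {B : (ι → F) → (ι → F) → F}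
variable {m : ℕ} {t₀ : Fin m → (ι → F) × (ι → F)}

/-- a retraction with kernel of order two splits as a direct product -/
lemma prod_of_retract {G H : Type*} [Group G] [Group H] (χ : G →* H) (s : H →* G) (hs : ∀ h, χ (s h) = h)
    (hk : Nat.card χ.ker = 2) : Nonempty (G ≃* Multiplicative (ZMod 2) × H) := by
  haveI : Finite χ.ker := Nat.finite_of_card_ne_zero (by omega)
  have hcent : ∀ k ∈ χ.ker, ∀ g, g * k = k * g := by
    obtain ⟨⟨d, hd⟩, hd1⟩ : ∃ d : χ.ker, d ≠ 1 := by
      haveI : Nontrivial χ.ker := by
        rw [← Finite.one_lt_card_iff_nontrivial]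
        omega
      exact exists_ne 1
    have hall : ∀ k : χ.ker, k = 1 ∨ k = ⟨d, hd⟩ := by
      intro k
      by_contra hne
      push Not at hne
      classical
      haveI : Fintype χ.ker := Fintype.ofFinite _
      have e1 : ({1, ⟨d, hd⟩, k} : Finset χ.ker).card ≤ Fintype.card χ.ker := Finset.card_le_univ _
      have e2 : ({1, ⟨d, hd⟩, k} : Finset χ.ker).card = 3 := by
        rw [Finset.card_insert_of_notMem, Finset.card_insert_of_notMem, Finset.card_singleton]
        · simp only [Finset.mem_singleton]
          exact fun e => hne.2 e.symm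
        · simp only [Finset.mem_insert, Finset.mem_singleton, not_or]
          exact ⟨hd1.symm, fun e => hne.1 e.symm⟩
      rw [← Nat.card_eq_fintype_card, hk, e2] at e1
      omega
    intro k hk' g
    rcases hall ⟨k, hk'⟩ with e | e
    · have : k = 1 := congrArg Subtype.val e
      rw [this, mul_one, one_mul]
    · have ek : k = d := congrArg Subtype.val e
      subst ek
      have e2 : g * k * g⁻¹ ∈ χ.ker := Subgroup.Normal.conj_mem inferInstance k hk' g
      rcases hall ⟨_, e2⟩ with e3 | e3
      · have e4 : g * k * g⁻¹ = 1 := congrArg Subtype.val e3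
        have e5 : k = 1 := by
          have : g * k = g := by
            have := congrArg (· * g) e4
            simpa using this
          exact mul_left_cancel (this.trans (mul_one g).symm)
        exact absurd (Subtype.ext e5) hd1
      · have e4 : g * k * g⁻¹ = k := congrArg Subtype.val e3
        have := congrArg (· * g) e4
        simpa using this
  let f : χ.ker × H →* G :=
    { toFun := fun p => (p.1 : G) * s p.2
      map_one' := by simp
      map_mul' := fun p p' => by
        simp only [Prod.fst_mul, Prod.snd_mul, Subgroup.coe_mul, map_mul]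
        have := hcent _ p'.1.2 (s p.2)
        rw [mul_assoc, mul_assoc, ← mul_assoc (s p.2), this, mul_assoc] }
  have hf : Function.Bijective f := by
    constructor
    · rw [injective_iff_map_eq_one]
      rintro ⟨k, h⟩ e
      have e1 : (k : G) * s h = 1 := e
      have e2 : h = 1 := by
        have e3 := congrArg χ e1
        rw [map_mul, k.2, one_mul, hs, map_one] at e3
        exact e3
      subst e2
      rw [map_one, mul_one] at e1
      exact Prod.ext (Subtype.ext e1) rfl
    · intro g
      refine ⟨(⟨g * (s (χ g))⁻¹, ?_⟩, χ g), ?_⟩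
      · rw [MonoidHom.mem_ker, map_mul, map_inv, hs, mul_inv_cancel]
      · change g * (s (χ g))⁻¹ * s (χ g) = g
        group
  haveI : Fact (Nat.Prime 2) := ⟨Nat.prime_two⟩
  have e2 : χ.ker ≃* Multiplicative (ZMod 2) := mulEquivOfPrimeCardEq hk (by
    rw [Nat.card_congr Multiplicative.toAdd]
    simp)
  exact ⟨(MulEquiv.ofBijective f hf).symm.trans (e2.prodCongr (MulEquiv.refl H))⟩

/-- multipliers of similarities are squares in odd dimension -/
theorem isSquare_of_sim (h : QF Q B) (hnd : ND B (⊤ : Submodule F (ι → F))) (hodd : Odd (Fintype.card ι))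
    (g : GL ι F) (c : F) (hc : c ≠ 0) (hg : ∀ v, Q ((g : Matrix ι ι F) *ᵥ v) = c * Q v) : IsSquare c := by
  classical
  let M : Matrix ι ι F := Matrix.of fun i j => B (Pi.single i 1) (Pi.single j 1)
  have hdec : ∀ x : ι → F, x = ∑ i, x i • (Pi.single i 1 : ι → F) := by
    intro x
    funext j
    simp [Finset.sum_apply, Pi.single_apply]
  have hB : ∀ x y : ι → F, B x y = ∑ i, ∑ j, x i * M i j * y j := by
    intro x y
    conv_lhs => rw [hdec x, hdec y]
    rw [h.sum_left]
    refine Finset.sum_congr rfl fun i _ => ?_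
    rw [sum_right h]
    refine Finset.sum_congr rfl fun j _ => ?_
    rw [h.smul_left, h.smul_right]
    simp only [M, Matrix.of_apply]
    ring
  have hsim : ∀ x y, B ((g : Matrix ι ι F) *ᵥ x) ((g : Matrix ι ι F) *ᵥ y) = c * B x y := by
    intro x y
    rw [h.polar, ← Matrix.mulVec_add, hg, hg, hg, h.polar x y]
    ring
  have hcol : ∀ i, (g : Matrix ι ι F) *ᵥ Pi.single i 1 = fun k => (g : Matrix ι ι F) k i := by
    intro i
    funext k
    simp [Matrix.mulVec, dotProduct, Pi.single_apply]
  have hM : (g : Matrix ι ι F)ᵀ * M * (g : Matrix ι ι F) = c • M := by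
    ext i j
    have e1 := hsim (Pi.single i 1) (Pi.single j 1)
    rw [hcol, hcol, hB, Finset.sum_comm] at e1
    simp only [Matrix.mul_apply, Matrix.transpose_apply, Matrix.smul_apply, smul_eq_mul, Finset.sum_mul]
    exact e1
  have hd : M.det ≠ 0 := by
    intro e0
    obtain ⟨v, hv0, hv⟩ := Matrix.exists_mulVec_eq_zero_iff.2 e0
    obtain ⟨y, -, hy⟩ := hnd v Submodule.mem_top hv0
    apply hy
    rw [h.symm, hB]
    apply Finset.sum_eq_zero
    intro i _
    have e1 : ∑ j, M i j * v j = 0 := congrFun hv i
    calc ∑ j, y i * M i j * v j = y i * ∑ j, M i j * v j := by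
          rw [Finset.mul_sum]
          exact Finset.sum_congr rfl fun j _ => by ring
      _ = 0 := by rw [e1, mul_zero]
  have e1 := congrArg Matrix.det hM
  rw [Matrix.det_mul, Matrix.det_mul, Matrix.det_transpose, Matrix.det_smul] at e1
  have e2 : (g : Matrix ι ι F).det ^ 2 = c ^ Fintype.card ι := by
    apply mul_right_cancel₀ hd
    linear_combination e1
  obtain ⟨k, hk⟩ := hodd
  rw [hk] at e2
  refine ⟨(g : Matrix ι ι F).det / c ^ k, ?_⟩
  have hck : c ^ k ≠ 0 := pow_ne_zero _ hc
  rw [div_mul_div_comm, ← sq, e2, eq_div_iff (mul_ne_zero hck hck)]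
  ring

/-- the element `-1` -/
noncomputable def negO (h : QF Q B) : OG F Q :=
  mkO (-LinearMap.id) (-LinearMap.id) (fun x => by simp) (fun x => by simp) (fun x => by
    have := h.smul (-1) x
    simpa using this)

lemma act_negO (h : QF Q B) (x : ι → F) : act (negO h) x = -x := by
  unfold negO
  rw [act_mkO]
  simp

section Main
variable (C : Cx Q B t₀)
include C

/-- scalars in the isometry group are plus or minus one -/
lemma Cx.scalar_pm {g : OG F Q} {α : F} (hg : ∀ x, act g x = α • x) : g = 1 ∨ g = negO C.h := by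
  have h := C.h
  obtain ⟨e, f, e1, f1, e2, f2, T⟩ := C.exists_T3
  have Qx : Q (e + f) = 1 := by
    rw [h.add, T.Qe0, T.Qf0, T.e0f0]
    ring
  have e3 := Q_act (Q := Q) g (e + f)
  rw [hg, h.smul, Qx, mul_one] at e3
  have e4 : (α - 1) * (α + 1) = 0 := by linear_combination e3
  rcases mul_eq_zero.1 e4 with e5 | e5
  · left
    apply og_ext
    intro x
    rw [hg, act_one, sub_eq_zero.1 e5, one_smul]
  · right
    apply og_ext
    intro x
    rw [hg, act_negO, eq_neg_of_add_eq_zero_left e5, neg_smul, one_smul]

/-- the kernel of the conjugation map -/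
lemma Cx.card_ker_cc (h2 : (2 : F) ≠ 0) : Nat.card (cc Q).ker = 2 := by
  classical
  have h := C.h
  have hne : (negO h : OG F Q) ≠ 1 := by
    intro e
    obtain ⟨e', f, e1, f1, e2, f2, T⟩ := C.exists_T3
    have e3 : act (negO h) (e' + f) = act (1 : OG F Q) (e' + f) := by rw [e]
    rw [act_negO, act_one] at e3
    have e4 : (2 : F) • (e' + f) = 0 := by
      rw [two_smul]
      nth_rewrite 1 [← e3]
      simp
    have e5 := (smul_eq_zero.1 e4).resolve_left h2
    have e6 := T.e0f0
    have Qx : Q (e' + f) = 1 := by
      rw [h.add, T.Qe0, T.Qf0, T.e0f0]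
      ring
    rw [e5, h.Q_zero] at Qx
    exact zero_ne_one Qx
  have hset : ((cc Q).ker : Set (OG F Q)) = {1, negO h} := by
    ext g
    simp only [SetLike.mem_coe, MonoidHom.mem_ker, Set.mem_insert_iff, Set.mem_singleton_iff]
    constructor
    · intro hg
      obtain ⟨α, hα⟩ := C.scalar_of_cc g hg
      exact C.scalar_pm hα
    · rintro (rfl | rfl)
      · exact map_one _
      · exact cc_of_scalar (α := -1) (fun x => by rw [act_negO]; simp)
  rw [← SetLike.coe_sort_coe, hset]
  rw [Nat.card_coe_set_eq, Set.ncard_pair hne.symm]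

end Main

end Cfsg.Agent.H01.Om
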