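import Cfsg.Agent.Lib.H01.OmOut
/-! The automorphism group of `PΩ` when similarities are scalar multiples of isometries: assembly. -/
set_option autoImplicit false
set_option linter.unusedSimpArgs false
set_option linter.style.haveILetI false
set_option linter.unusedSectionVars false
set_option linter.unusedVariables false
namespace Cfsg.Agent.H01.Om
open Matrix Cfsg.Agent.Lead.Ortho Cfsg.Agent.Lead.Omega

variable {F : Type*} [Field F] [Fintype F] {ι : Type} [Fintype ι] [DecidableEq ι]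
variable {Q : (ι → F) → F} {B : (ι → F) → (ι → F) → F}
variable {m : ℕ} {t₀ : Fin m → (ι → F) × (ι → F)}

/-- semisimilarity built from an isometry and a field automorphism -/
lemma semi_of_O (hstd : ∀ (σ : F ≃+* F) (x : ι → F), Q (smap σ x) = σ (Q x)) (g₀ : OG F Q) (σ : F ≃+* F) :
    SemiM Q (g₀ : GL ι F) σ 1 :=
  ⟨one_ne_zero, fun x => by
    rw [one_mul, ← hstd]
    exact Q_act g₀ _⟩

lemma cP_semi_of_O (hstd : ∀ (σ : F ≃+* F) (x : ι → F), Q (smap σ x) = σ (Q x)) (g₀ : OG F Q) (σ : F ≃+* F) :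
    cP (semi_of_O hstd g₀ σ) = cc Q g₀ * ssf hstd σ := by
  ext x
  obtain ⟨s, rfl⟩ := QuotientGroup.mk_surjective x
  rw [cP_mk]
  change _ = cc Q g₀ (ssf hstd σ (QuotientGroup.mk s))
  rw [ssf, MonoidHom.comp_apply, Thh_mk, cc_mk]
  congr 1
  apply Subtype.ext
  rw [cΩ_val, resΩ_val, resΩ_val]
  apply og_ext
  intro z
  rw [act_cO]
  change _ = act (g₀ * (fldO hstd σ s : OG F Q) * g₀⁻¹) z
  rw [act_mul, act_mul]
  change _ = act g₀ (act (cOA (semi_one hstd σ) s) (act g₀⁻¹ z))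
  rw [act_cOA_one hstd]
  rfl

/-- the generators of the semisimilarity group -/
lemma gen_form (hstd : ∀ (σ : F ≃+* F) (x : ι → F), Q (smap σ x) = σ (Q x)) (h : QF Q B)
    (hsq : ∀ (g : GL ι F) (c : F), c ≠ 0 → (∀ v, Q ((g : Matrix ι ι F) *ᵥ v) = c * Q v) → IsSquare c)
    {g : GL ι F} {σ : F ≃+* F} {α : MulAut (Cfsg.POmega F Q)}
    (hp : Cfsg.IsSemisimilarityPair Q g σ) (hi : Cfsg.IsInducedBySemilinearPOmega Q g σ α) :
    ∃ g₀ : OG F Q, α = cc Q g₀ * ssf hstd σ := by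
  obtain ⟨c, hc⟩ := hp
  have hsim : ∀ v, Q ((g : Matrix ι ι F) *ᵥ v) = c * Q v := by
    intro v
    have e1 := hc (smap σ.symm v)
    have e2 : (fun i => σ (smap σ.symm v i)) = v := smap_symm σ v
    rw [e2] at e1
    rw [e1, hstd]
    simp
  obtain ⟨l, hl⟩ := hsq g c c.ne_zero hsim
  have hl0 : l ≠ 0 := by
    rintro rfl
    exact c.ne_zero (by rw [hl, zero_mul])
  let D : GL ι F := Matrix.GeneralLinearGroup.scalar ι (Units.mk0 l⁻¹ (inv_ne_zero hl0))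
  have hD : ∀ y : ι → F, (D : Matrix ι ι F) *ᵥ y = l⁻¹ • y := by
    intro y
    funext i
    simp [D, Matrix.GeneralLinearGroup.coe_scalar, Matrix.scalar_apply, Matrix.mulVec_diagonal]
  have hmem : D * g ∈ Cfsg.isometryGroup F Q := by
    intro u _
    change Q (((D * g : GL ι F) : Matrix ι ι F) *ᵥ u) = Q u
    rw [Units.val_mul, ← Matrix.mulVec_mulVec, hD, h.smul, hsim, hl]
    field_simp
  refine ⟨⟨D * g, hmem⟩, ?_⟩
  ext x
  obtain ⟨s, rfl⟩ := QuotientGroup.mk_surjective x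
  change α _ = cc Q _ (ssf hstd σ (QuotientGroup.mk s))
  rw [ssf, MonoidHom.comp_apply, Thh_mk, cc_mk]
  apply hi
  rw [resΩ_val, resΩ_val]
  change (((D * g : GL ι F) * ((fldO hstd σ (s : OG F Q) : OG F Q) : GL ι F) * (D * g : GL ι F)⁻¹ : GL ι F) : Matrix ι ι F) = _
  have e1 : (D * g : GL ι F) * ((fldO hstd σ (s : OG F Q) : OG F Q) : GL ι F) * (D * g : GL ι F)⁻¹ =
      g * ((fldO hstd σ (s : OG F Q) : OG F Q) : GL ι F) * g⁻¹ := by
    have e2 : ∀ y : GL ι F, D * y = y * D := fun y => Matrix.GeneralLinearGroup.scalar_commute _ y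
    obtain ⟨t, ht⟩ : ∃ t : GL ι F, t = ((fldO hstd σ (s : OG F Q) : OG F Q) : GL ι F) := ⟨_, rfl⟩
    rw [← ht, _root_.mul_inv_rev]
    calc D * g * t * (g⁻¹ * D⁻¹) = (D * (g * t)) * (g⁻¹ * D⁻¹) := by group
      _ = ((g * t) * D) * (g⁻¹ * D⁻¹) := by rw [e2]
      _ = g * t * (D * g⁻¹) * D⁻¹ := by group
      _ = g * t * (g⁻¹ * D) * D⁻¹ := by rw [e2]
      _ = g * t * g⁻¹ := by group
  rw [e1, Units.val_mul, Units.val_mul]
  congr 2
  change ((cGL 1 σ (s : GL ι F) : GL ι F) : Matrix ι ι F) = _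
  rw [cGL_val]
  simp

section Main
variable (C : Cx Q B t₀) (hΓ : Cfsg.gammaPOmega F Q = ⊤) (hstd : ∀ (σ : F ≃+* F) (x : ι → F), Q (smap σ x) = σ (Q x))
  (hsq : ∀ (g : GL ι F) (c : F), c ≠ 0 → (∀ v, Q ((g : Matrix ι ι F) *ᵥ v) = c * Q v) → IsSquare c)
include C hΓ hsq

/-- every automorphism is an isometry conjugation times a field automorphism -/
lemma exists_factor (a : MulAut (Cfsg.POmega F Q)) : ∃ k ∈ (cc Q).range, ∃ σ, a = k * ssf hstd σ := by
  have ha : a ∈ Cfsg.gammaPOmega F Q := by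
    rw [hΓ]
    exact Subgroup.mem_top a
  have hnorm : ∀ σ, ∀ k ∈ (cc Q).range, ssf hstd σ * k * (ssf hstd σ)⁻¹ ∈ (cc Q).range := by
    rintro σ _ ⟨g, rfl⟩
    exact ⟨fldO hstd σ g, (Thh_conj (fldO hstd σ) g).symm⟩
  unfold Cfsg.gammaPOmega Cfsg.autSubgroupOf at ha
  induction ha using Subgroup.closure_induction with
  | mem x hx =>
    obtain ⟨g, σ, hp, hi⟩ := hx
    obtain ⟨g₀, e⟩ := gen_form hstd C.h hsq hp hi
    exact ⟨_, ⟨g₀, rfl⟩, σ, e⟩
  | one =>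
    exact ⟨1, Subgroup.one_mem _, 1, by simp⟩
  | mul x y _ _ h1 h2 =>
    obtain ⟨k₁, hk₁, σ₁, rfl⟩ := h1
    obtain ⟨k₂, hk₂, σ₂, rfl⟩ := h2
    refine ⟨k₁ * (ssf hstd σ₁ * k₂ * (ssf hstd σ₁)⁻¹), Subgroup.mul_mem _ hk₁ (hnorm σ₁ k₂ hk₂), σ₁ * σ₂, ?_⟩
    rw [map_mul]
    group
  | inv x _ h1 =>
    obtain ⟨k₁, hk₁, σ₁, rfl⟩ := h1
    refine ⟨ssf hstd σ₁⁻¹ * k₁⁻¹ * (ssf hstd σ₁⁻¹)⁻¹, hnorm _ _ (Subgroup.inv_mem _ hk₁), σ₁⁻¹, ?_⟩
    rw [map_inv]
    group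

omit hΓ hsq in
lemma norm_ssf (σ : F ≃+* F) : ∀ k ∈ (cc Q).range, ssf hstd σ * k * (ssf hstd σ)⁻¹ ∈ (cc Q).range := by
  rintro _ ⟨g, rfl⟩
  exact ⟨fldO hstd σ g, (Thh_conj (fldO hstd σ) g).symm⟩

omit hΓ hsq in
lemma uniq_ssf (σ : F ≃+* F) (hσ : ssf hstd σ ∈ (cc Q).range) : σ = 1 := by
  obtain ⟨g, hg⟩ := hσ
  apply C.sigma_of_cP (semi_of_O hstd g⁻¹ σ)
  rw [cP_semi_of_O hstd, map_inv, ← hg, inv_mul_cancel]

omit hΓ hsq in
lemma conj_mk_eq (s : ↥(Cfsg.Omega F Q)) : MulAut.conj (QuotientGroup.mk s : Cfsg.POmega F Q) = cc Q (s : OG F Q) := by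
  ext x
  obtain ⟨t, rfl⟩ := QuotientGroup.mk_surjective x
  rw [cc_mk, MulAut.conj_apply]
  rw [← QuotientGroup.mk_inv, ← QuotientGroup.mk_mul, ← QuotientGroup.mk_mul]
  congr 1

include hstd in
/-- **The structure of the automorphism group.** -/
theorem aut_struct (h2 : (2 : F) ≠ 0) (hidx : Nat.card (OG F Q) = 4 * Nat.card (Cfsg.Omega F Q))
    (hneg : ∀ s : OG F Q, (∀ x, act s x = -x) → s ∉ Cfsg.Omega F Q) :
    Nat.card (Cfsg.POmega F Q) = Nat.card (Cfsg.Omega F Q) ∧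
    Nat.card (MulAut (Cfsg.POmega F Q)) = 2 * Nat.card (F ≃+* F) * Nat.card (Cfsg.POmega F Q) ∧
    Nonempty (Cfsg.Out (Cfsg.POmega F Q) ≃* Multiplicative (ZMod 2) × (F ≃+* F)) := by
  classical
  obtain ⟨χ, hχk, hχs⟩ := Cfsg.Agent.Lead.AutPSL.exists_hom_of_factor (cc Q).range (ssf hstd)
    (exists_factor C hΓ hstd hsq) (fun h k hk => norm_ssf C hstd h k hk) (fun h hh => uniq_ssf C hstd h hh)
  have hsurj : Function.Surjective χ := fun σ => ⟨ssf hstd σ, hχs σ⟩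
  have cA : Nat.card (MulAut (Cfsg.POmega F Q)) = Nat.card (F ≃+* F) * Nat.card (cc Q).range := by
    have e1 := Subgroup.card_eq_card_quotient_mul_card_subgroup χ.ker
    rw [Nat.card_congr (QuotientGroup.quotientKerEquivOfSurjective χ hsurj).toEquiv, hχk] at e1
    exact e1
  have cK : Nat.card (OG F Q) = Nat.card (cc Q).range * 2 := by
    rw [Subgroup.card_eq_card_quotient_mul_card_subgroup (cc Q).ker, C.card_ker_cc h2,
      Nat.card_congr (QuotientGroup.quotientKerEquivRange (cc Q)).toEquiv]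
  have cK2 : Nat.card (cc Q).range = 2 * Nat.card (Cfsg.Omega F Q) := by
    omega
  -- the centre of `Ω`
  have hZ : Subgroup.center (Cfsg.Omega F Q) = ⊥ := by
    rw [eq_bot_iff]
    intro z hz
    obtain ⟨α, hα⟩ := C.center_scalar hz
    rcases C.scalar_pm hα with e | e
    · exact Subgroup.mem_bot.2 (Subtype.ext e)
    · exact absurd z.2 (hneg _ (by rw [e]; exact fun x => act_negO C.h x))
  have cP' : Nat.card (Cfsg.POmega F Q) = Nat.card (Cfsg.Omega F Q) := by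
    have e1 := Subgroup.card_eq_card_quotient_mul_card_subgroup (Subgroup.center (Cfsg.Omega F Q))
    have e2 : Nat.card (Subgroup.center (Cfsg.Omega F Q)) = 1 := by
      rw [hZ]
      exact Subgroup.card_bot
    rw [e2, mul_one] at e1
    exact e1.symm
  -- inner automorphisms
  let f : ↥(Cfsg.Omega F Q) →* MulAut (Cfsg.POmega F Q) := (cc Q).comp (Cfsg.Omega F Q).subtype
  have hf_range : f.range = Cfsg.Inn (Cfsg.POmega F Q) := by
    ext α
    constructor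
    · rintro ⟨s, rfl⟩
      exact ⟨QuotientGroup.mk s, conj_mk_eq C s⟩
    · rintro ⟨x, rfl⟩
      obtain ⟨s, rfl⟩ := QuotientGroup.mk_surjective x
      exact ⟨s, (conj_mk_eq C s).symm⟩
  have hf_inj : Function.Injective f := by
    rw [injective_iff_map_eq_one]
    intro s hs
    obtain ⟨α, hα⟩ := C.scalar_of_cc (s : OG F Q) hs
    rcases C.scalar_pm hα with e | e
    · exact Subtype.ext e
    · exact absurd s.2 (hneg _ (by rw [e]; exact fun x => act_negO C.h x))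
  have cI : Nat.card (Cfsg.Inn (Cfsg.POmega F Q)) = Nat.card (Cfsg.Omega F Q) := by
    rw [← hf_range]
    exact Nat.card_congr (MonoidHom.ofInjective hf_inj).toEquiv.symm
  have hI : Cfsg.Inn (Cfsg.POmega F Q) ≤ χ.ker := by
    rw [hχk, ← hf_range]
    rintro _ ⟨s, rfl⟩
    exact ⟨_, rfl⟩
  let χ' : Cfsg.Out (Cfsg.POmega F Q) →* (F ≃+* F) := QuotientGroup.lift _ χ (fun x hx => hI hx)
  let s' : (F ≃+* F) →* Cfsg.Out (Cfsg.POmega F Q) := (QuotientGroup.mk' _).comp (ssf hstd)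
  have hs' : ∀ σ, χ' (s' σ) = σ := fun σ => hχs σ
  have hsurj' : Function.Surjective χ' := fun σ => ⟨s' σ, hs' σ⟩
  have cO1 : Nat.card (MulAut (Cfsg.POmega F Q)) = Nat.card (Cfsg.Out (Cfsg.POmega F Q)) * Nat.card (Cfsg.Omega F Q) := by
    rw [Subgroup.card_eq_card_quotient_mul_card_subgroup (Cfsg.Inn (Cfsg.POmega F Q)), cI]
  have cO2 : Nat.card (Cfsg.Out (Cfsg.POmega F Q)) = Nat.card (F ≃+* F) * Nat.card χ'.ker := by
    have e1 := Subgroup.card_eq_card_quotient_mul_card_subgroup χ'.ker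
    rw [Nat.card_congr (QuotientGroup.quotientKerEquivOfSurjective χ' hsurj').toEquiv] at e1
    exact e1
  have pos1 : 0 < Nat.card (Cfsg.Omega F Q) := Nat.card_pos
  have pos2 : 0 < Nat.card (F ≃+* F) := by
    have : Finite (F ≃+* F) := Finite.of_injective (fun σ : F ≃+* F => (σ : F → F)) (fun a b e => RingEquiv.ext (congrFun e))
    exact Nat.card_pos
  have hk : Nat.card χ'.ker = 2 := by
    have e1 : Nat.card (F ≃+* F) * (Nat.card χ'.ker * Nat.card (Cfsg.Omega F Q)) =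
        Nat.card (F ≃+* F) * (2 * Nat.card (Cfsg.Omega F Q)) := by
      rw [← cK2, ← cA, cO1, cO2]
      ring
    exact Nat.eq_of_mul_eq_mul_right pos1 (Nat.eq_of_mul_eq_mul_left pos2 e1)
  refine ⟨cP', ?_, prod_of_retract χ' s' hs' hk⟩
  rw [cA, cK2, cP']
  ring

end Main

end Cfsg.Agent.H01.Om
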