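import Cfsg.Agent.Lib.H01.OmApply
/-! The parity of the dimension of the fixed space of an isometry. -/
set_option autoImplicit false
set_option linter.unusedSimpArgs false
set_option linter.style.haveILetI false
set_option linter.unusedSectionVars false
set_option linter.unusedVariables false
namespace Cfsg.Agent.H01.Om
open Matrix Cfsg.Agent.Lead.Ortho Cfsg.Agent.Lead.Omega

variable {F : Type*} [Field F] [Fintype F] {ι : Type} [Fintype ι] [DecidableEq ι]
variable {Q : (ι → F) → F} {B : (ι → F) → (ι → F) → F}

/-- the fixed space -/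
def Fx (g : OG F Q) : Submodule F (ι → F) where
  carrier := {x | act g x = x}
  add_mem' := fun {a b} ha hb => by
    change act g (a + b) = a + b
    rw [act_add, show act g a = a from ha, show act g b = b from hb]
  zero_mem' := act_zero g
  smul_mem' := fun c x hx => by
    change act g (c • x) = c • x
    rw [act_smul, show act g x = x from hx]

lemma mem_Fx {g : OG F Q} {x : ι → F} : x ∈ Fx g ↔ act g x = x := Iff.rfl

/-- the dimension of the fixed space -/
noncomputable def dd (g : OG F Q) : ℕ := Module.finrank F (Fx g)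

lemma Fx_inv (g : OG F Q) : Fx g⁻¹ = Fx g := by
  ext x
  rw [mem_Fx, mem_Fx]
  constructor
  · intro e
    have := act_act_inv g x
    rwa [e] at this
  · intro e
    have := act_inv_act g x
    rwa [e] at this

lemma dd_inv (g : OG F Q) : dd g⁻¹ = dd g := by
  unfold dd
  rw [Fx_inv]

/-- the linear functional of a vector -/
def Lf (h : QF Q B) (a : ι → F) : (ι → F) →ₗ[F] F where
  toFun x := B x a
  map_add' x y := h.add_left x y a
  map_smul' c x := by simpa using h.smul_left c x a

lemma Lf_apply (h : QF Q B) (a x : ι → F) : Lf h a x = B x a := rfl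

/-- every functional comes from the form -/
lemma exists_rep (h : QF Q B) (hnd : ND B (⊤ : Submodule F (ι → F))) (φ : (ι → F) →ₗ[F] F) :
    ∃ k, ∀ x, φ x = B x k := by
  let T : (ι → F) →ₗ[F] Module.Dual F (ι → F) :=
    { toFun := fun k => Lf h k
      map_add' := fun x y => by
        refine LinearMap.ext fun z => ?_
        simp only [Lf_apply, LinearMap.add_apply, h.add_right]
      map_smul' := fun c x => by
        refine LinearMap.ext fun z => ?_
        simp only [Lf_apply, LinearMap.smul_apply, h.smul_right, smul_eq_mul, RingHom.id_apply] }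
  have hinj : Function.Injective T := by
    rw [← LinearMap.ker_eq_bot, LinearMap.ker_eq_bot']
    intro k hk
    by_contra hne
    obtain ⟨y, -, hy⟩ := hnd k Submodule.mem_top hne
    apply hy
    have := LinearMap.congr_fun hk y
    change B y k = 0 at this
    rw [h.symm]
    exact this
  have hsurj : Function.Surjective T :=
    (LinearMap.injective_iff_surjective_of_finrank_eq_finrank (Subspace.dual_finrank_eq).symm).1 hinj
  obtain ⟨k, hk⟩ := hsurj φ
  exact ⟨k, fun x => (LinearMap.congr_fun hk x).symm⟩

/-- cutting by a functional lowers the dimension by one -/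
lemma finrank_inf_ker (l : (ι → F) →ₗ[F] F) (S : Submodule F (ι → F)) {k : ι → F} (hk : k ∈ S) (hl : l k ≠ 0) :
    Module.finrank F ↥(S ⊓ LinearMap.ker l) + 1 = Module.finrank F S := by
  have e1 := Submodule.finrank_sup_add_finrank_inf_eq S (LinearMap.ker l)
  have e2 : S ⊔ LinearMap.ker l = ⊤ := by
    rw [eq_top_iff]
    intro x _
    have e3 : x = (l x / l k) • k + (x - (l x / l k) • k) := by abel
    rw [e3]
    refine Submodule.add_mem _ (Submodule.mem_sup_left (S.smul_mem _ hk)) (Submodule.mem_sup_right ?_)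
    rw [LinearMap.mem_ker, map_sub, map_smul, smul_eq_mul]
    field_simp
    simp
  have e4 : LinearMap.range l = ⊤ := by
    rw [LinearMap.range_eq_top]
    intro c
    refine ⟨(c / l k) • k, ?_⟩
    rw [map_smul, smul_eq_mul]
    field_simp
  have e5 := LinearMap.finrank_range_add_finrank_ker l
  rw [e4, finrank_top, Module.finrank_self] at e5
  rw [e2, finrank_top] at e1
  omega

/-- **Multiplying by a reflection changes the dimension of the fixed space by exactly one.** -/
theorem dd_mul_R (h : QF Q B) (hnd : ND B (⊤ : Submodule F (ι → F))) (g : OG F Q) {a : ι → F} (ha : Q a ≠ 0) :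
    dd (g * R h a ha) + 1 = dd g ∨ dd (g * R h a ha) = dd g + 1 := by
  have hs := fun x y => h.symm x y
  have key : Fx (g * R h a ha) ⊓ LinearMap.ker (Lf h a) = Fx g ⊓ LinearMap.ker (Lf h a) := by
    ext x
    simp only [Submodule.mem_inf, mem_Fx, LinearMap.mem_ker, Lf_apply]
    constructor
    · rintro ⟨h1, h2⟩
      refine ⟨?_, h2⟩
      rw [act_mul, R_fix h ha h2] at h1
      exact h1
    · rintro ⟨h1, h2⟩
      refine ⟨?_, h2⟩
      rw [act_mul, R_fix h ha h2]
      exact h1
  by_cases hk : ∃ k ∈ Fx g, B k a ≠ 0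
  · obtain ⟨k, hk, hka⟩ := hk
    left
    have e1 : Fx (g * R h a ha) = Fx g ⊓ LinearMap.ker (Lf h a) := by
      apply le_antisymm
      · intro x hx
        have hxk : x ∈ LinearMap.ker (Lf h a) := by
          rw [LinearMap.mem_ker, Lf_apply]
          by_contra hne
          have e2 : act (g * R h a ha) x = x := hx
          rw [act_mul, act_R, act_sub, act_smul] at e2
          have hgk : act g k = k := hk
          have e3 := congrArg (fun w => B w k) e2
          simp only [h.sub_left, h.smul_left] at e3
          have e4 : B (act g x) k = B x k := by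
            conv_lhs => rw [← hgk]
            exact B_act h g x k
          have e5 : B (act g a) k = B a k := by
            conv_lhs => rw [← hgk]
            exact B_act h g a k
          rw [e4, e5] at e3
          have e6 : B x a / Q a * B a k = 0 := by linear_combination -e3
          rcases mul_eq_zero.1 e6 with e7 | e7
          · exact (div_ne_zero hne ha) e7
          · apply hka
            rw [hs]
            exact e7
        rw [← key]
        exact ⟨hx, hxk⟩
      · rw [← key]
        exact inf_le_left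
    have e2 := finrank_inf_ker (Lf h a) (Fx g) hk hka
    unfold dd
    rw [e1]
    exact e2
  · push Not at hk
    right
    let T : (ι → F) →ₗ[F] (ι → F) :=
      { toFun := fun x => act g⁻¹ x - x
        map_add' := fun x y => by rw [act_add]; abel
        map_smul' := fun c x => by
          rw [act_smul, RingHom.id_apply, smul_sub] }
    have hmem : a ∈ LinearMap.range T := by
      by_contra hne
      obtain ⟨φ, hφ, hle⟩ := Submodule.exists_le_ker_of_notMem hne
      obtain ⟨k, hk'⟩ := exists_rep h hnd φ
      have e1 : ∀ x, B (act g⁻¹ x) k = B x k := by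
        intro x
        have e2 : φ (T x) = 0 := hle ⟨x, rfl⟩
        rw [hk'] at e2
        change B (act g⁻¹ x - x) k = 0 at e2
        rw [h.sub_left] at e2
        exact sub_eq_zero.1 e2
      have e2 : act g k = k := by
        rw [← sub_eq_zero]
        by_contra hne2
        obtain ⟨y, -, hy⟩ := hnd _ Submodule.mem_top hne2
        apply hy
        rw [h.sub_left, sub_eq_zero]
        have e3 := e1 y
        have e4 := B_act h g (act g⁻¹ y) k
        rw [act_act_inv] at e4
        rw [hs, e4, e3, hs]
      have e3 := hk k e2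
      apply hφ
      rw [hk', hs]
      exact e3
    obtain ⟨y, hy⟩ := hmem
    have hy' : act g⁻¹ y - y = a := hy
    have hya : B y a = - Q a := by
      have e1 : act g⁻¹ y = y + a := by rw [← hy']; abel
      have e2 := Q_act (Q := Q) g⁻¹ y
      rw [e1, h.add] at e2
      linear_combination e2
    have hyF : y ∈ Fx (g * R h a ha) := by
      rw [mem_Fx, act_mul, act_R, hya]
      have e1 : y - (-Q a / Q a) • a = act g⁻¹ y := by
        have e0 : -Q a / Q a = -1 := by field_simp
        rw [e0, neg_smul, one_smul, sub_neg_eq_add]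
        rw [← hy']
        abel
      rw [e1, act_act_inv]
    have e1 : Fx g ⊓ LinearMap.ker (Lf h a) = Fx g :=
      inf_eq_left.2 (fun x hx => hk x hx)
    have e2 := finrank_inf_ker (Lf h a) (Fx (g * R h a ha)) hyF (by
      rw [Lf_apply, hya]
      exact neg_ne_zero.2 ha)
    rw [key, e1] at e2
    unfold dd
    omega

/-- the elements which preserve the parity -/
def PP (Q : (ι → F) → F) : Subgroup (OG F Q) where
  carrier := {g | ∀ k, Even (dd (g * k) + dd k)}
  mul_mem' := fun {g g'} hg hg' k => by
    have e1 := hg (g' * k)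
    have e2 := hg' k
    rw [mul_assoc]
    rw [Nat.even_add] at e1 e2 ⊢
    exact e1.trans e2
  one_mem' := fun k => by
    rw [one_mul]
    exact Even.add_self _
  inv_mem' := fun {g} hg k => by
    have e1 := hg (g⁻¹ * k)
    rw [mul_inv_cancel_left] at e1
    rwa [add_comm]

lemma mem_PP {g : OG F Q} : g ∈ PP Q ↔ ∀ k, Even (dd (g * k) + dd k) := Iff.rfl

/-- reflections switch the parity -/
lemma dd_R_mul (h : QF Q B) (hnd : ND B (⊤ : Submodule F (ι → F))) (k : OG F Q) {a : ι → F} (ha : Q a ≠ 0) :
    Odd (dd (R h a ha * k) + dd k) := by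
  have e1 := dd_mul_R h hnd k⁻¹ ha
  have e2 : dd (k⁻¹ * R h a ha) = dd (R h a ha * k) := by
    rw [← dd_inv (R h a ha * k), _root_.mul_inv_rev, R_inv]
  rw [e2, dd_inv] at e1
  rw [Nat.odd_iff]
  omega

lemma R_mul_R_mem (h : QF Q B) (hnd : ND B (⊤ : Submodule F (ι → F))) {a b : ι → F} (ha : Q a ≠ 0) (hb : Q b ≠ 0) :
    R h a ha * R h b hb ∈ PP Q := by
  intro k
  have e1 := dd_R_mul h hnd (R h b hb * k) ha
  have e2 := dd_R_mul h hnd k hb
  rw [mul_assoc]
  rw [Nat.odd_iff] at e1 e2
  rw [Nat.even_iff]
  omega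

section Ctx
variable {m : ℕ} {t₀ : Fin m → (ι → F) × (ι → F)}

lemma E_mem_PP_aux (h : QF Q B) (hnd : ND B (⊤ : Submodule F (ι → F))) {u a : ι → F} (hA : Adm Q B u a) (ha : Q a ≠ 0) :
    E h hA ∈ PP Q := by
  obtain ⟨b, hb⟩ : ∃ b, b = (-(Q a)⁻¹) • a := ⟨_, rfl⟩
  have hQb : Q b = (Q a)⁻¹ := by
    rw [hb, h.smul]
    field_simp
  have hb0 : Q b ≠ 0 := by
    rw [hQb]
    exact inv_ne_zero ha
  have Bbu : B b u = 0 := by rw [hb, h.smul_left, hA.au, mul_zero]
  have hw : Q u = 0 := hA.uu
  have hadd : Q (b + u) = Q b := by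
    rw [h.add, hw, Bbu]
    ring
  have hb1 : Q (b + u) ≠ 0 := by rw [hadd]; exact hb0
  have e2 : (-(Q b)⁻¹) • b = a := by
    rw [hQb, inv_inv, hb, smul_smul]
    have : -Q a * -(Q a)⁻¹ = 1 := by field_simp
    rw [this, one_smul]
  have hA' : Adm Q B u ((-(Q b)⁻¹) • b) := ⟨hw, by rw [e2]; exact hA.au⟩
  have e3 := R_mul_R h hb0 hw Bbu hb1 hA'
  have e4 : E h hA = E h hA' := E_congr h _ _ rfl e2.symm
  rw [e4, ← e3]
  exact R_mul_R_mem h hnd hb1 hb0

/-- Siegel maps preserve the parity -/
lemma E_mem_PP (h : QF Q B) (hnd : ND B (⊤ : Submodule F (ι → F))) (ht : IsHF Q B t₀) (hm : 2 < m) {u a : ι → F} (hA : Adm Q B u a) :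
    E h hA ∈ PP Q := by
  by_cases ha : Q a = 0
  · by_cases hu0 : u = 0
    · subst hu0
      rw [E_zero_left]
      exact Subgroup.one_mem _
    by_cases hc : ∃ c : F, a = c • u
    · obtain ⟨c, rfl⟩ := hc
      rw [E_self]
      exact Subgroup.one_mem _
    · push Not at hc
      have hI : Ind2 u a := ind2_of_not_mult hu0 hc
      have hs := fun x y => h.symm x y
      have Bua : B u a = 0 := by rw [hs]; exact hA.au
      have Buu' := Buu h hA.uu
      have Baa := Buu h ha
      obtain ⟨t, ht1, ht2, -⟩ := exists_frame (k := 2) h hnd ![u, a] (fun _ => Submodule.mem_top)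
        (by
          intro i
          fin_cases i
          · exact hA.uu
          · exact ha)
        (by
          intro i j
          fin_cases i <;> fin_cases j
          · exact Buu'
          · exact Bua
          · exact hA.au
          · exact Baa)
        (ind2_iff.1 hI)
      obtain ⟨w', hw', hw'0, Qw'⟩ := hasSing h ht hm t ht1
      obtain ⟨v, hv, Qv, Bvw⟩ := exists_partner h (ND_perpOf h hnd t ht1) hw' hw'0 Qw'
      have hu1 : (t 0).1 = u := ht2 0
      have ha1 : (t 1).1 = a := ht2 1
      obtain ⟨w, hw⟩ : ∃ w, w = w' + v := ⟨_, rfl⟩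
      have Qw : Q w = 1 := by
        rw [hw, h.add, Qw', Qv, hs, Bvw]
        ring
      have Bwu : B w u = 0 := by
        rw [hw, h.add_left]
        have e1 := (hw' 0).1
        have e2 := (hv 0).1
        rw [hu1] at e1 e2
        rw [e1, e2, add_zero]
      have Bwa : B w a = 0 := by
        rw [hw, h.add_left]
        have e1 := (hw' 1).1
        have e2 := (hv 1).1
        rw [ha1] at e1 e2
        rw [e1, e2, add_zero]
      have Qaw : Q (a + w) = 1 := by
        rw [h.add, ha, Qw, hs, Bwa]
        ring
      have Qnw : Q (-w) = 1 := by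
        have := h.smul (-1) w
        simpa [Qw] using this
      have A1 : Adm Q B u (a + w) := adm_add h hA ⟨hA.uu, Bwu⟩
      have A2 : Adm Q B u (-w) := adm_neg h ⟨hA.uu, Bwu⟩
      have e1 : E h hA = E h A1 * E h A2 := by
        rw [E_mul]
        exact E_congr h _ _ rfl (by abel)
      rw [e1]
      exact Subgroup.mul_mem _ (E_mem_PP_aux h hnd A1 (by rw [Qaw]; exact one_ne_zero))
        (E_mem_PP_aux h hnd A2 (by rw [Qnw]; exact one_ne_zero))
  · exact E_mem_PP_aux h hnd hA ha

theorem SS_le_PP (h : QF Q B) (hnd : ND B (⊤ : Submodule F (ι → F))) (ht : IsHF Q B t₀) (hm : 2 < m) : SS h ≤ PP Q := by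
  rw [SS, Subgroup.closure_le]
  rintro _ ⟨u, a, hA, rfl⟩
  exact E_mem_PP h hnd ht hm hA

/-- reflections are not in `SS` -/
theorem R_not_mem_SS (h : QF Q B) (hnd : ND B (⊤ : Submodule F (ι → F))) (ht : IsHF Q B t₀) (hm : 2 < m) {a : ι → F} (ha : Q a ≠ 0) :
    R h a ha ∉ SS h := by
  intro hR
  have e1 := SS_le_PP h hnd ht hm hR 1
  have e2 := dd_R_mul h hnd 1 ha
  rw [Nat.even_iff] at e1
  rw [Nat.odd_iff] at e2
  omega

lemma Fx_one : Fx (1 : OG F Q) = ⊤ := by
  ext x
  simp [mem_Fx, act_one]

lemma dd_one : dd (1 : OG F Q) = Fintype.card ι := by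
  unfold dd
  rw [Fx_one, finrank_top, Module.finrank_fintype_fun_eq_card]

/-- an element of `SS` has fixed spaces of dimension of the same parity as the whole space -/
theorem even_of_mem_SS (h : QF Q B) (hnd : ND B (⊤ : Submodule F (ι → F))) (ht : IsHF Q B t₀) (hm : 2 < m) {s : OG F Q}
    (hs : s ∈ SS h) : Even (dd s + Fintype.card ι) := by
  have e1 := SS_le_PP h hnd ht hm hs 1
  rwa [mul_one, dd_one] at e1

/-- `-1` lies outside `SS` in odd dimension -/
theorem neg_not_mem_SS (h : QF Q B) (hnd : ND B (⊤ : Submodule F (ι → F))) (ht : IsHF Q B t₀) (hm : 2 < m) (h2 : (2 : F) ≠ 0)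
    (hodd : Odd (Fintype.card ι)) {s : OG F Q} (hact : ∀ x, act s x = - x) : s ∉ SS h := by
  intro hs
  have e1 := even_of_mem_SS h hnd ht hm hs
  have e2 : Fx s = ⊥ := by
    rw [eq_bot_iff]
    intro x hx
    have e3 : act s x = x := hx
    rw [hact] at e3
    have e4 : (2 : F) • x = 0 := by
      rw [two_smul]
      nth_rewrite 1 [← e3]
      simp
    exact (smul_eq_zero.1 e4).resolve_left h2
  have e3 : dd s = 0 := by
    unfold dd
    rw [e2, finrank_bot]
  rw [e3, zero_add] at e1
  exact (Nat.not_even_iff_odd.2 hodd) e1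

end Ctx

end Cfsg.Agent.H01.Om
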