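import Cfsg.Agent.Lib.H01.OmInd
/-! Unipotent radicals of stabilisers of points; automorphisms permute them. -/
set_option autoImplicit false
set_option linter.unusedSimpArgs false
set_option linter.style.haveILetI false
set_option linter.unusedSectionVars false
set_option linter.unusedVariables false
namespace Cfsg.Agent.H01.Om
open Matrix Cfsg.Agent.Lead.Ortho Cfsg.Agent.Lead.Omega

variable {F : Type*} [Field F] [Fintype F] {ι : Type} [Fintype ι] [DecidableEq ι]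
variable {Q : (ι → F) → F} {B : (ι → F) → (ι → F) → F}
variable {m : ℕ} {t₀ : Fin m → (ι → F) × (ι → F)}

/-- the radical of the stabiliser of a point -/
def Cx.QQ (C : Cx Q B t₀) (u : ι → F) : Set (Cfsg.POmega F Q) := {g | ∃ a, B a u = 0 ∧ g = C.ee u a}

section QQ
variable (C : Cx Q B t₀)
include C

lemma Cx.ee_eq_of_eO {u a u' a' : ι → F} (H : eO C.h u a = eO C.h u' a') : C.ee u a = C.ee u' a' := by
  unfold Cx.ee
  congr 1
  exact Subtype.ext H

lemma Cx.ee_zero {u : ι → F} (Qu : Q u = 0) : C.ee u 0 = 1 := by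
  unfold Cx.ee
  rw [C.em_zero Qu]
  rfl

lemma Cx.ee_add_self {u a : ι → F} (Qu : Q u = 0) (ha : B a u = 0) (c : F) : C.ee u (a + c • u) = C.ee u a := by
  have h := C.h
  have hc : Adm Q B u (c • u) := ⟨Qu, by rw [h.smul_left, Buu h Qu, mul_zero]⟩
  rw [← C.ee_mul ⟨Qu, ha⟩ hc]
  have : C.ee u (c • u) = 1 := by
    rw [← C.ee_zero Qu]
    exact C.ee_eq_of_eO (by rw [eO_self Qu, eO_zero Qu])
  rw [this, mul_one]

lemma Cx.QQ_mul {u : ι → F} (Qu : Q u = 0) {x y : Cfsg.POmega F Q} (hx : x ∈ C.QQ u) (hy : y ∈ C.QQ u) : x * y ∈ C.QQ u := by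
  obtain ⟨a, ha, rfl⟩ := hx
  obtain ⟨b, hb, rfl⟩ := hy
  refine ⟨a + b, by rw [C.h.add_left, ha, hb, add_zero], C.ee_mul ⟨Qu, ha⟩ ⟨Qu, hb⟩⟩

lemma Cx.one_mem_QQ {u : ι → F} (Qu : Q u = 0) : (1 : Cfsg.POmega F Q) ∈ C.QQ u :=
  ⟨0, C.h.zero_left u, (C.ee_zero Qu).symm⟩

lemma Cx.QQ_scale {u : ι → F} {c : F} (hc : c ≠ 0) (Qu : Q u = 0) : C.QQ (c • u) = C.QQ u := by
  have h := C.h
  have Qcu : Q (c • u) = 0 := by rw [h.smul, Qu, mul_zero]
  ext g
  constructor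
  · rintro ⟨a, ha, rfl⟩
    have hA : Adm Q B (c • u) a := ⟨Qcu, ha⟩
    refine ⟨c • a, (adm_scale h hc hA).au, C.ee_eq_of_eO (eO_scale hc hA)⟩
  · rintro ⟨a, ha, rfl⟩
    have ha' : B (c⁻¹ • a) (c • u) = 0 := by
      rw [h.smul_left, h.smul_right, ha]
      ring
    refine ⟨c⁻¹ • a, ha', ?_⟩
    have hA : Adm Q B (c • u) (c⁻¹ • a) := ⟨Qcu, ha'⟩
    apply C.ee_eq_of_eO
    rw [eO_scale hc hA, smul_smul, mul_inv_cancel₀ hc, one_smul]

/-- the image of the radical of a point lies in the radical of a point -/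
theorem Cx.image_QQ (HH : NoFour Q B ∨ Big C.h) (α : MulAut (Cfsg.POmega F Q)) {z : ι → F} (Qz : Q z = 0) (hz0 : z ≠ 0) :
    ∃ p, p ≠ 0 ∧ Q p = 0 ∧ α '' C.QQ z ⊆ C.QQ p := by
  have h := C.h
  have hs := fun x y => h.symm x y
  have hα := C.perm α
  have hα' := C.perm α⁻¹
  have M := C.lm hα hα'
  obtain ⟨p, hp0, hp⟩ := M.star C HH Qz hz0
  -- the partner
  obtain ⟨f₀, -, Qf₀, hf₀⟩ := exists_partner h C.nd Submodule.mem_top hz0 Qz
  have Bzf₀ : B z f₀ = 1 := by rw [hs]; exact hf₀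
  have Bzz := Buu h Qz
  let t1 : Fin 1 → (ι → F) × (ι → F) := fun _ => (z, f₀)
  have ht1 : IsHF Q B t1 := by
    intro i j
    have : i = j := Subsingleton.elim _ _
    subst this
    exact ⟨by simpa [t1] using Bzf₀, fun hne => absurd rfl hne, Qz, Qf₀⟩
  have hm1 : 1 < m := by have := C.hm; omega
  obtain ⟨u, hu, hu0, Qu⟩ := hasSing h C.ht hm1 t1 ht1
  obtain ⟨v, hv, Qv, hvu⟩ := exists_partner h (ND_perpOf h C.nd t1 ht1) hu hu0 Qu
  have Buv : B u v = 1 := by rw [hs]; exact hvu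
  have hQp : Q p = 0 := by
    have Bzu : B z u = 0 := by rw [hs]; exact (hu 0).1
    have Ind : Ind2 z u := by
      intro s t e
      have e1 := congrArg (fun w => B w f₀) e
      have e2 : B u f₀ = 0 := (hu 0).2
      simp only [h.add_left, h.smul_left, Bzf₀, e2, h.zero_left, mul_one, mul_zero, add_zero] at e1
      subst e1
      rw [zero_smul, zero_add] at e
      exact ⟨rfl, (smul_eq_zero.1 e).resolve_right hu0⟩
    have hL := isLn_sp h Qz Qu Bzu Ind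
    exact (M.ln _ hL).ts p (hp _ hL (mem_sp_left _ _))
  refine ⟨p, hp0, hQp, ?_⟩
  have hsing : ∀ w ∈ perpOf h t1, Q w = 0 → α (C.ee z w) ∈ C.QQ p := by
    intro w hw Qw
    by_cases hw0 : w = 0
    · rw [hw0, C.ee_zero Qz, map_one]
      exact C.one_mem_QQ hQp
    have Bzw : B z w = 0 := by rw [hs]; exact (hw 0).1
    have Ind : Ind2 z w := by
      intro s t e
      have e1 := congrArg (fun w => B w f₀) e
      have e2 : B w f₀ = 0 := (hw 0).2
      simp only [h.add_left, h.smul_left, Bzf₀, e2, h.zero_left, mul_one, mul_zero, add_zero] at e1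
      subst e1
      rw [zero_smul, zero_add] at e
      exact ⟨rfl, (smul_eq_zero.1 e).resolve_right hw0⟩
    have hL := isLn_sp h Qz Qw Bzw Ind
    obtain ⟨l1, l2⟩ := C.lmap_spec hα hL
    have e1 : α (C.ee z w) ∈ C.RX (C.lmap α (sp z w)) := by
      rw [← l2]
      exact ⟨_, C.mem_RX (mem_sp_left _ _) (mem_sp_right _ _), rfl⟩
    obtain ⟨b, hb, e2⟩ := C.RX_of_mem l1 (hp _ hL (mem_sp_left _ _)) hp0 e1
    exact ⟨b, l1.B0 h hb (hp _ hL (mem_sp_left _ _)), e2⟩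
  rintro _ ⟨_, ⟨a, ha, rfl⟩, rfl⟩
  -- decompose
  obtain ⟨a', ha'⟩ : ∃ a', a' = a - B a f₀ • z := ⟨_, rfl⟩
  have a'mem : a' ∈ perpOf h t1 := by
    intro i
    constructor
    · change B a' z = 0
      rw [ha', h.sub_left, h.smul_left, ha, Bzz]
      ring
    · change B a' f₀ = 0
      rw [ha', h.sub_left, h.smul_left, Bzf₀]
      ring
  obtain ⟨r, s, w, hw, Qw, ew⟩ := decomp3 h hu hv Qu Qv Buv a'mem
  have e0 : a = a' + B a f₀ • z := by rw [ha']; abel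
  have ha'z : B a' z = 0 := (a'mem 0).1
  have huz : B u z = 0 := (hu 0).1
  have hvz : B v z = 0 := (hv 0).1
  have hwz : B w z = 0 := (hw 0).1
  have A1 : Adm Q B z (r • u) := ⟨Qz, by rw [h.smul_left, huz, mul_zero]⟩
  have A2 : Adm Q B z (s • v) := ⟨Qz, by rw [h.smul_left, hvz, mul_zero]⟩
  have A3 : Adm Q B z w := ⟨Qz, hwz⟩
  have e1 : C.ee z a = C.ee z (r • u) * C.ee z (s • v) * C.ee z w := by
    rw [e0, C.ee_add_self Qz ha'z, ew, C.ee_mul A1 A2, C.ee_mul (adm_add h A1 A2) A3]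
  rw [e1, map_mul, map_mul]
  refine C.QQ_mul hQp (C.QQ_mul hQp ?_ ?_) (hsing w hw Qw)
  · apply hsing _ ((perpOf h t1).smul_mem _ hu)
    rw [h.smul, Qu, mul_zero]
  · apply hsing _ ((perpOf h t1).smul_mem _ hv)
    rw [h.smul, Qv, mul_zero]

/-- swapping the two arguments of a pure Siegel map -/
lemma Cx.eO_swap {u v : ι → F} (Qu : Q u = 0) (Qv : Q v = 0) (Buv : B u v = 0) : eO C.h u v = eO C.h v (-u) := by
  have h := C.h
  apply eO_ext ⟨Qu, by rw [h.symm]; exact Buv⟩ ⟨Qv, by rw [h.neg_left, Buv, neg_zero]⟩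
  intro w
  have Qnu : Q (-u) = 0 := by
    have := h.smul (-1) u
    simpa [Qu] using this
  rw [Efun_pure Qv, Efun_pure Qnu]
  have e3 : B w (-u) = - B w u := by rw [h.symm, h.neg_left, h.symm]
  rw [e3]
  funext i
  simp only [Pi.add_apply, Pi.sub_apply, Pi.smul_apply, smul_eq_mul, Pi.neg_apply]
  ring

/-- radicals of a point determine the point -/
lemma Cx.par_of_QQ {z z' : ι → F} (Qz : Q z = 0) (hz0 : z ≠ 0) (Qz' : Q z' = 0) (hz'0 : z' ≠ 0) (H : C.QQ z ⊆ C.QQ z') :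
    ∃ c : F, c ≠ 0 ∧ z' = c • z := by
  have h := C.h
  have hs := fun x y => h.symm x y
  obtain ⟨a, b, Qa, Qb, Bza, Bzb, Bab, Iza, Izb, hbn⟩ := exists_two C Qz hz0
  have key : ∀ a, Q a = 0 → B z a = 0 → Ind2 z a → z' ∈ sp z a := by
    intro a Qa Bza Iza
    have A : Adm Q B z a := ⟨Qz, by rw [hs]; exact Bza⟩
    obtain ⟨a₁, ha₁, e⟩ := H ⟨a, A.au, rfl⟩
    have A' : Adm Q B z' a₁ := ⟨Qz', ha₁⟩
    have e2 := C.eO_of_ee_eq A A' e
    have hne : ∀ c : F, a₁ ≠ c • z' := by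
      rintro c rfl
      have e3 := C.ee_ne_one A Qa Iza
      apply e3
      rw [e, ← C.ee_zero Qz']
      exact C.ee_eq_of_eO (by rw [eO_self Qz', eO_zero Qz'])
    exact (C.mem_of_eO_eq A' A Qa e2.symm (ind2_of_not_mult hz'0 hne)).1
  have m1 := key a Qa Bza Iza
  have m2 := key b Qb Bzb Izb
  rw [Submodule.mem_span_pair] at m1 m2
  obtain ⟨r, s, e1⟩ := m1
  obtain ⟨r', s', e2⟩ := m2
  have hs' : s' = 0 := by
    by_contra hs'
    apply hbn
    rw [Submodule.mem_span_pair]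
    refine ⟨s'⁻¹ * (r - r'), s'⁻¹ * s, ?_⟩
    have e3 : r' • z + s' • b = r • z + s • a := e2.trans e1.symm
    have e4 : b = s'⁻¹ • (r' • z + s' • b) - (s'⁻¹ * r') • z := by
      funext i
      simp only [Pi.add_apply, Pi.sub_apply, Pi.smul_apply, smul_eq_mul]
      field_simp
      ring
    rw [e4, e3]
    funext i
    simp only [Pi.add_apply, Pi.sub_apply, Pi.smul_apply, smul_eq_mul]
    ring
  rw [hs', zero_smul, add_zero] at e2
  refine ⟨r', ?_, e2.symm⟩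
  rintro rfl
  rw [zero_smul] at e2
  exact hz'0 e2.symm

/-- **Automorphisms permute the radicals of points.** -/
theorem Cx.image_QQ_eq (HH : NoFour Q B ∨ Big C.h) (α : MulAut (Cfsg.POmega F Q)) {z : ι → F} (Qz : Q z = 0) (hz0 : z ≠ 0) :
    ∃ p, p ≠ 0 ∧ Q p = 0 ∧ α '' C.QQ z = C.QQ p := by
  obtain ⟨p, hp0, Qp, h1⟩ := C.image_QQ HH α Qz hz0
  obtain ⟨z', hz'0, Qz', h2⟩ := C.image_QQ HH α⁻¹ Qp hp0
  refine ⟨p, hp0, Qp, Set.Subset.antisymm h1 ?_⟩
  have h3 : C.QQ z ⊆ C.QQ z' := by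
    intro x hx
    have := h2 ⟨α x, h1 ⟨x, hx, rfl⟩, rfl⟩
    simpa using this
  obtain ⟨c, hc, e⟩ := C.par_of_QQ Qz hz0 Qz' hz'0 h3
  rw [e, C.QQ_scale hc Qz] at h2
  intro y hy
  exact ⟨α⁻¹ y, h2 ⟨y, hy, rfl⟩, by simp⟩

/-- opposite radicals meet trivially -/
lemma Cx.inter_QQ {e f a a' : ι → F} (Qe : Q e = 0) (Qf : Q f = 0) (Bef : B e f = 1) (ha : B a e = 0) (ha' : B a' f = 0)
    (H : C.ee e a = C.ee f a') : C.ee e a = 1 := by
  have h := C.h
  have hs := fun x y => h.symm x y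
  have A : Adm Q B e a := ⟨Qe, ha⟩
  have A' : Adm Q B f a' := ⟨Qf, ha'⟩
  have e1 := C.eO_of_ee_eq A A' H
  have e2 : act (eO C.h e a) f = act (eO C.h f a') f := by rw [e1]
  rw [act_eO A, act_eO A'] at e2
  unfold Efun at e2
  have Bfe : B f e = 1 := by rw [hs]; exact Bef
  have Bff := Buu h Qf
  rw [Bfe, Bff, hs f a', ha'] at e2
  have e3 : a = (B f a + Q a) • e := by
    funext i
    have := congrFun e2 i
    simp only [Pi.add_apply, Pi.sub_apply, Pi.smul_apply, smul_eq_mul, zero_smul, mul_zero, add_zero, mul_one, zero_add,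
      sub_zero, Pi.zero_apply] at this ⊢
    linear_combination this
  rw [e3, ← C.ee_zero Qe]
  exact C.ee_eq_of_eO (by rw [eO_self Qe, eO_zero Qe])

/-- the images of opposite points are opposite -/
lemma Cx.nonperp {e f p p' : ι → F} (Qe : Q e = 0) (Qf : Q f = 0) (Bef : B e f = 1) (Qp : Q p = 0) (Qp' : Q p' = 0) (hp0 : p ≠ 0)
    (hp'0 : p' ≠ 0) (α : MulAut (Cfsg.POmega F Q)) (h1 : α '' C.QQ e = C.QQ p) (h2 : α '' C.QQ f = C.QQ p') : B p p' ≠ 0 := by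
  have h := C.h
  have hs := fun x y => h.symm x y
  intro Bpp'
  -- a nontrivial element of both radicals
  obtain ⟨x, hx1, hx2, hx3⟩ : ∃ x, x ∈ C.QQ p ∧ x ∈ C.QQ p' ∧ x ≠ 1 := by
    by_cases hc : ∃ c : F, p' = c • p
    · obtain ⟨c, rfl⟩ := hc
      have hc0 : c ≠ 0 := by
        rintro rfl
        simp at hp'0
      obtain ⟨a, b, Qa, Qb, Bpa, Bpb, Bab, Ipa, Ipb, hbn⟩ := exists_two C Qp hp0
      have A : Adm Q B p a := ⟨Qp, by rw [hs]; exact Bpa⟩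
      refine ⟨C.ee p a, ⟨a, A.au, rfl⟩, ?_, C.ee_ne_one A Qa Ipa⟩
      rw [C.QQ_scale hc0 Qp]
      exact ⟨a, A.au, rfl⟩
    · push Not at hc
      have I := ind2_of_not_mult hp0 hc
      have A : Adm Q B p p' := ⟨Qp, by rw [hs]; exact Bpp'⟩
      refine ⟨C.ee p p', ⟨p', A.au, rfl⟩, ?_, C.ee_ne_one A Qp' I⟩
      refine ⟨-p, by rw [h.neg_left, Bpp', neg_zero], ?_⟩
      exact C.ee_eq_of_eO (C.eO_swap Qp Qp' Bpp')
  rw [← h1] at hx1
  rw [← h2] at hx2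
  obtain ⟨y, ⟨a, ha, rfl⟩, rfl⟩ := hx1
  obtain ⟨y', ⟨a', ha', rfl⟩, e3⟩ := hx2
  have e4 : C.ee e a = C.ee f a' := (α.injective e3).symm
  rw [C.inter_QQ Qe Qf Bef ha ha' e4, map_one] at hx3
  exact hx3 rfl

end QQ

end Cfsg.Agent.H01.Om
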