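import Cfsg.Agent.Lib.H01.OmTri
/-! Root groups of lines; the group-theoretic relations between them. -/
set_option autoImplicit false
set_option linter.unusedSimpArgs false
set_option linter.style.haveILetI false
set_option linter.unusedSectionVars false
set_option linter.unusedVariables false
namespace Cfsg.Agent.H01.Om
open Matrix Cfsg.Agent.Lead.Ortho Cfsg.Agent.Lead.Omega

variable {F : Type*} [Field F] [Fintype F] {ι : Type} [Fintype ι] [DecidableEq ι]
variable {Q : (ι → F) → F} {B : (ι → F) → (ι → F) → F}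
variable {m : ℕ} {t₀ : Fin m → (ι → F) × (ι → F)}

/-- the root group of a line -/
def Cx.RX (C : Cx Q B t₀) (L : Submodule F (ι → F)) : Set (Cfsg.POmega F Q) :=
  {g | ∃ x ∈ L, ∃ y ∈ L, g = C.ee x y}

section Basic
variable (C : Cx Q B t₀)
include C

lemma IsLn.adm {L : Submodule F (ι → F)} (hL : IsLn Q L) {x y : ι → F} (hx : x ∈ L) (hy : y ∈ L) : Adm Q B x y :=
  ⟨hL.ts x hx, hL.B0 C.h hy hx⟩

/-- change of basis in a line -/
lemma eO_basis {u v x y : ι → F} {L : Submodule F (ι → F)} (hL : IsLn Q L) (hu : u ∈ L) (hv : v ∈ L)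
    {s₁ t₁ s₂ t₂ : F} (hx : x = s₁ • u + t₁ • v) (hy : y = s₂ • u + t₂ • v) :
    eO C.h x y = eO C.h u ((s₁ * t₂ - t₁ * s₂) • v) := by
  have h := C.h
  have hxL : x ∈ L := by rw [hx]; exact L.add_mem (L.smul_mem _ hu) (L.smul_mem _ hv)
  have hyL : y ∈ L := by rw [hy]; exact L.add_mem (L.smul_mem _ hu) (L.smul_mem _ hv)
  have hvL : (s₁ * t₂ - t₁ * s₂) • v ∈ L := L.smul_mem _ hv
  apply eO_ext (IsLn.adm C hL hxL hyL) (IsLn.adm C hL hu hvL)
  intro w
  rw [Efun_pure (hL.ts y hyL), Efun_pure (hL.ts _ hvL), hx, hy]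
  simp only [h.add_right, h.smul_right]
  funext i
  simp only [Pi.add_apply, Pi.sub_apply, Pi.smul_apply, smul_eq_mul]
  ring

/-- every element of the root group of a line has the form `E(z, a)` for a given point `z` of the line -/
lemma Cx.RX_of_mem {L : Submodule F (ι → F)} (hL : IsLn Q L) {z : ι → F} (hz : z ∈ L) (hz0 : z ≠ 0) {g : Cfsg.POmega F Q}
    (hg : g ∈ C.RX L) : ∃ a ∈ L, g = C.ee z a := by
  obtain ⟨a₀, ha₀, I, e⟩ := hL.exists_sp hz hz0
  obtain ⟨x, hx, y, hy, rfl⟩ := hg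
  rw [e, Submodule.mem_span_pair] at hx hy
  obtain ⟨s₁, t₁, hx⟩ := hx
  obtain ⟨s₂, t₂, hy⟩ := hy
  refine ⟨(s₁ * t₂ - t₁ * s₂) • a₀, L.smul_mem _ ha₀, ?_⟩
  unfold Cx.ee
  congr 1
  apply Subtype.ext
  exact eO_basis C hL hz ha₀ hx.symm hy.symm

lemma Cx.mem_RX {L : Submodule F (ι → F)} {x y : ι → F} (hx : x ∈ L) (hy : y ∈ L) : C.ee x y ∈ C.RX L :=
  ⟨x, hx, y, hy, rfl⟩

/-- injectivity on lines -/
lemma Cx.le_of_RX {L M : Submodule F (ι → F)} (hL : IsLn Q L) (hM : IsLn Q M) (H : C.RX L ⊆ C.RX M) : L ≤ M := by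
  have h := C.h
  obtain ⟨u, hu, hu0⟩ := hL.exists_ne
  obtain ⟨v, hv, I, e⟩ := hL.exists_sp hu hu0
  obtain ⟨x, hx, y, hy, e2⟩ := H (C.mem_RX hu hv)
  have e3 := C.eO_of_ee_eq (IsLn.adm C hL hu hv) (IsLn.adm C hM hx hy) e2
  obtain ⟨m1, m2⟩ := C.mem_of_eO_eq (IsLn.adm C hL hu hv) (IsLn.adm C hM hx hy) (hM.ts y hy) e3 I
  have hle : sp x y ≤ M := by
    rw [Submodule.span_le]
    rintro z (rfl | rfl)
    · exact hx
    · exact hy
  rw [e, Submodule.span_le]
  rintro z (rfl | rfl)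
  · exact hle m1
  · exact hle m2

lemma Cx.eq_of_RX {L M : Submodule F (ι → F)} (hL : IsLn Q L) (hM : IsLn Q M) (H : C.RX L = C.RX M) : L = M :=
  hL.eq_of_le hM (C.le_of_RX hL hM H.le)

/-- Siegel maps of perpendicular lines commute -/
lemma eO_comm_of_prp {a b c d : ι → F} (hA : Adm Q B a b) (hA' : Adm Q B c d) (Qb : Q b = 0) (Qd : Q d = 0)
    (h1 : B a c = 0) (h2 : B a d = 0) (h3 : B b c = 0) (h4 : B b d = 0) :
    eO C.h a b * eO C.h c d = eO C.h c d * eO C.h a b := by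
  have h := C.h
  apply og_ext
  intro w
  rw [act_mul, act_mul, act_eO hA, act_eO hA', act_eO hA, act_eO hA', Efun_pure Qb, Efun_pure Qd, Efun_pure Qb, Efun_pure Qd]
  simp only [h.add_left, h.sub_left, h.smul_left, h.symm c a, h.symm d a, h.symm c b, h.symm d b, h1, h2, h3, h4]
  funext i
  simp only [Pi.add_apply, Pi.sub_apply, Pi.smul_apply, smul_eq_mul]
  ring

/-- geometry gives commuting root groups -/
lemma Cx.comm_of_geo {L M : Submodule F (ι → F)} (hL : IsLn Q L) (hM : IsLn Q M) (H : Meet L M ∨ Prp B L M) :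
    ∀ x ∈ C.RX L, ∀ y ∈ C.RX M, x * y = y * x := by
  rcases H with ⟨z, hz0, h1, h2⟩ | H
  · intro x hx y hy
    obtain ⟨a, ha, rfl⟩ := C.RX_of_mem hL h1 hz0 hx
    obtain ⟨b, hb, rfl⟩ := C.RX_of_mem hM h2 hz0 hy
    have A1 := IsLn.adm C hL h1 ha
    have A2 := IsLn.adm C hM h2 hb
    rw [C.ee_mul A1 A2, C.ee_mul A2 A1, add_comm]
  · rintro x ⟨a, ha, b, hb, rfl⟩ y ⟨c, hc, d, hd, rfl⟩
    unfold Cx.ee
    rw [← QuotientGroup.mk_mul, ← QuotientGroup.mk_mul]
    congr 1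
    apply Subtype.ext
    exact eO_comm_of_prp C (IsLn.adm C hL ha hb) (IsLn.adm C hM hc hd) (hL.ts b hb) (hM.ts d hd)
      (H a ha c hc) (H a ha d hd) (H b hb c hc) (H b hb d hd)

lemma ind2_act (g : OG F Q) {x y : ι → F} (H : Ind2 x y) : Ind2 (act g x) (act g y) := by
  intro s t e
  apply H
  apply act_injective g
  rw [act_add, act_smul, act_smul, e, act_zero]

/-- commuting root groups have perpendicular or meeting lines -/
lemma Cx.geo_of_comm {L M : Submodule F (ι → F)} (hL : IsLn Q L) (hM : IsLn Q M)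
    (H : ∀ x ∈ C.RX L, ∀ y ∈ C.RX M, x * y = y * x) : Meet L M ∨ Prp B L M := by
  have h := C.h
  by_cases hm : Meet L M
  · exact Or.inl hm
  right
  obtain ⟨u, hu, hu0⟩ := hL.exists_ne
  obtain ⟨v, hv, I, e⟩ := hL.exists_sp hu hu0
  obtain ⟨u', hu', hu'0⟩ := hM.exists_ne
  obtain ⟨v', hv', I', e'⟩ := hM.exists_sp hu' hu'0
  have A := IsLn.adm C hL hu hv
  have A' := IsLn.adm C hM hu' hv'
  have e1 := C.conj_of_comm (C.em u v) A' (H _ (C.mem_RX hu hv) _ (C.mem_RX hu' hv'))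
  change eO C.h (act (eO C.h u v) u') (act (eO C.h u v) v') = eO C.h u' v' at e1
  obtain ⟨m1', m2'⟩ := C.mem_of_eO_eq (adm_conj h _ A') A' (hM.ts v' hv') e1 (ind2_act C _ I')
  have m1 : act (eO C.h u v) u' ∈ M := by rw [e']; exact m1'
  have m2 : act (eO C.h u v) v' ∈ M := by rw [e']; exact m2'
  have key : ∀ w ∈ M, act (eO C.h u v) w ∈ M → B w u = 0 ∧ B w v = 0 := by
    intro w hw hw'
    have e3 : act (eO C.h u v) w - w = B w u • v - B w v • u := by
      rw [act_eO A, Efun_pure (hL.ts v hv)]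
      abel
    have e4 : B w u • v - B w v • u ∈ L := L.sub_mem (L.smul_mem _ hv) (L.smul_mem _ hu)
    have e5 : B w u • v - B w v • u ∈ M := by
      rw [← e3]
      exact M.sub_mem hw' hw
    have e6 : B w u • v - B w v • u = 0 := by
      by_contra hne
      exact hm ⟨_, hne, e4, e5⟩
    have e7 := I (- B w v) (B w u) (by rw [← e6]; rw [neg_smul]; abel)
    exact ⟨e7.2, neg_eq_zero.1 e7.1⟩
  obtain ⟨k1, k2⟩ := key u' hu' m1
  obtain ⟨k3, k4⟩ := key v' hv' m2
  rw [e, e']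
  exact prp_sp h (by rw [h.symm]; exact k1) (by rw [h.symm]; exact k3) (by rw [h.symm]; exact k2) (by rw [h.symm]; exact k4)

/-- products of elements of adjacent root groups are root elements -/
lemma Cx.prod_of_geo {L M : Submodule F (ι → F)} (hL : IsLn Q L) (hM : IsLn Q M) (H : Meet L M) (H' : Prp B L M) :
    ∀ x ∈ C.RX L, ∀ y ∈ C.RX M, ∃ N, IsLn Q N ∧ x * y ∈ C.RX N := by
  have h := C.h
  obtain ⟨z, hz0, h1, h2⟩ := H
  intro x hx y hy
  obtain ⟨a, ha, rfl⟩ := C.RX_of_mem hL h1 hz0 hx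
  obtain ⟨b, hb, rfl⟩ := C.RX_of_mem hM h2 hz0 hy
  have A1 := IsLn.adm C hL h1 ha
  have A2 := IsLn.adm C hM h2 hb
  rw [C.ee_mul A1 A2]
  have Qz := hL.ts z h1
  have Qab : Q (a + b) = 0 := by
    rw [h.add, hL.ts a ha, hM.ts b hb, H' a ha b hb]
    ring
  have Bzab : B z (a + b) = 0 := by
    rw [h.add_right, hL.B0 h h1 ha, hM.B0 h h2 hb, add_zero]
  by_cases hc : ∃ c : F, a + b = c • z
  · obtain ⟨c, hc⟩ := hc
    refine ⟨L, hL, ?_⟩
    have e : C.ee z (a + b) = C.ee z 0 := by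
      unfold Cx.ee
      congr 1
      apply Subtype.ext
      change eO C.h z (a + b) = eO C.h z 0
      rw [hc, eO_self Qz, eO_zero Qz]
    rw [e]
    exact C.mem_RX h1 (L.zero_mem)
  · push Not at hc
    have I := ind2_of_not_mult hz0 hc
    exact ⟨_, isLn_sp h Qz Qab Bzab I, C.mem_RX (mem_sp_left _ _) (mem_sp_right _ _)⟩

/-- the finrank of a span of two vectors is at most two -/
lemma finrank_sp_le (x y : ι → F) : Module.finrank F (sp x y) ≤ 2 := by
  rw [sp_eq_range]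
  have := finrank_range_le_card (R := F) ![x, y]
  simpa [Set.finrank] using this

/-- a line in the span of two vectors is that span -/
lemma IsLn.eq_sp_of_le {N : Submodule F (ι → F)} (hN : IsLn Q N) {x y : ι → F} (hle : N ≤ sp x y) : N = sp x y :=
  Submodule.eq_of_le_of_finrank_le hle (by rw [hN.rk]; exact finrank_sp_le C x y)

/-- elements of root groups whose products are root elements: the geometry -/
lemma Cx.geo_of_prod {L M : Submodule F (ι → F)} (hL : IsLn Q L) (hM : IsLn Q M)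
    (H : ∀ x ∈ C.RX L, ∀ y ∈ C.RX M, x * y = y * x)
    (H' : ∀ x ∈ C.RX L, ∀ y ∈ C.RX M, ∃ N, IsLn Q N ∧ x * y ∈ C.RX N) : Meet L M ∧ Prp B L M := by
  have h := C.h
  have hs := fun x y => h.symm x y
  by_cases hm : Meet L M
  · refine ⟨hm, ?_⟩
    obtain ⟨z, hz0, h1, h2⟩ := hm
    obtain ⟨a, ha, I, e⟩ := hL.exists_sp h1 hz0
    obtain ⟨b, hb, I', e'⟩ := hM.exists_sp h2 hz0
    have Bzb : B z b = 0 := hM.B0 h h2 hb
    have Bza : B z a = 0 := hL.B0 h h1 ha
    have Qz := hL.ts z h1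
    by_cases hab : B a b = 0
    · rw [e, e']
      exact prp_sp h (Buu h Qz) Bzb (by rw [hs]; exact Bza) hab
    exfalso
    have A1 := IsLn.adm C hL h1 ha
    have A2 := IsLn.adm C hM h2 hb
    obtain ⟨N, hN, hxy⟩ := H' _ (C.mem_RX h1 ha) _ (C.mem_RX h2 hb)
    rw [C.ee_mul A1 A2] at hxy
    obtain ⟨s, hs', s', hs'', e3⟩ := hxy
    have Qab : Q (a + b) = B a b := by
      rw [h.add, hL.ts a ha, hM.ts b hb]
      ring
    have A3 := adm_add h A1 A2
    have A4 := IsLn.adm C hN hs' hs''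
    have e4 := C.eO_of_ee_eq A3 A4 e3
    have I3 : Ind2 z (a + b) := by
      apply ind2_of_not_mult hz0
      intro c e5
      rw [e5, h.smul, Qz, mul_zero] at Qab
      exact hab Qab.symm
    obtain ⟨-, m2⟩ := C.mem_of_eO_eq A3 A4 (hN.ts s' hs'') e4 I3
    have hle : sp s s' ≤ N := by
      rw [Submodule.span_le]
      rintro z (rfl | rfl)
      · exact hs'
      · exact hs''
    have := hN.ts _ (hle m2)
    rw [Qab] at this
    exact hab this
  · -- disjoint
    have hp := (C.geo_of_comm hL hM H).resolve_left hm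
    refine absurd ?_ hm
    obtain ⟨u, hu, hu0⟩ := hL.exists_ne
    obtain ⟨v, hv, I, e⟩ := hL.exists_sp hu hu0
    obtain ⟨u', hu', hu'0⟩ := hM.exists_ne
    obtain ⟨v', hv', I', e'⟩ := hM.exists_sp hu' hu'0
    have A := IsLn.adm C hL hu hv
    have A' := IsLn.adm C hM hu' hv'
    have Qv := hL.ts v hv
    have Qv' := hM.ts v' hv'
    have I4 : Ind4 u v u' v' := by
      intro r s t w e0
      have e1 : r • u + s • v = 0 := by
        by_contra hne
        apply hm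
        refine ⟨_, hne, L.add_mem (L.smul_mem _ hu) (L.smul_mem _ hv), ?_⟩
        have e2 : r • u + s • v = (-t) • u' + (-w) • v' := by
          have : r • u + s • v + (t • u' + w • v') = 0 := by rw [← e0]; abel
          rw [eq_neg_of_add_eq_zero_left this, neg_smul, neg_smul]
          abel
        rw [e2]
        exact M.add_mem (M.smul_mem _ hu') (M.smul_mem _ hv')
      have e2 : t • u' + w • v' = 0 := by
        have : r • u + s • v + (t • u' + w • v') = 0 := by rw [← e0]; abel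
        rw [e1, zero_add] at this
        exact this
      exact ⟨(I r s e1).1, (I r s e1).2, (I' t w e2).1, (I' t w e2).2⟩
    obtain ⟨N, hN, hxy⟩ := H' _ (C.mem_RX hu hv) _ (C.mem_RX hu' hv')
    obtain ⟨s, hs1, s', hs2, e3⟩ := hxy
    have A4 := IsLn.adm C hN hs1 hs2
    have Buu' : B u u' = 0 := hp u hu u' hu'
    have Buv' : B u v' = 0 := hp u hu v' hv'
    have Bvu' : B v u' = 0 := hp v hv u' hu'
    have Bvv' : B v v' = 0 := hp v hv v' hv'
    have Buv : B u v = 0 := hL.B0 h hu hv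
    have Qu := hL.ts u hu
    have hfix : act (eO C.h u v * eO C.h u' v') u = u := by
      rw [act_mul, act_eO A', act_eO A, Efun_pure Qv', Efun_pure Qv, Buu', Buv']
      simp [Buu h Qu, Buv]
    have e4 : C.em s s' = C.em u v * C.em u' v' := by
      apply C.rigid (v := u) _ (uni_eO h A4) hu0 hfix
      rw [QuotientGroup.mk_mul]
      exact e3.symm
    have e5 : eO C.h s s' = eO C.h u v * eO C.h u' v' := congrArg Subtype.val e4
    have key : ∀ w, B w s • s' - B w s' • s = (B w u • v - B w v • u) + (B w u' • v' - B w v' • u') := by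
      intro w
      have e6 : act (eO C.h s s') w = act (eO C.h u v * eO C.h u' v') w := by rw [e5]
      rw [act_mul, act_eO A4, act_eO A, act_eO A', Efun_pure (hN.ts s' hs2), Efun_pure Qv, Efun_pure Qv'] at e6
      simp only [h.add_left, h.sub_left, h.smul_left, hs v' u, hs u' u, hs v' v, hs u' v, Buu', Buv', Bvu', Bvv'] at e6
      funext i
      have := congrFun e6 i
      simp only [Pi.add_apply, Pi.sub_apply, Pi.smul_apply, smul_eq_mul, mul_zero, sub_zero, add_zero] at this ⊢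
      linear_combination this
    have hmemN : ∀ w, (B w u • v - B w v • u) + (B w u' • v' - B w v' • u') ∈ N := by
      intro w
      rw [← key]
      exact N.sub_mem (N.smul_mem _ hs2) (N.smul_mem _ hs1)
    have hdual : ∀ c : Fin 4 → F, ∃ w, ∀ i, B w (![u, v, u', v'] i) = c i := by
      intro c
      obtain ⟨w, -, hw⟩ := exists_dual h C.nd ![u, v, u', v'] (fun _ => Submodule.mem_top) (ind4_li I4) c
      exact ⟨w, hw⟩
    have hmem1 : v ∈ N := by
      obtain ⟨w, hw⟩ := hdual ![1, 0, 0, 0]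
      have h0 := hw 0
      have h1 := hw 1
      have h2 := hw 2
      have h3 := hw 3
      simp at h0 h1 h2 h3
      have := hmemN w
      rw [h0, h1, h2, h3] at this
      simpa using this
    have hmem2 : u ∈ N := by
      obtain ⟨w, hw⟩ := hdual ![0, 1, 0, 0]
      have h0 := hw 0
      have h1 := hw 1
      have h2 := hw 2
      have h3 := hw 3
      simp at h0 h1 h2 h3
      have := hmemN w
      rw [h0, h1, h2, h3] at this
      simpa using this
    have hmem3 : v' ∈ N := by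
      obtain ⟨w, hw⟩ := hdual ![0, 0, 1, 0]
      have h0 := hw 0
      have h1 := hw 1
      have h2 := hw 2
      have h3 := hw 3
      simp at h0 h1 h2 h3
      have := hmemN w
      rw [h0, h1, h2, h3] at this
      simpa using this
    have hmem4 : u' ∈ N := by
      obtain ⟨w, hw⟩ := hdual ![0, 0, 0, 1]
      have h0 := hw 0
      have h1 := hw 1
      have h2 := hw 2
      have h3 := hw 3
      simp at h0 h1 h2 h3
      have := hmemN w
      rw [h0, h1, h2, h3] at this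
      simpa using this
    have e6 : L = M := by
      rw [e, e', ← hN.eq_sp hmem2 hmem1 I, ← hN.eq_sp hmem4 hmem3 I']
    exact ⟨u, hu0, hu, e6 ▸ hu⟩

/-- the pencil relation from geometry -/
lemma Cx.prod_of_pnc {L M N : Submodule F (ι → F)} (hL : IsLn Q L) (hM : IsLn Q M) (hN : IsLn Q N) (H : Pnc L M N) :
    ∀ x ∈ C.RX N, ∃ y ∈ C.RX L, ∃ z ∈ C.RX M, x = y * z := by
  obtain ⟨⟨z, hz0, h1, h2, h3⟩, hle⟩ := H
  intro x hx
  obtain ⟨c, hc, rfl⟩ := C.RX_of_mem hN h3 hz0 hx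
  obtain ⟨l, hl, k, hk, e⟩ := Submodule.mem_sup.1 (hle hc)
  refine ⟨_, C.mem_RX h1 hl, _, C.mem_RX h2 hk, ?_⟩
  rw [C.ee_mul (IsLn.adm C hL h1 hl) (IsLn.adm C hM h2 hk), e]

/-- geometry from the pencil relation -/
lemma Cx.pnc_of_prod {L M N : Submodule F (ι → F)} (hL : IsLn Q L) (hM : IsLn Q M) (hN : IsLn Q N) (hm : Meet L M) (hp : Prp B L M)
    (H : ∀ x ∈ C.RX N, ∃ y ∈ C.RX L, ∃ z ∈ C.RX M, x = y * z) : Pnc L M N := by
  have h := C.h
  obtain ⟨z, hz0, h1, h2⟩ := hm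
  obtain ⟨u, hu, hu0⟩ := hN.exists_ne
  obtain ⟨v, hv, I, e⟩ := hN.exists_sp hu hu0
  obtain ⟨y, hy, y', hy', e1⟩ := H _ (C.mem_RX hu hv)
  obtain ⟨a, ha, rfl⟩ := C.RX_of_mem hL h1 hz0 hy
  obtain ⟨b, hb, rfl⟩ := C.RX_of_mem hM h2 hz0 hy'
  have A1 := IsLn.adm C hL h1 ha
  have A2 := IsLn.adm C hM h2 hb
  rw [C.ee_mul A1 A2] at e1
  have A3 := adm_add h A1 A2
  have A4 := IsLn.adm C hN hu hv
  have e2 := C.eO_of_ee_eq A4 A3 e1
  have Qab : Q (a + b) = 0 := by
    rw [h.add, hL.ts a ha, hM.ts b hb, hp a ha b hb]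
    ring
  obtain ⟨m1, m2⟩ := C.mem_of_eO_eq A4 A3 Qab e2 I
  have hle : N ≤ sp z (a + b) := by
    rw [e, Submodule.span_le]
    rintro w (rfl | rfl)
    · exact m1
    · exact m2
  have e3 := IsLn.eq_sp_of_le C hN hle
  refine ⟨⟨z, hz0, h1, h2, ?_⟩, ?_⟩
  · rw [e3]
    exact mem_sp_left _ _
  · rw [e3, Submodule.span_le]
    rintro w (rfl | rfl)
    · exact (le_sup_left : L ≤ L ⊔ M) h1
    · exact Submodule.add_mem _ ((le_sup_left : L ≤ L ⊔ M) ha) ((le_sup_right : M ≤ L ⊔ M) hb)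

end Basic

/-! ### From an automorphism to a map of lines -/
section Map
variable (C : Cx Q B t₀)

/-- every automorphism permutes the root groups of lines -/
def Cx.Perm (C : Cx Q B t₀) (α : MulAut (Cfsg.POmega F Q)) : Prop :=
  ∀ L, IsLn Q L → ∃ L', IsLn Q L' ∧ α '' C.RX L = C.RX L'

open Classical in
/-- the induced map of lines -/
noncomputable def Cx.lmap (C : Cx Q B t₀) (α : MulAut (Cfsg.POmega F Q)) (L : Submodule F (ι → F)) : Submodule F (ι → F) :=
  if H : IsLn Q L ∧ ∃ L', IsLn Q L' ∧ α '' C.RX L = C.RX L' then Classical.choose H.2 else L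

include C in
lemma Cx.lmap_spec {α : MulAut (Cfsg.POmega F Q)} (hα : C.Perm α) {L : Submodule F (ι → F)} (hL : IsLn Q L) :
    IsLn Q (C.lmap α L) ∧ α '' C.RX L = C.RX (C.lmap α L) := by
  have H : IsLn Q L ∧ ∃ L', IsLn Q L' ∧ α '' C.RX L = C.RX L' := ⟨hL, hα L hL⟩
  unfold Cx.lmap
  rw [dif_pos H]
  exact Classical.choose_spec H.2

lemma Cx.lm (C : Cx Q B t₀) {α : MulAut (Cfsg.POmega F Q)} (hα : C.Perm α) (hα' : C.Perm α⁻¹) :
    LM Q B (C.lmap α) (C.lmap α⁻¹) := by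
  have key : ∀ {γ δ : MulAut (Cfsg.POmega F Q)}, γ * δ = 1 → C.Perm γ → C.Perm δ → ∀ L, IsLn Q L →
      C.lmap δ (C.lmap γ L) = L := by
    intro γ δ e hγ hδ L hL
    obtain ⟨l1, l2⟩ := C.lmap_spec hγ hL
    obtain ⟨l3, l4⟩ := C.lmap_spec hδ l1
    apply C.eq_of_RX l3 hL
    rw [← l4, ← l2]
    have e' : δ * γ = 1 := by
      have : δ = γ⁻¹ := (inv_eq_of_mul_eq_one_right e).symm
      rw [this, inv_mul_cancel]
    rw [Set.image_image]
    have : ∀ x, δ (γ x) = x := by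
      intro x
      have := congrArg (fun f : MulAut (Cfsg.POmega F Q) => f x) e'
      exact this
    simp [this]
  have rel : ∀ {γ : MulAut (Cfsg.POmega F Q)}, C.Perm γ → ∀ L M, IsLn Q L → IsLn Q M →
      (Meet L M ∨ Prp B L M) → (Meet (C.lmap γ L) (C.lmap γ M) ∨ Prp B (C.lmap γ L) (C.lmap γ M)) := by
    intro γ hγ L M hL hM H
    obtain ⟨l1, l2⟩ := C.lmap_spec hγ hL
    obtain ⟨m1, m2⟩ := C.lmap_spec hγ hM
    apply C.geo_of_comm l1 m1
    rw [← l2, ← m2]
    rintro _ ⟨x, hx, rfl⟩ _ ⟨y, hy, rfl⟩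
    rw [← map_mul, ← map_mul, C.comm_of_geo hL hM H x hx y hy]
  have rel2 : ∀ {γ : MulAut (Cfsg.POmega F Q)}, C.Perm γ → ∀ L M, IsLn Q L → IsLn Q M →
      Meet L M → Prp B L M → (Meet (C.lmap γ L) (C.lmap γ M) ∧ Prp B (C.lmap γ L) (C.lmap γ M)) := by
    intro γ hγ L M hL hM H H'
    obtain ⟨l1, l2⟩ := C.lmap_spec hγ hL
    obtain ⟨m1, m2⟩ := C.lmap_spec hγ hM
    apply C.geo_of_prod l1 m1
    · rw [← l2, ← m2]
      rintro _ ⟨x, hx, rfl⟩ _ ⟨y, hy, rfl⟩
      rw [← map_mul, ← map_mul, C.comm_of_geo hL hM (Or.inl H) x hx y hy]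
    · rw [← l2, ← m2]
      rintro _ ⟨x, hx, rfl⟩ _ ⟨y, hy, rfl⟩
      obtain ⟨N, hN, hxy⟩ := C.prod_of_geo hL hM H H' x hx y hy
      obtain ⟨n1, n2⟩ := C.lmap_spec hγ hN
      refine ⟨_, n1, ?_⟩
      rw [← n2, ← map_mul]
      exact ⟨_, hxy, rfl⟩
  have rel3 : ∀ {γ : MulAut (Cfsg.POmega F Q)}, C.Perm γ → ∀ L M N, IsLn Q L → IsLn Q M → IsLn Q N → L ≠ M → Meet L M →
      Prp B L M → Pnc L M N → Pnc (C.lmap γ L) (C.lmap γ M) (C.lmap γ N) := by
    intro γ hγ L M N hL hM hN hne H H' P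
    obtain ⟨l1, l2⟩ := C.lmap_spec hγ hL
    obtain ⟨m1, m2⟩ := C.lmap_spec hγ hM
    obtain ⟨n1, n2⟩ := C.lmap_spec hγ hN
    have a := rel2 hγ L M hL hM H H'
    apply C.pnc_of_prod l1 m1 n1 a.1 a.2
    rw [← l2, ← m2, ← n2]
    rintro _ ⟨x, hx, rfl⟩
    obtain ⟨y, hy, z, hz, e⟩ := C.prod_of_pnc hL hM hN P x hx
    exact ⟨_, ⟨y, hy, rfl⟩, _, ⟨z, hz, rfl⟩, by rw [e, map_mul]⟩
  exact ⟨fun L hL => (C.lmap_spec hα hL).1, fun L hL => (C.lmap_spec hα' hL).1,
    key (mul_inv_cancel α) hα hα', key (inv_mul_cancel α) hα' hα, rel hα, rel hα', rel2 hα, rel2 hα', rel3 hα, rel3 hα'⟩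

end Map

end Cfsg.Agent.H01.Om
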