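import Cfsg.Agent.Lib.H01.OmPar
/-! A sign character of the orthogonal group, separating the two classes of reflections. -/
set_option autoImplicit false
set_option linter.unusedSimpArgs false
set_option linter.style.haveILetI false
set_option linter.unusedSectionVars false
set_option linter.unusedVariables false
namespace Cfsg.Agent.H01.Om
open Matrix Cfsg.Agent.Lead.Ortho Cfsg.Agent.Lead.Omega

variable {F : Type*} [Field F] [Fintype F] {ι : Type} [Fintype ι] [DecidableEq ι]
variable {Q : (ι → F) → F} {B : (ι → F) → (ι → F) → F}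

/-- the permutation action on the vectors of a given norm -/
def rhoS (Q : (ι → F) → F) (c : F) : OG F Q →* Equiv.Perm {x : ι → F // Q x = c} where
  toFun g :=
    { toFun := fun x => ⟨act g x.1, by rw [Q_act (Q := Q)]; exact x.2⟩
      invFun := fun x => ⟨act g⁻¹ x.1, by rw [Q_act (Q := Q)]; exact x.2⟩
      left_inv := fun x => Subtype.ext (act_inv_act g x.1)
      right_inv := fun x => Subtype.ext (act_act_inv g x.1) }
  map_one' := Equiv.ext fun x => Subtype.ext (act_one x.1)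
  map_mul' g k := Equiv.ext fun x => Subtype.ext (act_mul g k x.1)

lemma rhoS_val (c : F) (g : OG F Q) (x : {x : ι → F // Q x = c}) : (rhoS Q c g x).1 = act g x.1 := rfl

open Classical in
/-- the sign character -/
noncomputable def chiS (Q : (ι → F) → F) (c : F) : OG F Q →* ℤˣ :=
  (Equiv.Perm.sign : Equiv.Perm {x : ι → F // Q x = c} →* ℤˣ).comp (rhoS Q c)

/-- permutations of order two with fixed point counts differing by twice an odd number have different signs -/
lemma sign_differ {α : Type*} [Fintype α] [DecidableEq α] {σ τ : Equiv.Perm α} (hσ : σ ^ 2 = 1) (hτ : τ ^ 2 = 1) {w : ℤ}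
    (hw : Odd w) (H : (Nat.card (Function.fixedPoints σ) : ℤ) - Nat.card (Function.fixedPoints τ) = 2 * w) :
    Equiv.Perm.sign σ ≠ Equiv.Perm.sign τ := by
  classical
  have key : ∀ ρ : Equiv.Perm α, ρ ^ 2 = 1 → ∃ k, Fintype.card α = 2 * k + Nat.card (Function.fixedPoints ρ) ∧
      Equiv.Perm.sign ρ = (-1) ^ k := by
    intro ρ hρ
    have e1 := Equiv.Perm.sign_of_pow_two_eq_one hρ
    have e2 := Equiv.Perm.card_fixedPoints ρ
    rw [Equiv.Perm.sum_cycleType] at e2
    obtain ⟨k, hk⟩ := Equiv.Perm.two_dvd_card_support hρ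
    have e3 : ρ.support.card ≤ Fintype.card α := Finset.card_le_univ _
    refine ⟨k, ?_, ?_⟩
    · rw [Nat.card_eq_fintype_card, e2]
      omega
    · rw [e1, e2]
      congr 1
      omega
  obtain ⟨k₁, h1, h2⟩ := key σ hσ
  obtain ⟨k₂, h3, h4⟩ := key τ hτ
  rw [h2, h4]
  intro e
  have e5 : (k₂ : ℤ) - k₁ = w := by
    have : (2 * k₁ + Nat.card (Function.fixedPoints σ) : ℤ) = 2 * k₂ + Nat.card (Function.fixedPoints τ) := by
      exact_mod_cast h1.symm.trans h3
    linarith
  have e6 : Odd ((k₂ : ℤ) - k₁) := by rw [e5]; exact hw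
  rcases Nat.even_or_odd k₁ with h5 | h5 <;> rcases Nat.even_or_odd k₂ with h6 | h6
  · exact (Int.not_even_iff_odd.2 e6) ((Int.even_coe_nat _).2 h6 |>.sub ((Int.even_coe_nat _).2 h5))
  · rw [h5.neg_one_pow, h6.neg_one_pow] at e
    exact absurd e (by decide)
  · rw [h5.neg_one_pow, h6.neg_one_pow] at e
    exact absurd e (by decide)
  · exact (Int.not_even_iff_odd.2 e6) (Odd.sub_odd ((Int.odd_coe_nat _).2 h6) ((Int.odd_coe_nat _).2 h5))

section Refl
variable (h : QF Q B)
include h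

lemma rhoS_R_sq {a : ι → F} (ha : Q a ≠ 0) (c : F) : rhoS Q c (R h a ha) ^ 2 = 1 := by
  rw [← map_pow, sq, R_mul_self, map_one]

lemma fix_rhoS_R {a : ι → F} (ha : Q a ≠ 0) (c : F) :
    Nat.card (Function.fixedPoints (rhoS Q c (R h a ha))) = cntS Q (LinearMap.ker (Lf h a)) c := by
  have ha0 : a ≠ 0 := by
    rintro rfl
    exact ha h.Q_zero
  have key : ∀ x : ι → F, act (R h a ha) x = x ↔ B x a = 0 := by
    intro x
    rw [act_R]
    constructor
    · intro e
      have e1 : (B x a / Q a) • a = 0 := by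
        have : x - (x - (B x a / Q a) • a) = 0 := by rw [e, sub_self]
        simpa using this
      have e2 := (smul_eq_zero.1 e1).resolve_right ha0
      exact (div_eq_zero_iff.1 e2).resolve_right ha
    · intro e
      rw [e]
      simp
  unfold cntS
  apply Nat.card_congr
  exact
    { toFun := fun x => ⟨x.1.1, by
        rw [LinearMap.mem_ker, Lf_apply]
        apply (key _).1
        exact congrArg Subtype.val x.2, x.1.2⟩
      invFun := fun x => ⟨⟨x.1, x.2.2⟩, by
        apply Subtype.ext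
        exact (key _).2 x.2.1⟩
      left_inv := fun x => by
        rfl
      right_inv := fun x => by
        rfl }

/-- separation of two reflections by the sign character -/
lemma chiS_ne {a b : ι → F} (ha : Q a ≠ 0) (hb : Q b ≠ 0) (c : F) {w : ℤ} (hw : Odd w)
    (H : (cntS Q (LinearMap.ker (Lf h a)) c : ℤ) - cntS Q (LinearMap.ker (Lf h b)) c = 2 * w) :
    chiS Q c (R h a ha) ≠ chiS Q c (R h b hb) := by
  classical
  unfold chiS
  apply sign_differ (rhoS_R_sq h ha c) (rhoS_R_sq h hb c) hw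
  rw [fix_rhoS_R, fix_rhoS_R]
  exact H

/-- removing a hyperbolic pair from two subspaces of the same size -/
lemma cnt_peel {S S' : Submodule F (ι → F)} {e f : ι → F} (he : e ∈ S) (hf : f ∈ S) (he' : e ∈ S') (hf' : f ∈ S')
    (Qe : Q e = 0) (Qf : Q f = 0) (Bef : B e f = 1) (hc : Nat.card S = Nat.card S') (c : F) :
    (cntS Q S c : ℤ) - cntS Q S' c = Fintype.card F * ((cntS Q (perp2 h S e f) c : ℤ) - cntS Q (perp2 h S' e f) c) ∧
      Nat.card (perp2 h S e f) = Nat.card (perp2 h S' e f) := by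
  have c1 := card_pair h he hf Qe Qf Bef
  have c2 := card_pair h he' hf' Qe Qf Bef
  have hq : 0 < Fintype.card F ^ 2 := pow_pos Fintype.card_pos _
  have e0 : Nat.card (perp2 h S e f) = Nat.card (perp2 h S' e f) := by
    apply Nat.eq_of_mul_eq_mul_left hq
    rw [← c1, ← c2, hc]
  refine ⟨?_, e0⟩
  rw [cnt_rec h he hf Qe Qf Bef c, cnt_rec h he' hf' Qe Qf Bef c, e0]
  push_cast
  ring

/-- removing a frame from two subspaces of the same size -/
lemma cnt_peel_frame : ∀ {k : ℕ} (t : Fin k → (ι → F) × (ι → F)), IsHF Q B t → ∀ {S S' : Submodule F (ι → F)},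
    (∀ i, (t i).1 ∈ S ∧ (t i).2 ∈ S) → (∀ i, (t i).1 ∈ S' ∧ (t i).2 ∈ S') → Nat.card S = Nat.card S' → ∀ c : F,
    (cntS Q S c : ℤ) - cntS Q S' c =
      Fintype.card F ^ k * ((cntS Q (S ⊓ perpOf h t) c : ℤ) - cntS Q (S' ⊓ perpOf h t) c) ∧
      Nat.card ↥(S ⊓ perpOf h t) = Nat.card ↥(S' ⊓ perpOf h t) := by
  intro k
  induction k with
  | zero =>
    intro t _ S S' _ _ hc c
    rw [perpOf_zero h, inf_top_eq, inf_top_eq]
    exact ⟨by simp, hc⟩
  | succ k ih =>
    intro t ht S S' hS hS' hc c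
    obtain ⟨h1, h2, h3, h4, h5, h6⟩ := cons_tail_HF h ht
    obtain ⟨e1, e2⟩ := cnt_peel h (hS 0).1 (hS 0).2 (hS' 0).1 (hS' 0).2 h4 h5 h6 hc c
    have hmem : ∀ (S₀ : Submodule F (ι → F)), (∀ i, (t i).1 ∈ S₀ ∧ (t i).2 ∈ S₀) →
        ∀ i, (Fin.tail t i).1 ∈ perp2 h S₀ (t 0).1 (t 0).2 ∧ (Fin.tail t i).2 ∈ perp2 h S₀ (t 0).1 (t 0).2 := by
      intro S₀ h₀ i
      have hs := fun x y => h.symm x y
      refine ⟨⟨(h₀ i.succ).1, ?_, ?_⟩, ⟨(h₀ i.succ).2, ?_, ?_⟩⟩
      · rw [hs]; exact (h2 i).1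
      · rw [hs]; exact (h3 i).1
      · rw [hs]; exact (h2 i).2
      · rw [hs]; exact (h3 i).2
    obtain ⟨e3, e4⟩ := ih (Fin.tail t) h1 (hmem S hS) (hmem S' hS') e2 c
    have hinf : ∀ (S₀ : Submodule F (ι → F)), perp2 h S₀ (t 0).1 (t 0).2 ⊓ perpOf h (Fin.tail t) = S₀ ⊓ perpOf h t := by
      intro S₀
      rw [perpOf_eq_cons h t]
      ext x
      constructor
      · rintro ⟨⟨a1, a2, a3⟩, a4⟩
        exact ⟨a1, a4, a2, a3⟩
      · rintro ⟨a1, a4, a2, a3⟩
        exact ⟨⟨a1, a2, a3⟩, a4⟩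
    rw [hinf, hinf] at e3 e4
    refine ⟨?_, e4⟩
    rw [e1, e3]
    ring

lemma card_ker (hnd : ND B (⊤ : Submodule F (ι → F))) {a : ι → F} (ha : a ≠ 0) :
    Nat.card (LinearMap.ker (Lf h a)) = Fintype.card F ^ (Fintype.card ι - 1) := by
  obtain ⟨y, -, hy⟩ := hnd a Submodule.mem_top ha
  have e4 : LinearMap.range (Lf h a) = ⊤ := by
    rw [LinearMap.range_eq_top]
    intro c
    refine ⟨(c / B y a) • y, ?_⟩
    have hy' : B y a ≠ 0 := by
      rw [h.symm]
      exact hy
    rw [map_smul, smul_eq_mul, Lf_apply]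
    field_simp
  have e5 := LinearMap.finrank_range_add_finrank_ker (Lf h a)
  rw [e4, finrank_top, Module.finrank_self, Module.finrank_fintype_fun_eq_card] at e5
  rw [Module.natCard_eq_pow_finrank (K := F), Nat.card_eq_fintype_card (α := F)]
  congr 1
  omega

/-- **Separation of reflections**: it suffices to compare the counts in the residue. -/
theorem chiS_sep (hnd : ND B (⊤ : Submodule F (ι → F))) {k : ℕ} {t : Fin k → (ι → F) × (ι → F)} (ht : IsHF Q B t)
    {a b : ι → F} (ha : Q a ≠ 0) (hb : Q b ≠ 0) (hat : a ∈ perpOf h t) (hbt : b ∈ perpOf h t)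
    (hq : Odd (Fintype.card F)) (c : F) {w : ℤ} (hw : Odd w)
    (H : (cntS Q (LinearMap.ker (Lf h a) ⊓ perpOf h t) c : ℤ) - cntS Q (LinearMap.ker (Lf h b) ⊓ perpOf h t) c = 2 * w) :
    chiS Q c (R h a ha) ≠ chiS Q c (R h b hb) := by
  have ha0 : a ≠ 0 := by
    rintro rfl
    exact ha h.Q_zero
  have hb0 : b ≠ 0 := by
    rintro rfl
    exact hb h.Q_zero
  have hs := fun x y => h.symm x y
  have mema : ∀ i, (t i).1 ∈ LinearMap.ker (Lf h a) ∧ (t i).2 ∈ LinearMap.ker (Lf h a) := by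
    intro i
    rw [LinearMap.mem_ker, LinearMap.mem_ker, Lf_apply, Lf_apply, hs, hs (t i).2]
    exact hat i
  have memb : ∀ i, (t i).1 ∈ LinearMap.ker (Lf h b) ∧ (t i).2 ∈ LinearMap.ker (Lf h b) := by
    intro i
    rw [LinearMap.mem_ker, LinearMap.mem_ker, Lf_apply, Lf_apply, hs, hs (t i).2]
    exact hbt i
  have hc := (card_ker h hnd ha0).trans (card_ker h hnd hb0).symm
  obtain ⟨e1, -⟩ := cnt_peel_frame h t ht mema memb hc c
  refine chiS_ne h ha hb c (w := (Fintype.card F : ℤ) ^ k * w) ?_ ?_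
  · exact ((Int.odd_coe_nat _).2 hq).pow.mul hw
  · rw [e1, H]
    ring

end Refl

end Cfsg.Agent.H01.Om
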