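import Cfsg.Agent.Lib.H01.OmQQ
/-! An automorphism stabilising the radical of a point acts semilinearly on the residue. -/
set_option autoImplicit false
set_option linter.unusedSimpArgs false
set_option linter.style.haveILetI false
set_option linter.unusedSectionVars false
set_option linter.unusedVariables false
namespace Cfsg.Agent.H01.Om
open Matrix Cfsg.Agent.Lead.Ortho Cfsg.Agent.Lead.Omega

variable {F : Type*} [Field F] [Fintype F] {ι : Type} [Fintype ι] [DecidableEq ι]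
variable {Q : (ι → F) → F} {B : (ι → F) → (ι → F) → F}
variable {m : ℕ} {t₀ : Fin m → (ι → F) × (ι → F)}

/-- `x` is perpendicular to the hyperbolic pair -/
def IsU (B : (ι → F) → (ι → F) → F) (e f x : ι → F) : Prop := B x e = 0 ∧ B x f = 0

lemma IsU.add (h : QF Q B) {e f x y : ι → F} (hx : IsU B e f x) (hy : IsU B e f y) : IsU B e f (x + y) :=
  ⟨by rw [h.add_left, hx.1, hy.1, add_zero], by rw [h.add_left, hx.2, hy.2, add_zero]⟩

lemma IsU.smul (h : QF Q B) {e f x : ι → F} (c : F) (hx : IsU B e f x) : IsU B e f (c • x) :=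
  ⟨by rw [h.smul_left, hx.1, mul_zero], by rw [h.smul_left, hx.2, mul_zero]⟩

lemma IsU.zero (h : QF Q B) {e f : ι → F} : IsU B e f 0 := ⟨h.zero_left _, h.zero_left _⟩

lemma IsU.swap {e f x : ι → F} (hx : IsU B e f x) : IsU B f e x := ⟨hx.2, hx.1⟩

/-- the additive maps on the residue attached to an automorphism -/
structure TP (C : Cx Q B t₀) (β : MulAut (Cfsg.POmega F Q)) (e f : ι → F) (T T' : (ι → F) → (ι → F)) : Prop where
  Qe : Q e = 0
  Qf : Q f = 0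
  ef : B e f = 1
  mem : ∀ x, IsU B e f x → IsU B e f (T x)
  mem' : ∀ x, IsU B e f x → IsU B e f (T' x)
  act : ∀ x, IsU B e f x → β (C.ee e x) = C.ee e (T x)
  act' : ∀ x, IsU B e f x → β⁻¹ (C.ee e x) = C.ee e (T' x)

section T
variable (C : Cx Q B t₀)

lemma Cx.exists_T {e f : ι → F} (Qe : Q e = 0) (Bef : B e f = 1) {β : MulAut (Cfsg.POmega F Q)} (hβ : β '' C.QQ e ⊆ C.QQ e) :
    ∃ T : (ι → F) → (ι → F), ∀ x, IsU B e f x → IsU B e f (T x) ∧ β (C.ee e x) = C.ee e (T x) := by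
  have h := C.h
  have Bfe : B f e = 1 := by rw [h.symm]; exact Bef
  have key : ∀ x, ∃ y, IsU B e f x → IsU B e f y ∧ β (C.ee e x) = C.ee e y := by
    intro x
    by_cases hx : IsU B e f x
    · obtain ⟨a, ha, e1⟩ := hβ ⟨C.ee e x, ⟨x, hx.1, rfl⟩, rfl⟩
      refine ⟨a - B a f • e, fun _ => ⟨⟨?_, ?_⟩, ?_⟩⟩
      · rw [h.sub_left, h.smul_left, ha, Buu h Qe]
        ring
      · rw [h.sub_left, h.smul_left, Bef]
        ring
      · rw [e1, sub_eq_add_neg, ← neg_smul, C.ee_add_self Qe ha]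
    · exact ⟨0, fun hx' => absurd hx' hx⟩
  choose T hT using key
  exact ⟨T, hT⟩

lemma Cx.exists_TP {e f : ι → F} (Qe : Q e = 0) (Qf : Q f = 0) (Bef : B e f = 1) {β : MulAut (Cfsg.POmega F Q)}
    (hβ : β '' C.QQ e = C.QQ e) : ∃ T T', TP C β e f T T' := by
  obtain ⟨T, hT⟩ := C.exists_T Qe Bef hβ.le
  have hβ' : (β⁻¹ : MulAut (Cfsg.POmega F Q)) '' C.QQ e ⊆ C.QQ e := by
    rintro _ ⟨x, hx, rfl⟩
    rw [← hβ] at hx
    obtain ⟨y, hy, rfl⟩ := hx
    simpa using hy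
  obtain ⟨T', hT'⟩ := C.exists_T Qe Bef hβ'
  exact ⟨T, T', Qe, Qf, Bef, fun x hx => (hT x hx).1, fun x hx => (hT' x hx).1, fun x hx => (hT x hx).2,
    fun x hx => (hT' x hx).2⟩

include C in
/-- Siegel maps with centre `e` are faithfully parametrised by the residue -/
lemma Cx.U_inj {e f x y : ι → F} (Qe : Q e = 0) (Bef : B e f = 1) (hx : IsU B e f x) (hy : IsU B e f y)
    (H : C.ee e x = C.ee e y) : x = y := by
  have h := C.h
  have Bfe : B f e = 1 := by rw [h.symm]; exact Bef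
  have e1 := C.eO_of_ee_eq ⟨Qe, hx.1⟩ ⟨Qe, hy.1⟩ H
  have e2 : act (eO C.h e x) f = act (eO C.h e y) f := by rw [e1]
  rw [act_eO ⟨Qe, hx.1⟩, act_eO ⟨Qe, hy.1⟩] at e2
  unfold Efun at e2
  rw [Bfe, h.symm f x, h.symm f y, hx.2, hy.2] at e2
  have e3 : x - y = (Q x - Q y) • e := by
    funext i
    have := congrFun e2 i
    simp only [Pi.add_apply, Pi.sub_apply, Pi.smul_apply, smul_eq_mul] at this ⊢
    linear_combination this
  have e4 := congrArg (fun w => B w f) e3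
  simp only [h.sub_left, hx.2, hy.2, h.smul_left, Bef] at e4
  have e5 : Q x - Q y = 0 := by simpa using e4.symm
  rw [e5, zero_smul] at e3
  exact sub_eq_zero.1 e3

end T

namespace TP
variable {C : Cx Q B t₀} {β : MulAut (Cfsg.POmega F Q)} {e f : ι → F} {T T' : (ι → F) → (ι → F)}

lemma symm (P : TP C β e f T T') : TP C β⁻¹ e f T' T :=
  ⟨P.Qe, P.Qf, P.ef, P.mem', P.mem, P.act', fun x hx => by rw [inv_inv]; exact P.act x hx⟩

lemma left_inv (P : TP C β e f T T') {x : ι → F} (hx : IsU B e f x) : T' (T x) = x := by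
  apply C.U_inj P.Qe P.ef (P.mem' _ (P.mem _ hx)) hx
  rw [← P.act' _ (P.mem _ hx), ← P.act _ hx]
  simp

lemma right_inv (P : TP C β e f T T') {x : ι → F} (hx : IsU B e f x) : T (T' x) = x := P.symm.left_inv hx

lemma add (P : TP C β e f T T') {x y : ι → F} (hx : IsU B e f x) (hy : IsU B e f y) : T (x + y) = T x + T y := by
  have h := C.h
  apply C.U_inj P.Qe P.ef (P.mem _ (hx.add h hy)) ((P.mem _ hx).add h (P.mem _ hy))
  rw [← P.act _ (hx.add h hy), ← C.ee_mul ⟨P.Qe, hx.1⟩ ⟨P.Qe, hy.1⟩, map_mul, P.act _ hx, P.act _ hy,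
    C.ee_mul ⟨P.Qe, (P.mem _ hx).1⟩ ⟨P.Qe, (P.mem _ hy).1⟩]

lemma zero (P : TP C β e f T T') : T 0 = 0 := by
  have h := C.h
  apply C.U_inj P.Qe P.ef (P.mem _ (IsU.zero h)) (IsU.zero h)
  rw [← P.act _ (IsU.zero h), C.ee_zero P.Qe, map_one]

lemma ne (P : TP C β e f T T') {x : ι → F} (hx : IsU B e f x) (hx0 : x ≠ 0) : T x ≠ 0 := by
  intro e0
  apply hx0
  rw [← P.left_inv hx, e0, P.symm.zero]

/-- the points of a line through the centre go to points of a line through the centre -/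
lemma line (P : TP C β e f T T') {u : ι → F} (hu : IsU B e f u) (Qu : Q u = 0) (hu0 : u ≠ 0) :
    Q (T u) = 0 ∧ ∀ c : F, ∃ d : F, T (c • u) = d • T u := by
  have h := C.h
  have Bfe : B f e = 1 := by rw [h.symm]; exact P.ef
  have Ieu : ∀ x, IsU B e f x → x ≠ 0 → Ind2 e x := by
    intro x hx hx0 s t e1
    have e2 := congrArg (fun w => B w f) e1
    simp only [h.add_left, h.smul_left, P.ef, hx.2, h.zero_left, mul_one, mul_zero, add_zero] at e2
    subst e2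
    rw [zero_smul, zero_add] at e1
    exact ⟨rfl, (smul_eq_zero.1 e1).resolve_right hx0⟩
  have Beu : B e u = 0 := by rw [h.symm]; exact hu.1
  have hL := isLn_sp h P.Qe Qu Beu (Ieu u hu hu0)
  obtain ⟨l1, l2⟩ := C.lmap_spec (C.perm β) hL
  -- membership
  have hmem : ∀ x, IsU B e f x → x ≠ 0 → C.ee e x ∈ C.RX (C.lmap β (sp e u)) → e ∈ C.lmap β (sp e u) ∧ x ∈ C.lmap β (sp e u) := by
    rintro x hx hx0 ⟨s, hs, s', hs', e1⟩
    have A1 : Adm Q B e x := ⟨P.Qe, hx.1⟩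
    have A2 := IsLn.adm C l1 hs hs'
    have e2 := C.eO_of_ee_eq A1 A2 e1
    obtain ⟨m1, m2⟩ := C.mem_of_eO_eq A1 A2 (l1.ts s' hs') e2 (Ieu x hx hx0)
    have hle : sp s s' ≤ C.lmap β (sp e u) := by
      rw [Submodule.span_le]
      rintro z (rfl | rfl)
      · exact hs
      · exact hs'
    exact ⟨hle m1, hle m2⟩
  have himg : ∀ c : F, C.ee e (T (c • u)) ∈ C.RX (C.lmap β (sp e u)) := by
    intro c
    rw [← l2, ← P.act _ (hu.smul h c)]
    refine ⟨_, ?_, rfl⟩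
    exact C.mem_RX (mem_sp_left _ _) (Submodule.smul_mem _ _ (mem_sp_right _ _))
  have hTu : C.ee e (T u) ∈ C.RX (C.lmap β (sp e u)) := by
    have := himg 1
    rwa [one_smul] at this
  have hTu0 := P.ne hu hu0
  obtain ⟨m1, m2⟩ := hmem _ (P.mem _ hu) hTu0 hTu
  refine ⟨l1.ts _ m2, ?_⟩
  intro c
  by_cases hc : T (c • u) = 0
  · exact ⟨0, by rw [hc, zero_smul]⟩
  obtain ⟨-, m3⟩ := hmem _ (P.mem _ (hu.smul h c)) hc (himg c)
  have e1 := l1.eq_sp m1 m2 (Ieu _ (P.mem _ hu) hTu0)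
  rw [e1, Submodule.mem_span_pair] at m3
  obtain ⟨r, d, e2⟩ := m3
  have e3 := congrArg (fun w => B w f) e2
  simp only [h.add_left, h.smul_left, P.ef, (P.mem _ hu).2, (P.mem _ (hu.smul h c)).2, mul_one, mul_zero, add_zero] at e3
  subst e3
  refine ⟨d, ?_⟩
  rw [← e2, zero_smul, zero_add]

lemma Q_sing (P : TP C β e f T T') {x : ι → F} (hx : IsU B e f x) (Qx : Q x = 0) : Q (T x) = 0 := by
  by_cases hx0 : x = 0
  · rw [hx0, P.zero]
    exact C.h.Q_zero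
  · exact (P.line hx Qx hx0).1

lemma perp_pres (P : TP C β e f T T') {s s' : ι → F} (hs : IsU B e f s) (hs' : IsU B e f s') (Qs : Q s = 0) (Qs' : Q s' = 0)
    (Bss' : B s s' = 0) : B (T s) (T s') = 0 := by
  have h := C.h
  have e1 : Q (s + s') = 0 := by rw [h.add, Qs, Qs', Bss']; ring
  have e2 := P.Q_sing (hs.add h hs') e1
  rw [P.add hs hs', h.add, P.Q_sing hs Qs, P.Q_sing hs' Qs'] at e2
  simpa using e2

end TP

/-! ### Third vectors in the residue -/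
section Third
variable (C : Cx Q B t₀)

/-- the one-term frame -/
def t1F (e f : ι → F) : Fin 1 → (ι → F) × (ι → F) := fun _ => (e, f)

omit [Fintype F] [Fintype ι] [DecidableEq ι] in
lemma t1F_HF {e f : ι → F} (Qe : Q e = 0) (Qf : Q f = 0) (Bef : B e f = 1) : IsHF Q B (t1F e f) := by
  intro i j
  have : i = j := Subsingleton.elim _ _
  subst this
  exact ⟨by simpa [t1F] using Bef, fun hne => absurd rfl hne, Qe, Qf⟩

omit [Fintype ι] [DecidableEq ι] in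
lemma mem_t1F (h : QF Q B) {e f x : ι → F} : x ∈ perpOf h (t1F e f) ↔ IsU B e f x := by
  constructor
  · intro hx
    exact hx 0
  · intro hx i
    exact hx

include C in
/-- partners in the residue -/
lemma Cx.partnerU {e f u : ι → F} (Qe : Q e = 0) (Qf : Q f = 0) (Bef : B e f = 1) (hu : IsU B e f u) (Qu : Q u = 0) (hu0 : u ≠ 0) :
    ∃ v, IsU B e f v ∧ Q v = 0 ∧ B u v = 1 := by
  have h := C.h
  obtain ⟨v, hv, Qv, huv⟩ := exists_partner h (ND_perpOf h C.nd _ (t1F_HF Qe Qf Bef)) ((mem_t1F h).2 hu) hu0 Qu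
  exact ⟨v, (mem_t1F h).1 hv, Qv, by rw [h.symm]; exact huv⟩

include C in
/-- a third vector in the residue -/
lemma Cx.thirdU {e f u v : ι → F} (Qe : Q e = 0) (Qf : Q f = 0) (Bef : B e f = 1) (hu : IsU B e f u) (hv : IsU B e f v)
    (Qu : Q u = 0) (Qv : Q v = 0) (Buv : B u v ≠ 0) : ∃ d, IsU B e f d ∧ Q d = 0 ∧ d ≠ 0 ∧ B d u = 0 ∧ B d v = 0 := by
  have h := C.h
  have hs := fun x y => h.symm x y
  obtain ⟨v', hv'⟩ : ∃ v', v' = (B u v)⁻¹ • v := ⟨_, rfl⟩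
  have Qv' : Q v' = 0 := by rw [hv', h.smul, Qv, mul_zero]
  have Buv' : B u v' = 1 := by rw [hv', h.smul_right, inv_mul_cancel₀ Buv]
  have hv'U : IsU B e f v' := by rw [hv']; exact hv.smul h _
  have ht2 : IsHF Q B (Fin.cons (u, v') (t1F e f) : Fin 2 → (ι → F) × (ι → F)) := by
    rw [isHF_cons_iff h]
    exact ⟨t1F_HF Qe Qf Bef, (mem_t1F h).2 hu, (mem_t1F h).2 hv'U, Qu, Qv', Buv'⟩
  have hm2 : 2 < m := by have := C.hm; omega
  obtain ⟨d, hd, hd0, Qd⟩ := hasSing h C.ht hm2 _ ht2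
  have d1 : B d u = 0 := by simpa using (hd 0).1
  have d2 : B d v' = 0 := by simpa using (hd 0).2
  have d3 : B d e = 0 := by simpa [t1F] using (hd 1).1
  have d4 : B d f = 0 := by simpa [t1F] using (hd 1).2
  refine ⟨d, ⟨d3, d4⟩, Qd, hd0, d1, ?_⟩
  rw [hv', h.smul_right] at d2
  exact (mul_eq_zero.1 d2).resolve_left (inv_ne_zero Buv)

include C in
/-- relations between perpendicular points extend to all points -/
lemma Cx.connect {e f : ι → F} (Qe : Q e = 0) (Qf : Q f = 0) (Bef : B e f = 1) (R : (ι → F) → F → Prop)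
    (hex : ∀ u, IsU B e f u → Q u = 0 → u ≠ 0 → ∃ d, R u d)
    (hperp : ∀ u u₁, IsU B e f u → Q u = 0 → u ≠ 0 → IsU B e f u₁ → Q u₁ = 0 → u₁ ≠ 0 → B u u₁ = 0 → Ind2 u u₁ →
      ∀ d d₁, R u d → R u₁ d₁ → d = d₁) :
    ∀ u u₁, IsU B e f u → Q u = 0 → u ≠ 0 → IsU B e f u₁ → Q u₁ = 0 → u₁ ≠ 0 → ∀ d d₁, R u d → R u₁ d₁ → d = d₁ := by
  have h := C.h
  have hs := fun x y => h.symm x y
  intro u u₁ hu Qu hu0 hu₁ Qu₁ hu₁0 d d₁ Rd Rd₁
  by_cases Buu₁ : B u u₁ = 0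
  · by_cases I : Ind2 u u₁
    · exact hperp u u₁ hu Qu hu0 hu₁ Qu₁ hu₁0 Buu₁ I d d₁ Rd Rd₁
    · have hk : ∃ k : F, u₁ = k • u := by
        by_contra hk
        push Not at hk
        exact I (ind2_of_not_mult hu0 hk)
      obtain ⟨k, rfl⟩ := hk
      have hk0 : k ≠ 0 := by
        rintro rfl
        simp at hu₁0
      obtain ⟨v, hv, Qv, Buv⟩ := C.partnerU Qe Qf Bef hu Qu hu0
      obtain ⟨w, hw, Qw, hw0, wu, wv⟩ := C.thirdU Qe Qf Bef hu hv Qu Qv (by rw [Buv]; exact one_ne_zero)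
      obtain ⟨d₂, R₂⟩ := hex w hw Qw hw0
      have I1 : Ind2 u w := by
        intro s t e1
        have e2 := congrArg (fun x => B x v) e1
        simp only [h.add_left, h.smul_left, Buv, wv, h.zero_left, mul_one, mul_zero, add_zero] at e2
        subst e2
        rw [zero_smul, zero_add] at e1
        exact ⟨rfl, (smul_eq_zero.1 e1).resolve_right hw0⟩
      have I2 : Ind2 (k • u) w := by
        intro s t e1
        have e2 := congrArg (fun x => B x v) e1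
        simp only [h.add_left, h.smul_left, Buv, wv, h.zero_left, mul_one, mul_zero, add_zero] at e2
        have e3 : s = 0 := (mul_eq_zero.1 e2).resolve_right hk0
        subst e3
        rw [zero_smul, zero_add] at e1
        exact ⟨rfl, (smul_eq_zero.1 e1).resolve_right hw0⟩
      have e1 := hperp u w hu Qu hu0 hw Qw hw0 (by rw [hs]; exact wu) I1 d d₂ Rd R₂
      have e2 := hperp (k • u) w hu₁ Qu₁ hu₁0 hw Qw hw0 (by rw [h.smul_left, hs u w, wu, mul_zero]) I2 d₁ d₂ Rd₁ R₂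
      rw [e1, e2]
  · obtain ⟨w, hw, Qw, hw0, wu, wu₁⟩ := C.thirdU Qe Qf Bef hu hu₁ Qu Qu₁ Buu₁
    obtain ⟨d₂, R₂⟩ := hex w hw Qw hw0
    have I1 : Ind2 u w := by
      intro s t e1
      have e2 := congrArg (fun x => B x u₁) e1
      simp only [h.add_left, h.smul_left, wu₁, h.zero_left, mul_zero, add_zero] at e2
      have e3 : s = 0 := (mul_eq_zero.1 e2).resolve_right Buu₁
      subst e3
      rw [zero_smul, zero_add] at e1
      exact ⟨rfl, (smul_eq_zero.1 e1).resolve_right hw0⟩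
    have I2 : Ind2 u₁ w := by
      intro s t e1
      have e2 := congrArg (fun x => B x u) e1
      simp only [h.add_left, h.smul_left, wu, h.zero_left, mul_zero, add_zero] at e2
      have e3 : s = 0 := (mul_eq_zero.1 e2).resolve_right (by rw [hs]; exact Buu₁)
      subst e3
      rw [zero_smul, zero_add] at e1
      exact ⟨rfl, (smul_eq_zero.1 e1).resolve_right hw0⟩
    have e1 := hperp u w hu Qu hu0 hw Qw hw0 (by rw [hs]; exact wu) I1 d d₂ Rd R₂
    have e2 := hperp u₁ w hu₁ Qu₁ hu₁0 hw Qw hw0 (by rw [hs]; exact wu₁) I2 d₁ d₂ Rd₁ R₂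
    rw [e1, e2]

end Third

/-! ### Semilinearity -/
namespace TP
variable {C : Cx Q B t₀} {β : MulAut (Cfsg.POmega F Q)} {e f : ι → F} {T T' : (ι → F) → (ι → F)}

/-- the same scalar for all singular vectors -/
lemma same (P : TP C β e f T T') (c : F) {u u₁ : ι → F} (hu : IsU B e f u) (Qu : Q u = 0) (hu0 : u ≠ 0) (hu₁ : IsU B e f u₁)
    (Qu₁ : Q u₁ = 0) (hu₁0 : u₁ ≠ 0) {d d₁ : F} (e1 : T (c • u) = d • T u) (e2 : T (c • u₁) = d₁ • T u₁) : d = d₁ := by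
  have h := C.h
  refine C.connect P.Qe P.Qf P.ef (fun u d => T (c • u) = d • T u) (fun u hu Qu hu0 => (P.line hu Qu hu0).2 c) ?_ u u₁ hu Qu hu0
    hu₁ Qu₁ hu₁0 d d₁ e1 e2
  intro u u₁ hu Qu hu0 hu₁ Qu₁ hu₁0 Buu₁ I d d₁ e1 e2
  have Qs : Q (u + u₁) = 0 := by rw [h.add, Qu, Qu₁, Buu₁]; ring
  have hs0 : u + u₁ ≠ 0 := by
    intro e0
    have := I 1 1 (by simpa using e0)
    exact one_ne_zero this.1
  obtain ⟨d₂, e3⟩ := (P.line (hu.add h hu₁) Qs hs0).2 c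
  rw [smul_add, P.add (hu.smul h c) (hu₁.smul h c), e1, e2, P.add hu hu₁] at e3
  have hTu0 := P.ne hu hu0
  have hind : Ind2 (T u) (T u₁) := by
    apply ind2_of_not_mult hTu0
    intro k ek
    have hTu : IsU B e f (T u) := P.mem _ hu
    obtain ⟨k', ek'⟩ := (P.symm.line hTu (P.Q_sing hu Qu) hTu0).2 k
    rw [← ek, P.left_inv hu, P.left_inv hu₁] at ek'
    have := I (-k') 1 (by rw [ek', neg_smul, one_smul]; abel)
    exact one_ne_zero this.2
  have e4 := hind (d - d₂) (d₁ - d₂) (by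
    funext i
    have := congrFun e3 i
    simp only [Pi.add_apply, Pi.smul_apply, smul_eq_mul, Pi.zero_apply] at this ⊢
    linear_combination this)
  have e5 : d = d₂ := sub_eq_zero.1 e4.1
  have e6 : d₁ = d₂ := sub_eq_zero.1 e4.2
  rw [e5, e6]

/-- the field automorphism -/
lemma sigma (P : TP C β e f T T') : ∃ σ : F ≃+* F, ∀ u, IsU B e f u → Q u = 0 → ∀ c : F, T (c • u) = σ c • T u := by
  have h := C.h
  have hm1 : 1 < m := by have := C.hm; omega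
  obtain ⟨u₀, hu₀, hu₀0, Qu₀⟩ := hasSing h C.ht hm1 _ (t1F_HF P.Qe P.Qf P.ef)
  have hu₀U : IsU B e f u₀ := (mem_t1F h).1 hu₀
  have hl := P.line hu₀U Qu₀ hu₀0
  choose dd hdd using hl.2
  have hT0 := P.ne hu₀U hu₀0
  have cancel : ∀ a b : F, a • T u₀ = b • T u₀ → a = b := fun a b e1 => smul_left_injective F hT0 e1
  have d1 : dd 1 = 1 := by
    apply cancel
    rw [← hdd, one_smul, one_smul]
  have d0 : dd 0 = 0 := by
    apply cancel
    rw [← hdd, zero_smul, zero_smul, P.zero]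
  have dadd : ∀ a b, dd (a + b) = dd a + dd b := by
    intro a b
    apply cancel
    rw [← hdd, add_smul, add_smul, P.add (hu₀U.smul h a) (hu₀U.smul h b), hdd, hdd]
  have dmul : ∀ a b, dd (a * b) = dd a * dd b := by
    intro a b
    by_cases hb : b = 0
    · rw [hb, mul_zero, d0, mul_zero]
    · apply cancel
      have hu₁0 : b • u₀ ≠ 0 := smul_ne_zero hb hu₀0
      have Qu₁ : Q (b • u₀) = 0 := by rw [h.smul, Qu₀, mul_zero]
      obtain ⟨d, e1⟩ := (P.line (hu₀U.smul h b) Qu₁ hu₁0).2 a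
      have e2 := P.same a hu₀U Qu₀ hu₀0 (hu₀U.smul h b) Qu₁ hu₁0 (hdd a) e1
      rw [← hdd, mul_smul, e1, ← e2, hdd, smul_smul]
  let ρ : F →+* F :=
    { toFun := dd
      map_one' := d1
      map_mul' := dmul
      map_zero' := d0
      map_add' := dadd }
  have hbij : Function.Bijective ρ := ⟨ρ.injective, Finite.surjective_of_injective ρ.injective⟩
  refine ⟨RingEquiv.ofBijective ρ hbij, ?_⟩
  intro u hu Qu c
  by_cases hu0 : u = 0
  · rw [hu0, smul_zero, P.zero, smul_zero]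
  · obtain ⟨d, e1⟩ := (P.line hu Qu hu0).2 c
    have e2 := P.same c hu₀U Qu₀ hu₀0 hu Qu hu0 (hdd c) e1
    rw [e1, ← e2]
    rfl

/-- semilinearity on the whole residue -/
lemma smul_all (P : TP C β e f T T') {σ : F ≃+* F} (hσ : ∀ u, IsU B e f u → Q u = 0 → ∀ c : F, T (c • u) = σ c • T u)
    {x : ι → F} (hx : IsU B e f x) (c : F) : T (c • x) = σ c • T x := by
  have h := C.h
  have hm1 : 1 < m := by have := C.hm; omega
  obtain ⟨u₀, hu₀, hu₀0, Qu₀⟩ := hasSing h C.ht hm1 _ (t1F_HF P.Qe P.Qf P.ef)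
  have hu₀U : IsU B e f u₀ := (mem_t1F h).1 hu₀
  obtain ⟨v₀, hv₀, Qv₀, Buv⟩ := C.partnerU P.Qe P.Qf P.ef hu₀U Qu₀ hu₀0
  obtain ⟨r, s, w, hw, Qw, ex⟩ := decomp3 h hu₀ ((mem_t1F h).2 hv₀) Qu₀ Qv₀ Buv ((mem_t1F h).2 hx)
  have hwU : IsU B e f w := (mem_t1F h).1 hw
  have e1 : c • x = (c * r) • u₀ + (c * s) • v₀ + c • w := by
    rw [ex]
    funext i
    simp only [Pi.add_apply, Pi.smul_apply, smul_eq_mul]
    ring
  rw [e1, P.add (((hu₀U.smul h _).add h (hv₀.smul h _))) (hwU.smul h c), P.add (hu₀U.smul h _) (hv₀.smul h _),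
    hσ _ hu₀U Qu₀, hσ _ hv₀ Qv₀, hσ _ hwU Qw]
  conv_rhs => rw [ex, P.add ((hu₀U.smul h _).add h (hv₀.smul h _)) hwU, P.add (hu₀U.smul h _) (hv₀.smul h _), hσ _ hu₀U Qu₀,
    hσ _ hv₀ Qv₀]
  rw [map_mul, map_mul]
  funext i
  simp only [Pi.add_apply, Pi.smul_apply, smul_eq_mul]
  ring

/-- the multiplier -/
lemma Qform (P : TP C β e f T T') {σ : F ≃+* F} (hσ : ∀ u, IsU B e f u → Q u = 0 → ∀ c : F, T (c • u) = σ c • T u) :
    ∃ κ : F, κ ≠ 0 ∧ ∀ x, IsU B e f x → Q (T x) = κ * σ (Q x) := by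
  have h := C.h
  have hs := fun x y => h.symm x y
  have hm1 : 1 < m := by have := C.hm; omega
  have hm2 : 2 < m := by have := C.hm; omega
  obtain ⟨u₀, hu₀, hu₀0, Qu₀⟩ := hasSing h C.ht hm1 _ (t1F_HF P.Qe P.Qf P.ef)
  have hu₀U : IsU B e f u₀ := (mem_t1F h).1 hu₀
  obtain ⟨v₀, hv₀, Qv₀, Buv⟩ := C.partnerU P.Qe P.Qf P.ef hu₀U Qu₀ hu₀0
  have Bvu : B v₀ u₀ = 1 := by rw [hs]; exact Buv
  have ht2 : IsHF Q B (Fin.cons (u₀, v₀) (t1F e f) : Fin 2 → (ι → F) × (ι → F)) := by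
    rw [isHF_cons_iff h]
    exact ⟨t1F_HF P.Qe P.Qf P.ef, hu₀, (mem_t1F h).2 hv₀, Qu₀, Qv₀, Buv⟩
  obtain ⟨u₁, hu₁, hu₁0, Qu₁⟩ := hasSing h C.ht hm2 _ ht2
  obtain ⟨v₁, hv₁, Qv₁, Bv₁u₁⟩ := exists_partner h (ND_perpOf h C.nd _ ht2) hu₁ hu₁0 Qu₁
  have Bu₁v₁ : B u₁ v₁ = 1 := by rw [hs]; exact Bv₁u₁
  -- elements of the smaller space
  have uU : ∀ y ∈ perpOf h (Fin.cons (u₀, v₀) (t1F e f) : Fin 2 → (ι → F) × (ι → F)),
      IsU B e f y ∧ B y u₀ = 0 ∧ B y v₀ = 0 := by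
    intro y hy
    refine ⟨⟨by simpa [t1F] using (hy 1).1, by simpa [t1F] using (hy 1).2⟩, by simpa using (hy 0).1, by simpa using (hy 0).2⟩
  have hκ : B (T u₀) (T v₀) ≠ 0 := by
    intro e0
    have e1 := P.symm.perp_pres (P.mem _ hu₀U) (P.mem _ hv₀) (P.Q_sing hu₀U Qu₀) (P.Q_sing hv₀ Qv₀) e0
    rw [P.left_inv hu₀U, P.left_inv hv₀, Buv] at e1
    exact one_ne_zero e1
  -- on the smaller space the images are perpendicular to the images of the pair
  have hperp : ∀ y ∈ perpOf h (Fin.cons (u₀, v₀) (t1F e f) : Fin 2 → (ι → F) × (ι → F)),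
      B (T y) (T u₀) = 0 ∧ B (T y) (T v₀) = 0 := by
    intro y hy
    obtain ⟨r, s, w, hw, Qw, ex⟩ := decomp3 h hu₁ hv₁ Qu₁ Qv₁ Bu₁v₁ hy
    obtain ⟨a1, a2, a3⟩ := uU _ hu₁
    obtain ⟨b1, b2, b3⟩ := uU _ hv₁
    obtain ⟨c1, c2, c3⟩ := uU _ hw
    have e1 : T y = σ r • T u₁ + σ s • T v₁ + T w := by
      rw [ex, P.add ((a1.smul h _).add h (b1.smul h _)) c1, P.add (a1.smul h _) (b1.smul h _), hσ _ a1 Qu₁, hσ _ b1 Qv₁]
    constructor
    · rw [e1, h.add_left, h.add_left, h.smul_left, h.smul_left, P.perp_pres a1 hu₀U Qu₁ Qu₀ a2, P.perp_pres b1 hu₀U Qv₁ Qu₀ b2,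
        P.perp_pres c1 hu₀U Qw Qu₀ c2]
      ring
    · rw [e1, h.add_left, h.add_left, h.smul_left, h.smul_left, P.perp_pres a1 hv₀ Qu₁ Qv₀ a3, P.perp_pres b1 hv₀ Qv₁ Qv₀ b3,
        P.perp_pres c1 hv₀ Qw Qv₀ c3]
      ring
  have QTu := P.Q_sing hu₀U Qu₀
  have QTv := P.Q_sing hv₀ Qv₀
  -- the value on the smaller space
  have hsmall : ∀ y ∈ perpOf h (Fin.cons (u₀, v₀) (t1F e f) : Fin 2 → (ι → F) × (ι → F)),
      Q (T y) = B (T u₀) (T v₀) * σ (Q y) := by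
    intro y hy
    obtain ⟨c1, c2, c3⟩ := uU _ hy
    obtain ⟨d1, d2⟩ := hperp y hy
    have Qs : Q ((1 : F) • u₀ + (-(Q y)) • v₀ + y) = 0 := by
      rw [h.Q_pair Qu₀ Qv₀ Buv c2 c3]
      ring
    have hsU : IsU B e f ((1 : F) • u₀ + (-(Q y)) • v₀ + y) := ((hu₀U.smul h _).add h (hv₀.smul h _)).add h c1
    have e1 := P.Q_sing hsU Qs
    rw [P.add ((hu₀U.smul h _).add h (hv₀.smul h _)) c1, P.add (hu₀U.smul h _) (hv₀.smul h _), hσ _ hu₀U Qu₀, hσ _ hv₀ Qv₀,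
      h.add, h.add, h.smul, h.smul, h.smul_left, h.smul_right, QTu, QTv, h.add_left, h.smul_left, h.smul_left, hs (T u₀) (T y),
      hs (T v₀) (T y), d1, d2, map_one, map_neg] at e1
    linear_combination e1
  refine ⟨_, hκ, ?_⟩
  intro x hx
  obtain ⟨y, hy⟩ : ∃ y, y = x - B x v₀ • u₀ - B x u₀ • v₀ := ⟨_, rfl⟩
  have hyU : IsU B e f y := by
    rw [hy]
    constructor
    · rw [h.sub_left, h.sub_left, h.smul_left, h.smul_left, hx.1, hu₀U.1, hv₀.1]
      ring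
    · rw [h.sub_left, h.sub_left, h.smul_left, h.smul_left, hx.2, hu₀U.2, hv₀.2]
      ring
  have y1 : B y u₀ = 0 := by
    rw [hy, h.sub_left, h.sub_left, h.smul_left, h.smul_left, Buu h Qu₀, Bvu]
    ring
  have y2 : B y v₀ = 0 := by
    rw [hy, h.sub_left, h.sub_left, h.smul_left, h.smul_left, Buu h Qv₀, Buv]
    ring
  have hymem : y ∈ perpOf h (Fin.cons (u₀, v₀) (t1F e f) : Fin 2 → (ι → F) × (ι → F)) := by
    intro i
    refine Fin.cases ?_ (fun j => ?_) i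
    · exact ⟨y1, y2⟩
    · exact hyU
  have ex : x = B x v₀ • u₀ + B x u₀ • v₀ + y := by
    rw [hy]
    abel
  obtain ⟨d1, d2⟩ := hperp y hymem
  have e1 : Q x = B x v₀ * B x u₀ + Q y := by
    conv_lhs => rw [ex]
    exact h.Q_pair Qu₀ Qv₀ Buv y1 y2 _ _
  conv_lhs => rw [ex]
  rw [P.add ((hu₀U.smul h _).add h (hv₀.smul h _)) hyU, P.add (hu₀U.smul h _) (hv₀.smul h _), hσ _ hu₀U Qu₀, hσ _ hv₀ Qv₀,
    h.add, h.add, h.smul, h.smul, h.smul_left, h.smul_right, QTu, QTv, h.add_left, h.smul_left, h.smul_left, hs (T u₀) (T y),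
    hs (T v₀) (T y), d1, d2, hsmall y hymem, e1, map_add, map_mul]
  ring

end TP

end Cfsg.Agent.H01.Om
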