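import Cfsg.Agent.Lib.H01.OmRX
/-! The root groups of lines are characterised through centres of Sylow subgroups. -/
set_option autoImplicit false
set_option linter.unusedSimpArgs false
set_option linter.style.haveILetI false
set_option linter.unusedSectionVars false
set_option linter.unusedVariables false
namespace Cfsg.Agent.H01.Om
open Matrix Cfsg.Agent.Lead.Ortho Cfsg.Agent.Lead.Omega

variable {F : Type*} [Field F] [Fintype F] {ι : Type} [Fintype ι] [DecidableEq ι]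
variable {Q : (ι → F) → F} {B : (ι → F) → (ι → F) → F}
variable {m : ℕ} {t₀ : Fin m → (ι → F) × (ι → F)}

/-- decomposition of vectors into singular ones -/
lemma decomp3 (h : QF Q B) {S : Submodule F (ι → F)} {u v x : ι → F} (hu : u ∈ S) (hv : v ∈ S) (Qu : Q u = 0) (Qv : Q v = 0)
    (Buv : B u v = 1) (hx : x ∈ S) : ∃ α β : F, ∃ s, s ∈ S ∧ Q s = 0 ∧ x = α • u + β • v + s := by
  obtain ⟨y, hy⟩ : ∃ y, y = x - B x v • u - B x u • v := ⟨_, rfl⟩
  have Bvu : B v u = 1 := by rw [h.symm]; exact Buv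
  have Byu : B y u = 0 := by
    rw [hy, h.sub_left, h.sub_left, h.smul_left, h.smul_left, Buu h Qu, Bvu]
    ring
  have Byv : B y v = 0 := by
    rw [hy, h.sub_left, h.sub_left, h.smul_left, h.smul_left, Buu h Qv, Buv]
    ring
  have hyS : y ∈ S := by
    rw [hy]
    exact S.sub_mem (S.sub_mem hx (S.smul_mem _ hu)) (S.smul_mem _ hv)
  refine ⟨B x v - 1, B x u + Q y, (1 : F) • u + (-(Q y)) • v + y, ?_, ?_, ?_⟩
  · exact S.add_mem (S.add_mem (S.smul_mem _ hu) (S.smul_mem _ hv)) hyS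
  · rw [h.Q_pair Qu Qv Buv Byu Byv]
    ring
  · rw [hy]
    funext i
    simp only [Pi.add_apply, Pi.sub_apply, Pi.smul_apply, smul_eq_mul]
    ring

/-- the table of a hyperbolic 3-frame -/
structure T3 (Q : (ι → F) → F) (B : (ι → F) → (ι → F) → F) (e0 f0 e1 f1 e2 f2 : ι → F) : Prop where
  Qe0 : Q e0 = 0
  Qf0 : Q f0 = 0
  Qe1 : Q e1 = 0
  Qf1 : Q f1 = 0
  Qe2 : Q e2 = 0
  Qf2 : Q f2 = 0
  e0f0 : B e0 f0 = 1
  e1f1 : B e1 f1 = 1
  e2f2 : B e2 f2 = 1
  e0e1 : B e0 e1 = 0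
  e0f1 : B e0 f1 = 0
  e0e2 : B e0 e2 = 0
  e0f2 : B e0 f2 = 0
  f0e1 : B f0 e1 = 0
  f0f1 : B f0 f1 = 0
  f0e2 : B f0 e2 = 0
  f0f2 : B f0 f2 = 0
  e1e2 : B e1 e2 = 0
  e1f2 : B e1 f2 = 0
  f1e2 : B f1 e2 = 0
  f1f2 : B f1 f2 = 0

section Em
variable (C : Cx Q B t₀)
include C

lemma Cx.em_mul {u a a' : ι → F} (hA : Adm Q B u a) (hA' : Adm Q B u a') : C.em u a * C.em u a' = C.em u (a + a') :=
  Subtype.ext (eO_mul hA hA')

lemma Cx.em_zero {u : ι → F} (Qu : Q u = 0) : C.em u 0 = 1 :=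
  Subtype.ext (eO_zero Qu)

lemma Cx.em_inv {u a : ι → F} (hA : Adm Q B u a) : (C.em u a)⁻¹ = C.em u (-a) :=
  Subtype.ext (eO_inv hA)

lemma Cx.em_pow {u a : ι → F} (hA : Adm Q B u a) (n : ℕ) : C.em u a ^ n = C.em u ((n : F) • a) := by
  have h := C.h
  induction n with
  | zero =>
    simp only [pow_zero, Nat.cast_zero, zero_smul]
    exact (C.em_zero hA.uu).symm
  | succ n ih =>
    have hA' : Adm Q B u ((n : F) • a) := ⟨hA.uu, by rw [h.smul_left, hA.au, mul_zero]⟩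
    rw [pow_succ, ih, C.em_mul hA' hA]
    congr 1
    push_cast
    rw [add_smul, one_smul]

end Em

/-- the abelian group of Siegel maps with a given centre and parameters in a subspace -/
def Cx.QS (C : Cx Q B t₀) {u : ι → F} (Qu : Q u = 0) (S : Submodule F (ι → F)) (hS : ∀ a ∈ S, B a u = 0) :
    Subgroup ↥(Cfsg.Omega F Q) where
  carrier := {s | ∃ a ∈ S, s = C.em u a}
  mul_mem' := by
    rintro _ _ ⟨a, ha, rfl⟩ ⟨b, hb, rfl⟩
    exact ⟨a + b, S.add_mem ha hb, C.em_mul ⟨Qu, hS a ha⟩ ⟨Qu, hS b hb⟩⟩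
  one_mem' := ⟨0, S.zero_mem, (C.em_zero Qu).symm⟩
  inv_mem' := by
    rintro _ ⟨a, ha, rfl⟩
    exact ⟨-a, S.neg_mem ha, C.em_inv ⟨Qu, hS a ha⟩⟩

lemma Cx.isP_QS (C : Cx Q B t₀) (p : ℕ) [Fact p.Prime] [CharP F p] {u : ι → F} (Qu : Q u = 0) (S : Submodule F (ι → F))
    (hS : ∀ a ∈ S, B a u = 0) : IsPGroup p (C.QS Qu S hS) := by
  rintro ⟨s, a, ha, rfl⟩
  refine ⟨1, ?_⟩
  apply Subtype.ext
  apply Subtype.ext
  simp only [pow_one, SubmonoidClass.mk_pow, Subgroup.coe_pow, OneMemClass.coe_one]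
  have := C.em_pow ⟨Qu, hS a ha⟩ p
  rw [CharP.cast_eq_zero F p, zero_smul, C.em_zero Qu] at this
  exact congrArg (fun x : ↥(Cfsg.Omega F Q) => (x : OG F Q)) this

/-- the part of the centre of a subgroup -/
def Zc {G : Type*} [Group G] (P : Subgroup G) : Set G := {x | x ∈ P ∧ ∀ y ∈ P, x * y = y * x}

lemma Zc_map {G : Type*} [Group G] (P : Subgroup G) (γ : MulAut G) : γ '' Zc P = Zc (P.map γ.toMonoidHom) := by
  ext x
  constructor
  · rintro ⟨x, ⟨h1, h2⟩, rfl⟩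
    refine ⟨⟨x, h1, rfl⟩, ?_⟩
    rintro _ ⟨y, hy, rfl⟩
    change γ x * γ y = γ y * γ x
    rw [← map_mul, ← map_mul, h2 y hy]
  · rintro ⟨⟨x, h1, rfl⟩, h2⟩
    refine ⟨x, ⟨h1, fun y hy => ?_⟩, rfl⟩
    apply γ.injective
    rw [map_mul, map_mul]
    exact h2 _ ⟨y, hy, rfl⟩

section Lift
variable (C : Cx Q B t₀)
include C

lemma Cx.mk_conj_ee (s : ↥(Cfsg.Omega F Q)) {u a : ι → F} (hA : Adm Q B u a) :
    (QuotientGroup.mk s : Cfsg.POmega F Q) * C.ee u a * (QuotientGroup.mk s : Cfsg.POmega F Q)⁻¹ =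
      C.ee (act (s : OG F Q) u) (act (s : OG F Q) a) := by
  have e : C.em (act (s : OG F Q) u) (act (s : OG F Q) a) = s * C.em u a * s⁻¹ := by
    apply Subtype.ext
    change eO C.h _ _ = (s : OG F Q) * eO C.h u a * (s : OG F Q)⁻¹
    rw [eO_conj _ hA]
  unfold Cx.ee
  rw [e, QuotientGroup.mk_mul, QuotientGroup.mk_mul, QuotientGroup.mk_inv]

/-- a lift of an element centralising all `E(e0, a)` is, up to a scalar, one of them -/
lemma Cx.zc_lift {e0 f0 e1 f1 e2 f2 : ι → F} (T : T3 Q B e0 f0 e1 f1 e2 f2) (z : ↥(Cfsg.Omega F Q))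
    (hz1 : ∀ a, B a e0 = 0 → (QuotientGroup.mk z : Cfsg.POmega F Q) * C.ee e0 a = C.ee e0 a * QuotientGroup.mk z) :
    ∃ a₀, B a₀ e0 = 0 ∧ (QuotientGroup.mk z : Cfsg.POmega F Q) = C.ee e0 a₀ := by
  have h := C.h
  have hs := fun x y => h.symm x y
  have Bf0e0 : B f0 e0 = 1 := by rw [hs]; exact T.e0f0
  have Be0e0 := Buu h T.Qe0
  have Be1e0 : B e1 e0 = 0 := by rw [hs]; exact T.e0e1
  have Be2e0 : B e2 e0 = 0 := by rw [hs]; exact T.e0e2
  have Be1f0 : B e1 f0 = 0 := by rw [hs]; exact T.f0e1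
  have Bf1e0 : B f1 e0 = 0 := by rw [hs]; exact T.e0f1
  have key : ∀ a, B a e0 = 0 → eO C.h (act (z : OG F Q) e0) (act (z : OG F Q) a) = eO C.h e0 a :=
    fun a ha => C.conj_of_comm z ⟨T.Qe0, ha⟩ (hz1 a ha)
  have I01 : Ind2 e0 e1 := ind2_of_pair h T.e0f0 Be1f0 T.e1f1 T.e0f1
  have I02 : Ind2 e0 e2 := ind2_of_pair h T.e0f0 (by rw [hs]; exact T.f0e2) T.e2f2 T.e0f2
  have m1 := (C.mem_of_eO_eq (adm_conj h (z : OG F Q) ⟨T.Qe0, Be1e0⟩) ⟨T.Qe0, Be1e0⟩ T.Qe1 (key e1 Be1e0)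
    (ind2_act C _ I01)).1
  have m2 := (C.mem_of_eO_eq (adm_conj h (z : OG F Q) ⟨T.Qe0, Be2e0⟩) ⟨T.Qe0, Be2e0⟩ T.Qe2 (key e2 Be2e0)
    (ind2_act C _ I02)).1
  rw [Submodule.mem_span_pair] at m1 m2
  obtain ⟨c, s1, e1'⟩ := m1
  obtain ⟨r2, s2, e2'⟩ := m2
  have es1 : s1 = 0 := by
    have := congrArg (fun w => B w f1) (e1'.trans e2'.symm)
    simp only [h.add_left, h.smul_left, T.e0f1, T.e1f1, hs e2 f1, T.f1e2] at this
    simpa using this
  rw [es1, zero_smul, add_zero] at e1'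
  have hze0 : act (z : OG F Q) e0 = c • e0 := e1'.symm
  have he00 : e0 ≠ 0 := I01.left_ne
  have hc : c ≠ 0 := by
    rintro rfl
    rw [zero_smul] at hze0
    apply he00
    apply act_injective (z : OG F Q)
    rw [hze0, act_zero]
  -- the action modulo `e0`
  have k2 : ∀ a, B a e0 = 0 → ∃ κ : F, c • act (z : OG F Q) a = a + κ • e0 := by
    intro a ha
    have e3 := key a ha
    rw [hze0] at e3
    have hA : Adm Q B (c • e0) (act (z : OG F Q) a) := by
      rw [← hze0]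
      exact adm_conj h _ ⟨T.Qe0, ha⟩
    rw [eO_scale hc hA] at e3
    have hA' := adm_scale h hc hA
    have e4 : act (eO C.h e0 (c • act (z : OG F Q) a)) f0 = act (eO C.h e0 a) f0 := by rw [e3]
    rw [act_eO hA', act_eO ⟨T.Qe0, ha⟩] at e4
    unfold Efun at e4
    rw [Bf0e0] at e4
    refine ⟨(B f0 (c • act (z : OG F Q) a) + Q (c • act (z : OG F Q) a) * 1) - (B f0 a + Q a * 1), ?_⟩
    funext i
    have := congrFun e4 i
    simp only [Pi.add_apply, Pi.sub_apply, Pi.smul_apply, smul_eq_mul] at this ⊢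
    linear_combination this
  -- `c^2 = 1`
  have hcc : c * c = 1 := by
    obtain ⟨κ, hκ⟩ := k2 (e1 + f1) (by rw [h.add_left, Be1e0, Bf1e0, add_zero])
    have e3 := congrArg Q hκ
    have Qa : Q (e1 + f1) = 1 := by rw [h.add, T.Qe1, T.Qf1, T.e1f1]; ring
    rw [h.smul, Q_act (Q := Q), Qa, h.add, Qa, h.smul, T.Qe0, h.smul_right, h.add_left, Be1e0, Bf1e0] at e3
    linear_combination e3
  obtain ⟨y, hy⟩ : ∃ y, y = act (z : OG F Q) f0 := ⟨_, rfl⟩
  have Qy : Q y = 0 := by rw [hy, Q_act (Q := Q)]; exact T.Qf0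
  have Bye0 : B y e0 = c := by
    have e3 := B_act h (z : OG F Q) f0 e0
    rw [← hy, hze0, h.smul_right, Bf0e0] at e3
    calc B y e0 = (c * c) * B y e0 := by rw [hcc, one_mul]
      _ = c * (c * B y e0) := by ring
      _ = c := by rw [e3, mul_one]
  have Qcy : Q (c • y) = 0 := by rw [h.smul, Qy, mul_zero]
  have hcy : B (c • y) e0 = B f0 e0 := by rw [h.smul_left, Bye0, hcc, Bf0e0]
  obtain ⟨a₀, hA, ha₀, eE⟩ := exists_E_map h T.Qe0 T.Qf0 Qcy (by rw [Bf0e0]; exact one_ne_zero) hcy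
  rw [Bf0e0, inv_one, one_smul] at ha₀
  have Ba₀e0 : B a₀ e0 = 0 := hA.au
  have Be0a₀ : B e0 a₀ = 0 := by rw [hs]; exact Ba₀e0
  -- `z` is `c` times a Siegel map
  have Ee0 : act (eO C.h e0 a₀) e0 = e0 := by
    rw [act_eO hA]
    unfold Efun
    rw [Be0e0, Be0a₀]
    simp
  have key3 : ∀ x, B x e0 = 0 → B x f0 = 0 → act (z : OG F Q) x = c • act (eO C.h e0 a₀) x := by
    intro x hx1 hx2
    obtain ⟨κ, hκ⟩ := k2 x hx1
    have e5 : act (z : OG F Q) x = c • (x + κ • e0) := by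
      rw [← hκ, smul_smul, hcc, one_smul]
    have e6 : B (act (z : OG F Q) x) y = 0 := by
      rw [hy, B_act h, hx2]
    rw [e5, h.smul_left, h.add_left, h.smul_left, hs e0 y, Bye0] at e6
    have e7 : B x y + κ * c = 0 := (mul_eq_zero.1 e6).resolve_left hc
    have e8 : B x a₀ = c * B x y := by
      rw [ha₀, h.sub_right, h.smul_right, hx2, sub_zero]
    rw [act_eO hA, e5]
    unfold Efun
    rw [hx1, e8]
    funext i
    simp only [Pi.add_apply, Pi.sub_apply, Pi.smul_apply, smul_eq_mul]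
    have e9 : κ = -(c * B x y) := by
      have : κ = κ * (c * c) := by rw [hcc, mul_one]
      rw [this]
      linear_combination c * e7
    rw [e9]
    ring
  have key0 : ∀ x, act (z : OG F Q) x = c • act (eO C.h e0 a₀) x := by
    intro x
    obtain ⟨u, hu⟩ : ∃ u, u = x - B x f0 • e0 - B x e0 • f0 := ⟨_, rfl⟩
    have u1 : B u e0 = 0 := by
      rw [hu, h.sub_left, h.sub_left, h.smul_left, h.smul_left, Be0e0, Bf0e0]
      ring
    have u2 : B u f0 = 0 := by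
      rw [hu, h.sub_left, h.sub_left, h.smul_left, h.smul_left, T.e0f0, Buu h T.Qf0]
      ring
    have ex : x = B x f0 • e0 + B x e0 • f0 + u := by
      rw [hu]
      abel
    have e0' : act (z : OG F Q) e0 = c • act (eO C.h e0 a₀) e0 := by rw [Ee0]; exact hze0
    have f0' : act (z : OG F Q) f0 = c • act (eO C.h e0 a₀) f0 := by
      rw [act_eO hA, eE, smul_smul, hcc, one_smul, hy]
    conv_lhs => rw [ex]
    conv_rhs => rw [ex]
    rw [act_add, act_add, act_smul, act_smul, e0', f0', key3 u u1 u2, act_add, act_add, act_smul, act_smul]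
    funext i
    simp only [Pi.add_apply, Pi.smul_apply, smul_eq_mul]
    ring
  refine ⟨a₀, Ba₀e0, ?_⟩
  symm
  apply QuotientGroup.eq.2
  apply C.mem_center_of_scalar (α := c)
  intro x
  change act ((eO C.h e0 a₀)⁻¹ * (z : OG F Q)) x = c • x
  rw [act_mul, key0, act_smul, act_inv_act]

/-- the centre of the parameter -/
lemma Cx.a0_mem {e0 f0 e1 f1 e2 f2 : ι → F} (T : T3 Q B e0 f0 e1 f1 e2 f2) {a₀ : ι → F} (ha₀ : B a₀ e0 = 0)
    (H : ∀ b, B b e1 = 0 → B b e0 = 0 → B b f0 = 0 → C.ee e0 a₀ * C.ee e1 b = C.ee e1 b * C.ee e0 a₀) :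
    a₀ ∈ sp e0 e1 := by
  have h := C.h
  have hs := fun x y => h.symm x y
  have A0 : Adm Q B e0 a₀ := ⟨T.Qe0, ha₀⟩
  have Be1e0 : B e1 e0 = 0 := by rw [hs]; exact T.e0e1
  have Be1f0 : B e1 f0 = 0 := by rw [hs]; exact T.f0e1
  -- the values on singular vectors
  have key : ∀ b, Q b = 0 → b ≠ 0 → B b e1 = 0 → B b e0 = 0 → B b f0 = 0 → B b f1 = 0 → B e1 a₀ = 0 ∧ B b a₀ = 0 := by
    intro b Qb hb0 b1 b2 b3 b4
    have A1 : Adm Q B e1 b := ⟨T.Qe1, b1⟩
    have e3 := C.conj_of_comm (C.em e0 a₀) A1 (H b b1 b2 b3)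
    change eO C.h (act (eO C.h e0 a₀) e1) (act (eO C.h e0 a₀) b) = eO C.h e1 b at e3
    have I : Ind2 e1 b := by
      intro s t e
      have e4 := congrArg (fun w => B w f1) e
      simp only [h.add_left, h.smul_left, T.e1f1, b4, h.zero_left, mul_one, mul_zero, add_zero] at e4
      subst e4
      rw [zero_smul, zero_add] at e
      exact ⟨rfl, (smul_eq_zero.1 e).resolve_right hb0⟩
    obtain ⟨m1, m2⟩ := C.mem_of_eO_eq (adm_conj h _ A1) A1 Qb e3 (ind2_act C _ I)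
    rw [act_eO A0, Submodule.mem_span_pair] at m1 m2
    obtain ⟨r, s, e4⟩ := m1
    obtain ⟨r', s', e5⟩ := m2
    unfold Efun at e4 e5
    rw [Be1e0] at e4
    rw [b2] at e5
    have e6 := congrArg (fun w => B w f0) e4
    have e7 := congrArg (fun w => B w f0) e5
    simp only [h.add_left, h.sub_left, h.smul_left, Be1f0, T.e0f0, b3] at e6 e7
    constructor
    · simpa using e6.symm
    · simpa using e7.symm
  have hm2 : 2 ≤ m := by have := C.hm; omega
  let t2 : Fin 2 → (ι → F) × (ι → F) := ![(e0, f0), (e1, f1)]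
  have ht2 : IsHF Q B t2 := by
    intro i j
    fin_cases i <;> fin_cases j <;>
      simp [t2, T.e0f0, T.e1f1, T.e0f1, T.e0e1, T.f0f1, Be1f0, T.Qe0, T.Qf0, T.Qe1, T.Qf1, hs e1 e0, hs f1 f0]
  have me2 : e2 ∈ perpOf h t2 := by
    intro i
    fin_cases i
    · exact ⟨by simpa [t2] using (by rw [hs]; exact T.e0e2), by simpa [t2] using (by rw [hs]; exact T.f0e2)⟩
    · exact ⟨by simpa [t2] using (by rw [hs]; exact T.e1e2), by simpa [t2] using (by rw [hs]; exact T.f1e2)⟩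
  have mf2 : f2 ∈ perpOf h t2 := by
    intro i
    fin_cases i
    · exact ⟨by simpa [t2] using (by rw [hs]; exact T.e0f2), by simpa [t2] using (by rw [hs]; exact T.f0f2)⟩
    · exact ⟨by simpa [t2] using (by rw [hs]; exact T.e1f2), by simpa [t2] using (by rw [hs]; exact T.f1f2)⟩
  have he20 : e2 ≠ 0 := by
    rintro rfl
    have := T.e2f2
    rw [h.zero_left] at this
    exact zero_ne_one this
  have k1 : B e1 a₀ = 0 := (key e2 T.Qe2 he20 (by rw [hs]; exact T.e1e2) (by rw [hs]; exact T.e0e2)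
    (by rw [hs]; exact T.f0e2) (by rw [hs]; exact T.f1e2)).1
  obtain ⟨a'', ha''⟩ : ∃ a'', a'' = a₀ - B a₀ f0 • e0 - B a₀ f1 • e1 := ⟨_, rfl⟩
  have Bz0 : ∀ b ∈ perpOf h t2, Q b = 0 → B a'' b = 0 := by
    intro b hb Qb
    by_cases hb0 : b = 0
    · rw [hb0, h.zero_right]
    have b1 : B b e0 = 0 := by simpa [t2] using (hb 0).1
    have b2 : B b f0 = 0 := by simpa [t2] using (hb 0).2
    have b3 : B b e1 = 0 := by simpa [t2] using (hb 1).1
    have b4 : B b f1 = 0 := by simpa [t2] using (hb 1).2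
    have e3 := (key b Qb hb0 b3 b1 b2 b4).2
    rw [ha'', h.sub_left, h.sub_left, h.smul_left, h.smul_left, hs e0 b, b1, hs e1 b, b3, hs a₀ b, e3]
    ring
  have ha''0 : a'' = 0 := by
    by_contra hne
    have ha''mem : a'' ∈ perpOf h t2 := by
      intro i
      fin_cases i
      · constructor
        · change B a'' e0 = 0
          rw [ha'', h.sub_left, h.sub_left, h.smul_left, h.smul_left, ha₀, Buu h T.Qe0, Be1e0]
          ring
        · change B a'' f0 = 0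
          rw [ha'', h.sub_left, h.sub_left, h.smul_left, h.smul_left, T.e0f0, Be1f0]
          ring
      · constructor
        · change B a'' e1 = 0
          rw [ha'', h.sub_left, h.sub_left, h.smul_left, h.smul_left, hs a₀ e1, k1, T.e0e1, Buu h T.Qe1]
          ring
        · change B a'' f1 = 0
          rw [ha'', h.sub_left, h.sub_left, h.smul_left, h.smul_left, T.e0f1, T.e1f1]
          ring
    obtain ⟨y, hy, hy0⟩ := (ND_perpOf h C.nd t2 ht2) a'' ha''mem hne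
    obtain ⟨α, β, s, hs1, Qs, ey⟩ := decomp3 h me2 mf2 T.Qe2 T.Qf2 T.e2f2 hy
    apply hy0
    rw [ey, h.add_right, h.add_right, h.smul_right, h.smul_right, Bz0 e2 me2 T.Qe2, Bz0 f2 mf2 T.Qf2, Bz0 s hs1 Qs]
    ring
  have e3 : a₀ = B a₀ f0 • e0 + B a₀ f1 • e1 := by
    rw [ha''] at ha''0
    funext i
    have := congrFun ha''0 i
    simp only [Pi.add_apply, Pi.sub_apply, Pi.smul_apply, smul_eq_mul, Pi.zero_apply] at this ⊢
    linear_combination this
  rw [e3, Submodule.mem_span_pair]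
  exact ⟨_, _, rfl⟩

/-- elements of the root group of a pair are `E(e0, t e1)` -/
lemma Cx.RX_form {e0 e1 : ι → F} (hL : IsLn Q (sp e0 e1)) (I : Ind2 e0 e1) {g : Cfsg.POmega F Q} (hg : g ∈ C.RX (sp e0 e1)) :
    ∃ t : F, g = C.ee e0 (t • e1) := by
  obtain ⟨x, hx, y, hy, rfl⟩ := hg
  rw [Submodule.mem_span_pair] at hx hy
  obtain ⟨s₁, t₁, hx⟩ := hx
  obtain ⟨s₂, t₂, hy⟩ := hy
  refine ⟨s₁ * t₂ - t₁ * s₂, ?_⟩
  unfold Cx.ee
  congr 1
  apply Subtype.ext
  exact eO_basis C hL (mem_sp_left _ _) (mem_sp_right _ _) hx.symm hy.symm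

/-- a nontrivial central element of the root group makes the whole root group central -/
lemma Cx.zc_sup {e0 e1 : ι → F} (hL : IsLn Q (sp e0 e1)) (I : Ind2 e0 e1) (P : Subgroup (Cfsg.POmega F Q))
    (hsub : C.RX (sp e0 e1) ⊆ P) {x : Cfsg.POmega F Q} (hx : x ∈ Zc P) (hx1 : x ≠ 1) (hxR : x ∈ C.RX (sp e0 e1)) :
    C.RX (sp e0 e1) ⊆ Zc P := by
  have h := C.h
  have Qe0 := hL.ts e0 (mem_sp_left _ _)
  have Qe1 := hL.ts e1 (mem_sp_right _ _)
  have Be1e0 : B e1 e0 = 0 := hL.B0 h (mem_sp_right _ _) (mem_sp_left _ _)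
  obtain ⟨κ, rfl⟩ := C.RX_form hL I hxR
  have hκ : κ ≠ 0 := by
    rintro rfl
    apply hx1
    have e : C.em e0 ((0 : F) • e1) = 1 := by
      rw [zero_smul]
      exact C.em_zero Qe0
    unfold Cx.ee
    rw [e]
    rfl
  intro g hg
  refine ⟨hsub hg, ?_⟩
  obtain ⟨t, rfl⟩ := C.RX_form hL I hg
  intro y hy
  obtain ⟨s, rfl⟩ := QuotientGroup.mk_surjective y
  have hadm : ∀ r : F, Adm Q B e0 (r • e1) := fun r => ⟨Qe0, by rw [h.smul_left, Be1e0, mul_zero]⟩
  have e3 := C.conj_of_comm s (hadm κ) (hx.2 _ hy).symm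
  rw [act_smul] at e3
  obtain ⟨x', hx'⟩ : ∃ x', x' = act (s : OG F Q) e0 := ⟨_, rfl⟩
  obtain ⟨y', hy'⟩ : ∃ y', y' = act (s : OG F Q) e1 := ⟨_, rfl⟩
  rw [← hx', ← hy'] at e3
  have Qx' : Q x' = 0 := by rw [hx', Q_act (Q := Q)]; exact Qe0
  have Qy' : Q y' = 0 := by rw [hy', Q_act (Q := Q)]; exact Qe1
  have By'x' : B y' x' = 0 := by rw [hx', hy', B_act h]; exact Be1e0
  have hadm' : ∀ r : F, Adm Q B x' (r • y') := fun r => ⟨Qx', by rw [h.smul_left, By'x', mul_zero]⟩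
  have hN : ∀ w, B w x' • y' - B w y' • x' = B w e0 • e1 - B w e1 • e0 := by
    intro w
    have e4 : act (eO C.h x' (κ • y')) w = act (eO C.h e0 (κ • e1)) w := by rw [e3]
    rw [act_eO (hadm' κ), act_eO (hadm κ), Efun_pure (by rw [h.smul, Qy', mul_zero]),
      Efun_pure (by rw [h.smul, Qe1, mul_zero]), h.smul_right, h.smul_right] at e4
    have e5 : κ • (B w x' • y' - B w y' • x') = κ • (B w e0 • e1 - B w e1 • e0) := by
      funext i
      have := congrFun e4 i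
      simp only [Pi.add_apply, Pi.sub_apply, Pi.smul_apply, smul_eq_mul] at this ⊢
      linear_combination this
    exact smul_right_injective _ hκ e5
  have e6 : eO C.h x' (t • y') = eO C.h e0 (t • e1) := by
    apply eO_ext (hadm' t) (hadm t)
    intro w
    rw [Efun_pure (by rw [h.smul, Qy', mul_zero]), Efun_pure (by rw [h.smul, Qe1, mul_zero]), h.smul_right, h.smul_right]
    have := hN w
    funext i
    have := congrFun this i
    simp only [Pi.add_apply, Pi.sub_apply, Pi.smul_apply, smul_eq_mul] at this ⊢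
    linear_combination t * this
  have e7 := C.mk_conj_ee s (hadm t)
  rw [act_smul, ← hx', ← hy'] at e7
  have e8 : C.ee x' (t • y') = C.ee e0 (t • e1) := by
    unfold Cx.ee
    congr 1
    exact Subtype.ext e6
  rw [e8] at e7
  rw [mul_inv_eq_iff_eq_mul] at e7
  exact e7.symm

end Lift

end Cfsg.Agent.H01.Om
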