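import Cfsg.Agent.Lib.H01.OmSyl
/-! Every automorphism of `PΩ` permutes the root groups of totally singular lines. -/
set_option autoImplicit false
set_option linter.unusedSimpArgs false
set_option linter.style.haveILetI false
set_option linter.unusedSectionVars false
set_option linter.unusedVariables false
namespace Cfsg.Agent.H01.Om
open Matrix Cfsg.Agent.Lead.Ortho Cfsg.Agent.Lead.Omega

variable {F : Type*} [Field F] [Fintype F] {ι : Type} [Fintype ι] [DecidableEq ι]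
variable {Q : (ι → F) → F} {B : (ι → F) → (ι → F) → F}
variable {m : ℕ} {t₀ : Fin m → (ι → F) × (ι → F)}

/-- the perp of a vector -/
def perp1 (h : QF Q B) (u : ι → F) : Submodule F (ι → F) where
  carrier := {a | B a u = 0}
  add_mem' := fun ha hb => by
    change B _ u = 0
    rw [h.add_left, ha, hb, add_zero]
  zero_mem' := h.zero_left u
  smul_mem' := fun c x hx => by
    change B _ u = 0
    rw [h.smul_left, hx, mul_zero]

section Syl
variable (C : Cx Q B t₀) (p : ℕ) [Fact p.Prime] [CharP F p]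

/-- a Sylow subgroup containing the two groups of Siegel maps -/
lemma Cx.exists_P {e0 f0 e1 f1 e2 f2 : ι → F} (T : T3 Q B e0 f0 e1 f1 e2 f2) :
    ∃ P : Sylow p (Cfsg.POmega F Q), (∀ a, B a e0 = 0 → C.ee e0 a ∈ (P : Subgroup (Cfsg.POmega F Q))) ∧
      ∀ b, B b e1 = 0 → B b e0 = 0 → B b f0 = 0 → C.ee e1 b ∈ (P : Subgroup (Cfsg.POmega F Q)) := by
  have h := C.h
  have hs := fun x y => h.symm x y
  let S₂ : Submodule F (ι → F) := perp1 h e1 ⊓ perp1 h e0 ⊓ perp1 h f0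
  let R₁ := C.QS T.Qe0 (perp1 h e0) (fun a ha => ha)
  let R₂ := C.QS T.Qe1 S₂ (fun b hb => hb.1.1)
  have P₁ : IsPGroup p R₁ := C.isP_QS p T.Qe0 _ _
  have P₂ : IsPGroup p R₂ := C.isP_QS p T.Qe1 _ _
  have hE : ∀ b ∈ S₂, act (eO C.h e1 b) e0 = e0 := by
    intro b hb
    have hA : Adm Q B e1 b := ⟨T.Qe1, hb.1.1⟩
    rw [act_eO hA]
    unfold Efun
    have b2 : B b e0 = 0 := hb.1.2
    rw [T.e0e1, hs e0 b, b2]
    simp
  have hconj : ∀ g ∈ R₂, ∀ x ∈ R₁, g * x * g⁻¹ ∈ R₁ := by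
    rintro _ ⟨b, hb, rfl⟩ _ ⟨a, ha, rfl⟩
    have hA : Adm Q B e0 a := ⟨T.Qe0, ha⟩
    refine ⟨act (eO C.h e1 b) a, ?_, ?_⟩
    · change B _ e0 = 0
      have e3 := B_act h (eO C.h e1 b) a e0
      rw [hE b hb] at e3
      rw [e3]
      exact ha
    · apply Subtype.ext
      change eO C.h e1 b * eO C.h e0 a * (eO C.h e1 b)⁻¹ = eO C.h e0 (act (eO C.h e1 b) a)
      rw [eO_conj _ hA, hE b hb]
  have hN : R₂ ≤ Subgroup.normalizer (R₁ : Set ↥(Cfsg.Omega F Q)) := by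
    intro g hg
    rw [Subgroup.mem_normalizer_iff]
    intro x
    constructor
    · exact hconj g hg x
    · intro hx
      have := hconj g⁻¹ (R₂.inv_mem hg) _ hx
      simpa [mul_assoc] using this
  have Psup : IsPGroup p (R₁ ⊔ R₂ : Subgroup ↥(Cfsg.Omega F Q)) := IsPGroup.to_sup_of_normal_left' P₁ P₂ hN
  have Pm := Psup.map (QuotientGroup.mk' (Subgroup.center ↥(Cfsg.Omega F Q)))
  obtain ⟨P, hP⟩ := Pm.exists_le_sylow
  refine ⟨P, ?_, ?_⟩
  · intro a ha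
    apply hP
    refine ⟨C.em e0 a, (le_sup_left : R₁ ≤ _) ⟨a, ha, rfl⟩, rfl⟩
  · intro b b1 b2 b3
    apply hP
    refine ⟨C.em e1 b, (le_sup_right : R₂ ≤ _) ⟨b, ⟨⟨b1, b2⟩, b3⟩, rfl⟩, rfl⟩

/-- nontrivial root elements -/
lemma Cx.ee_ne_one {u v : ι → F} (hA : Adm Q B u v) (Qv : Q v = 0) (I : Ind2 u v) : C.ee u v ≠ 1 := by
  intro e
  have e1 : C.ee u v = C.ee u 0 := by
    rw [e]
    have : C.em u 0 = 1 := C.em_zero hA.uu
    unfold Cx.ee
    rw [this]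
    rfl
  have e2 := C.eO_of_ee_eq hA ⟨hA.uu, C.h.zero_left u⟩ e1
  rw [eO_zero hA.uu] at e2
  obtain ⟨w, h1, h2⟩ := exists_dual2 C.h C.nd I 1 0
  have e3 : act (eO C.h u v) w = act (1 : OG F Q) w := by rw [e2]
  rw [act_eO hA, act_one, Efun_pure Qv, h1, h2] at e3
  apply I.right_ne
  simpa using e3

/-- the centre of the Sylow subgroup is the root group -/
lemma Cx.zc_eq {e0 f0 e1 f1 e2 f2 : ι → F} (T : T3 Q B e0 f0 e1 f1 e2 f2) (P : Sylow p (Cfsg.POmega F Q))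
    (h1 : ∀ a, B a e0 = 0 → C.ee e0 a ∈ (P : Subgroup (Cfsg.POmega F Q)))
    (h2 : ∀ b, B b e1 = 0 → B b e0 = 0 → B b f0 = 0 → C.ee e1 b ∈ (P : Subgroup (Cfsg.POmega F Q))) :
    Zc (P : Subgroup (Cfsg.POmega F Q)) = C.RX (sp e0 e1) := by
  have h := C.h
  have hs := fun x y => h.symm x y
  have Be1e0 : B e1 e0 = 0 := by rw [hs]; exact T.e0e1
  have Be1f0 : B e1 f0 = 0 := by rw [hs]; exact T.f0e1
  have I01 : Ind2 e0 e1 := ind2_of_pair h T.e0f0 Be1f0 T.e1f1 T.e0f1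
  have hL := isLn_sp h T.Qe0 T.Qe1 T.e0e1 I01
  have sub1 : Zc (P : Subgroup (Cfsg.POmega F Q)) ⊆ C.RX (sp e0 e1) := by
    intro x hx
    obtain ⟨z, rfl⟩ := QuotientGroup.mk_surjective x
    obtain ⟨a₀, ha₀, e3⟩ := C.zc_lift T z (fun a ha => hx.2 _ (h1 a ha))
    have hm := C.a0_mem T ha₀ (fun b b1 b2 b3 => by
      rw [← e3]
      exact hx.2 _ (h2 b b1 b2 b3))
    change (QuotientGroup.mk z : Cfsg.POmega F Q) ∈ _
    rw [e3]
    exact C.mem_RX (mem_sp_left _ _) hm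
  have hsub : C.RX (sp e0 e1) ⊆ (P : Subgroup (Cfsg.POmega F Q)) := by
    intro g hg
    obtain ⟨a, ha, rfl⟩ := C.RX_of_mem hL (mem_sp_left _ _) I01.left_ne hg
    exact h1 a (hL.B0 h ha (mem_sp_left _ _))
  apply Set.Subset.antisymm sub1
  have hne : C.ee e0 e1 ≠ 1 := C.ee_ne_one ⟨T.Qe0, Be1e0⟩ T.Qe1 I01
  have hnt : Nontrivial ↥(P : Subgroup (Cfsg.POmega F Q)) := by
    refine ⟨⟨⟨_, h1 e1 Be1e0⟩, 1, ?_⟩⟩
    intro e
    exact hne (congrArg Subtype.val e)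
  have hct := P.isPGroup'.center_nontrivial
  obtain ⟨⟨x, hx⟩, hx1⟩ := exists_ne (1 : Subgroup.center ↥(P : Subgroup (Cfsg.POmega F Q)))
  have hx2 : (x : Cfsg.POmega F Q) ∈ Zc (P : Subgroup (Cfsg.POmega F Q)) := by
    refine ⟨x.2, ?_⟩
    intro y hy
    have := (Subgroup.mem_center_iff.1 hx) ⟨y, hy⟩
    exact (congrArg Subtype.val this).symm
  have hx3 : (x : Cfsg.POmega F Q) ≠ 1 := by
    intro e
    apply hx1
    apply Subtype.ext
    exact Subtype.ext e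
  exact C.zc_sup hL I01 _ hsub hx2 hx3 (sub1 hx2)

include p in
/-- the image of the base root group is conjugate to it -/
lemma Cx.perm_base {e0 f0 e1 f1 e2 f2 : ι → F} (T : T3 Q B e0 f0 e1 f1 e2 f2) (α : MulAut (Cfsg.POmega F Q)) :
    ∃ g : Cfsg.POmega F Q, α '' C.RX (sp e0 e1) = MulAut.conj g '' C.RX (sp e0 e1) := by
  obtain ⟨P, h1, h2⟩ := C.exists_P p T
  have hz := C.zc_eq p T P h1 h2
  obtain ⟨g, hg⟩ := MulAction.exists_smul_eq (Cfsg.POmega F Q) P (α • P)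
  refine ⟨g, ?_⟩
  rw [← hz, Zc_map, Zc_map]
  congr 1
  have e1 : ((α • P : Sylow p (Cfsg.POmega F Q)) : Subgroup (Cfsg.POmega F Q)) =
      (P : Subgroup (Cfsg.POmega F Q)).map α.toMonoidHom := by
    rw [Sylow.pointwise_smul_def]
    ext x
    rw [Subgroup.mem_smul_pointwise_iff_exists]
    rfl
  have e2 : ((g • P : Sylow p (Cfsg.POmega F Q)) : Subgroup (Cfsg.POmega F Q)) =
      (P : Subgroup (Cfsg.POmega F Q)).map (MulAut.conj g).toMonoidHom := by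
    rw [Sylow.smul_def, Sylow.pointwise_smul_def]
    ext x
    rw [Subgroup.mem_smul_pointwise_iff_exists]
    rfl
  rw [← e1, ← e2, hg]

/-- conjugating root groups -/
lemma Cx.conj_RX (s : ↥(Cfsg.Omega F Q)) {u v : ι → F} (hL : IsLn Q (sp u v)) (I : Ind2 u v) :
    MulAut.conj (QuotientGroup.mk s : Cfsg.POmega F Q) '' C.RX (sp u v) =
      C.RX (sp (act (s : OG F Q) u) (act (s : OG F Q) v)) := by
  have h := C.h
  have Qu := hL.ts u (mem_sp_left _ _)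
  have Qv := hL.ts v (mem_sp_right _ _)
  have Buv : B u v = 0 := hL.B0 h (mem_sp_left _ _) (mem_sp_right _ _)
  have hL' : IsLn Q (sp (act (s : OG F Q) u) (act (s : OG F Q) v)) :=
    isLn_sp h (by rw [Q_act (Q := Q)]; exact Qu) (by rw [Q_act (Q := Q)]; exact Qv) (by rw [B_act h]; exact Buv) (ind2_act C _ I)
  ext g
  constructor
  · rintro ⟨x, hx, rfl⟩
    obtain ⟨a, ha, rfl⟩ := C.RX_of_mem hL (mem_sp_left _ _) I.left_ne hx
    rw [MulAut.conj_apply, C.mk_conj_ee s (IsLn.adm C hL (mem_sp_left _ _) ha)]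
    refine C.mem_RX (mem_sp_left _ _) ?_
    rw [Submodule.mem_span_pair] at ha ⊢
    obtain ⟨r, t, rfl⟩ := ha
    exact ⟨r, t, by rw [act_add, act_smul, act_smul]⟩
  · intro hg
    obtain ⟨a, ha, rfl⟩ := C.RX_of_mem hL' (mem_sp_left _ _) (ind2_act C _ I).left_ne hg
    rw [Submodule.mem_span_pair] at ha
    obtain ⟨r, t, rfl⟩ := ha
    have hm : r • u + t • v ∈ sp u v := by
      rw [Submodule.mem_span_pair]
      exact ⟨r, t, rfl⟩
    refine ⟨_, C.mem_RX (mem_sp_left _ _) hm, ?_⟩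
    rw [MulAut.conj_apply, C.mk_conj_ee s (IsLn.adm C hL (mem_sp_left _ _) hm), act_add, act_smul, act_smul]

/-- the base frame -/
lemma Cx.exists_T3 (C : Cx Q B t₀) : ∃ e0 f0 e1 f1 e2 f2, T3 Q B e0 f0 e1 f1 e2 f2 := by
  have hm := C.hm
  have ht := C.ht
  let i0 : Fin m := ⟨0, by omega⟩
  let i1 : Fin m := ⟨1, by omega⟩
  let i2 : Fin m := ⟨2, by omega⟩
  have n01 : i0 ≠ i1 := by simp [i0, i1, Fin.ext_iff]
  have n02 : i0 ≠ i2 := by simp [i0, i2, Fin.ext_iff]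
  have n12 : i1 ≠ i2 := by simp [i1, i2, Fin.ext_iff]
  refine ⟨(t₀ i0).1, (t₀ i0).2, (t₀ i1).1, (t₀ i1).2, (t₀ i2).1, (t₀ i2).2, ?_⟩
  exact ⟨(ht i0 i0).2.2.1, (ht i0 i0).2.2.2, (ht i1 i1).2.2.1, (ht i1 i1).2.2.2, (ht i2 i2).2.2.1, (ht i2 i2).2.2.2,
    by simpa using (ht i0 i0).1, by simpa using (ht i1 i1).1, by simpa using (ht i2 i2).1,
    ((ht i0 i1).2.1 n01).1, by simpa [n01] using (ht i0 i1).1, ((ht i0 i2).2.1 n02).1, by simpa [n02] using (ht i0 i2).1,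
    by rw [C.h.symm]; simpa [n01.symm] using (ht i1 i0).1, ((ht i0 i1).2.1 n01).2,
    by rw [C.h.symm]; simpa [n02.symm] using (ht i2 i0).1, ((ht i0 i2).2.1 n02).2,
    ((ht i1 i2).2.1 n12).1, by simpa [n12] using (ht i1 i2).1,
    by rw [C.h.symm]; simpa [n12.symm] using (ht i2 i1).1, ((ht i1 i2).2.1 n12).2⟩

/-- **Every automorphism permutes the root groups of lines.** -/
theorem Cx.perm (C : Cx Q B t₀) (α : MulAut (Cfsg.POmega F Q)) : C.Perm α := by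
  have h := C.h
  have hs := fun x y => h.symm x y
  obtain ⟨p, hp⟩ := CharP.exists F
  haveI : Fact p.Prime := ⟨CharP.char_is_prime F p⟩
  obtain ⟨e0, f0, e1, f1, e2, f2, T⟩ := C.exists_T3
  have Be1e0 : B e1 e0 = 0 := by rw [hs]; exact T.e0e1
  have Be1f0 : B e1 f0 = 0 := by rw [hs]; exact T.f0e1
  have I01 : Ind2 e0 e1 := ind2_of_pair h T.e0f0 Be1f0 T.e1f1 T.e0f1
  have hL₀ := isLn_sp h T.Qe0 T.Qe1 T.e0e1 I01
  obtain ⟨g, hg⟩ := C.perm_base p T α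
  intro L hL
  obtain ⟨u, hu, hu0⟩ := hL.exists_ne
  obtain ⟨v, hv, I, e⟩ := hL.exists_sp hu hu0
  have Qu := hL.ts u hu
  have Qv := hL.ts v hv
  have Buv : B u v = 0 := hL.B0 h hu hv
  obtain ⟨t', ht', et', -⟩ := exists_frame h C.nd ![u, v] (fun _ => Submodule.mem_top) (by
      intro i; fin_cases i <;> simp [Qu, Qv]) (by
      intro i j
      fin_cases i <;> fin_cases j <;> simp [Buu h Qu, Buu h Qv, Buv, hs v u]) (ind2_iff.1 I)
  let t'' : Fin 2 → (ι → F) × (ι → F) := ![(e0, f0), (e1, f1)]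
  have ht'' : IsHF Q B t'' := by
    intro i j
    fin_cases i <;> fin_cases j <;>
      simp [t'', T.e0f0, T.e1f1, T.e0f1, T.e0e1, T.f0f1, Be1f0, T.Qe0, T.Qf0, T.Qe1, T.Qf1, hs e1 e0, hs f1 f0]
  obtain ⟨s, hs1, hs2⟩ := trans_frame h C.nd C.ht 2 (by have := C.hm; omega) t'' t' ht'' ht'
  have s0 : act s e0 = u := by simpa [t''] using ((hs2 0).1.trans (et' 0))
  have s1 : act s e1 = v := by simpa [t''] using ((hs2 1).1.trans (et' 1))
  let s' : ↥(Cfsg.Omega F Q) := ⟨s, by rw [C.hΩ]; exact hs1⟩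
  have e3 : C.RX L = MulAut.conj (QuotientGroup.mk s' : Cfsg.POmega F Q) '' C.RX (sp e0 e1) := by
    rw [C.conj_RX s' hL₀ I01]
    change C.RX L = C.RX (sp (act s e0) (act s e1))
    rw [s0, s1, ← e]
  obtain ⟨z, hz⟩ := QuotientGroup.mk_surjective (α (QuotientGroup.mk s' : Cfsg.POmega F Q) * g)
  have hL' : IsLn Q (sp (act (z : OG F Q) e0) (act (z : OG F Q) e1)) :=
    isLn_sp h (by rw [Q_act (Q := Q)]; exact T.Qe0) (by rw [Q_act (Q := Q)]; exact T.Qe1) (by rw [B_act h]; exact T.e0e1)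
      (ind2_act C _ I01)
  refine ⟨_, hL', ?_⟩
  rw [← C.conj_RX z hL₀ I01, e3, Set.image_image]
  have e4 : ∀ x, α (MulAut.conj (QuotientGroup.mk s' : Cfsg.POmega F Q) x) =
      MulAut.conj (α (QuotientGroup.mk s' : Cfsg.POmega F Q)) (α x) := by
    intro x
    simp only [MulAut.conj_apply, map_mul, map_inv]
  simp only [e4]
  have e5 : (fun x => MulAut.conj (α (QuotientGroup.mk s' : Cfsg.POmega F Q)) (α x)) =
      (MulAut.conj (α (QuotientGroup.mk s' : Cfsg.POmega F Q))) ∘ α := rfl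
  rw [e5, Set.image_comp, hg, Set.image_image]
  apply Set.image_congr
  intro x _
  change _ = MulAut.conj (QuotientGroup.mk z : Cfsg.POmega F Q) x
  change _ = MulAut.conj ((QuotientGroup.mk' _ : _ →* Cfsg.POmega F Q) z) x
  rw [show (QuotientGroup.mk' _ : _ →* Cfsg.POmega F Q) z = (QuotientGroup.mk z : Cfsg.POmega F Q) from rfl, hz]
  simp only [MulAut.conj_apply, _root_.mul_inv_rev, mul_assoc]

end Syl

end Cfsg.Agent.H01.Om
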