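import Cfsg.Agent.Lib.H01.OmGeo
/-! Triangles of lines go to triangles. -/
set_option autoImplicit false
set_option linter.unusedSimpArgs false
set_option linter.style.haveILetI false
set_option linter.unusedSectionVars false
set_option linter.unusedVariables false
namespace Cfsg.Agent.H01.Om
open Matrix Cfsg.Agent.Lead.Ortho Cfsg.Agent.Lead.Omega

variable {F : Type*} [Field F] [Fintype F] {ι : Type} [Fintype ι] [DecidableEq ι]
variable {Q : (ι → F) → F} {B : (ι → F) → (ι → F) → F}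
variable {φ ψ : Submodule F (ι → F) → Submodule F (ι → F)}

/-- independence from independent functionals -/
lemma ind2_of_pair (h : QF Q B) {p w g g' : ι → F} (h1 : B p g = 1) (h2 : B w g = 0) (h3 : B w g' = 1) (h4 : B p g' = 0) :
    Ind2 p w := by
  intro s t e
  have e1 := congrArg (fun z => B z g) e
  have e2 := congrArg (fun z => B z g') e
  simp only [h.add_left, h.smul_left, h1, h2, h3, h4, h.zero_left, mul_zero, add_zero, mul_one] at e1 e2
  exact ⟨e1, by simpa using e2⟩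

lemma prp_sp3 (h : QF Q B) {a b c : ι → F} (Qa : Q a = 0) (Qb : Q b = 0) (Qc : Q c = 0)
    (Bab : B a b = 0) (Bac : B a c = 0) (Bbc : B b c = 0) {x y : ι → F}
    (hx : x ∈ Submodule.span F {a, b, c}) (hy : y ∈ Submodule.span F {a, b, c}) : B x y = 0 := by
  rw [Submodule.mem_span_triple] at hx hy
  obtain ⟨r, s, t, rfl⟩ := hx
  obtain ⟨r', s', t', rfl⟩ := hy
  simp only [h.add_left, h.add_right, h.smul_left, h.smul_right, Buu h Qa, Buu h Qb, Buu h Qc, Bab, Bac, Bbc,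
    h.symm b a, h.symm c a, h.symm c b]
  ring

lemma no_same (M : LM Q B φ ψ) {X₁ X₂ L₀ S : Submodule F (ι → F)} (hX₁ : IsLn Q X₁) (hX₂ : IsLn Q X₂) (hne : X₁ ≠ X₂)
    (hS : Module.finrank F S ≤ 3) (hts : ∀ x ∈ S, ∀ y ∈ S, B x y = 0) {z : ι → F} (hz0 : z ≠ 0)
    (h1 : z ∈ ψ X₁) (h2 : z ∈ ψ X₂) (h3 : z ∈ L₀) (hL₀ : IsLn Q L₀) (l1 : ψ X₁ ≤ S) (l2 : ψ X₂ ≤ S) (l3 : L₀ ≤ S) :
    φ L₀ ≤ X₁ ⊔ X₂ := by
  have n1 := M.ln' _ hX₁
  have n2 := M.ln' _ hX₂
  have hne' : ψ X₁ ≠ ψ X₂ := fun e => hne (M.symm.inj hX₁ hX₂ e)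
  have hP : Pnc (ψ X₁) (ψ X₂) L₀ := ⟨⟨z, hz0, h1, h2, h3⟩, l3.trans (le_sup_of_lines hS n1 n2 hne' l1 l2)⟩
  have := M.pn _ _ _ n1 n2 hL₀ hne' ⟨z, hz0, h1, h2⟩ (fun x hx y hy => hts x (l1 hx) y (l2 hy)) hP
  rw [M.rl _ hX₁, M.rl _ hX₂] at this
  exact this.2

lemma ind4_li {a b c d : ι → F} (H : Ind4 a b c d) : LinearIndependent F ![a, b, c, d] := by
  rw [Fintype.linearIndependent_iff]
  intro g hg i
  rw [Fin.sum_univ_four] at hg
  have := H (g 0) (g 1) (g 2) (g 3) (by simpa using hg)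
  fin_cases i
  · exact this.1
  · exact this.2.1
  · exact this.2.2.1
  · exact this.2.2.2

section TT
variable {m : ℕ} {t₀ : Fin m → (ι → F) × (ι → F)}

/-- the frame of a totally singular quadruple -/
lemma exists_partners4 (C : Cx Q B t₀) {a b c d : ι → F} (Qa : Q a = 0) (Qb : Q b = 0) (Qc : Q c = 0) (Qd : Q d = 0)
    (Bab : B a b = 0) (Bac : B a c = 0) (Bad : B a d = 0) (Bbc : B b c = 0) (Bbd : B b d = 0) (Bcd : B c d = 0)
    (I : Ind4 a b c d) :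
    ∃ t : Fin 4 → (ι → F) × (ι → F), IsHF Q B t ∧ (t 0).1 = a ∧ (t 1).1 = b ∧ (t 2).1 = c ∧ (t 3).1 = d := by
  have h := C.h
  obtain ⟨t, ht, e, -⟩ := exists_frame h C.nd ![a, b, c, d] (fun _ => Submodule.mem_top) (by
      intro i; fin_cases i <;> simp [Qa, Qb, Qc, Qd]) (by
      intro i j
      fin_cases i <;> fin_cases j <;>
        simp [Buu h Qa, Buu h Qb, Buu h Qc, Buu h Qd, Bab, Bac, Bad, Bbc, Bbd, Bcd, h.symm b a, h.symm c a, h.symm d a,
          h.symm c b, h.symm d b, h.symm d c]) (ind4_li I)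
  exact ⟨t, ht, by simpa using e 0, by simpa using e 1, by simpa using e 2, by simpa using e 3⟩

/-- the heart of the matter: the configuration of a triangle is not concurrent -/
lemma tt_big (M : LM Q B φ ψ) (C : Cx Q B t₀) {a b c : ι → F} (Qa : Q a = 0) (Qb : Q b = 0) (Qc : Q c = 0)
    (Bab : B a b = 0) (Bac : B a c = 0) (Bbc : B b c = 0) (hI : Ind3 a b c)
    (L0 : IsLn Q (sp a b)) (L1 : IsLn Q (sp a c)) (L2 : IsLn Q (sp b c))
    {t : Fin 4 → (ι → F) × (ι → F)} (ht : IsHF Q B t)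
    (e0 : φ (sp a b) = sp (t 0).1 (t 1).1) (e1 : φ (sp a c) = sp (t 0).1 (t 2).1) (e2 : φ (sp b c) = sp (t 0).1 (t 3).1)
    {r : ι → F} (hr : ∀ i, B r (t i).1 = 0 ∧ B r (t i).2 = 0) (hr0 : r ≠ 0) : False := by
  have h := C.h
  obtain ⟨p, hp⟩ : ∃ p, p = (t 0).1 := ⟨_, rfl⟩
  obtain ⟨y0, hy0⟩ : ∃ p, p = (t 1).1 := ⟨_, rfl⟩
  obtain ⟨y1, hy1⟩ : ∃ p, p = (t 2).1 := ⟨_, rfl⟩
  obtain ⟨y2, hy2⟩ : ∃ p, p = (t 3).1 := ⟨_, rfl⟩
  obtain ⟨f, hf⟩ : ∃ p, p = (t 0).2 := ⟨_, rfl⟩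
  obtain ⟨f0, hf0⟩ : ∃ p, p = (t 1).2 := ⟨_, rfl⟩
  obtain ⟨f1, hf1⟩ : ∃ p, p = (t 2).2 := ⟨_, rfl⟩
  obtain ⟨f2, hf2⟩ : ∃ p, p = (t 3).2 := ⟨_, rfl⟩
  rw [← hp, ← hy0] at e0
  rw [← hp, ← hy1] at e1
  rw [← hp, ← hy2] at e2
  have Qp : Q p = 0 := by rw [hp]; exact (ht 0 0).2.2.1
  have Qy0 : Q y0 = 0 := by rw [hy0]; exact (ht 1 1).2.2.1
  have Qy1 : Q y1 = 0 := by rw [hy1]; exact (ht 2 2).2.2.1
  have Qy2 : Q y2 = 0 := by rw [hy2]; exact (ht 3 3).2.2.1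
  have Qf2 : Q f2 = 0 := by rw [hf2]; exact (ht 3 3).2.2.2
  have Qf1 : Q f1 = 0 := by rw [hf1]; exact (ht 2 2).2.2.2
  -- the table
  have Bpy0 : B p y0 = 0 := by rw [hp, hy0]; exact ((ht 0 1).2.1 (by decide)).1
  have Bpy1 : B p y1 = 0 := by rw [hp, hy1]; exact ((ht 0 2).2.1 (by decide)).1
  have Bpy2 : B p y2 = 0 := by rw [hp, hy2]; exact ((ht 0 3).2.1 (by decide)).1
  have Bpf : B p f = 1 := by rw [hp, hf]; simpa using (ht 0 0).1
  have Bpf0 : B p f0 = 0 := by rw [hp, hf0]; simpa using (ht 0 1).1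
  have Bpf1 : B p f1 = 0 := by rw [hp, hf1]; simpa using (ht 0 2).1
  have Bpf2 : B p f2 = 0 := by rw [hp, hf2]; simpa using (ht 0 3).1
  have By0f0 : B y0 f0 = 1 := by rw [hy0, hf0]; simpa using (ht 1 1).1
  have By1f1 : B y1 f1 = 1 := by rw [hy1, hf1]; simpa using (ht 2 2).1
  have By2f2 : B y2 f2 = 1 := by rw [hy2, hf2]; simpa using (ht 3 3).1
  have By1f : B y1 f = 0 := by rw [hy1, hf]; simpa using (ht 2 0).1
  have By1f0 : B y1 f0 = 0 := by rw [hy1, hf0]; simpa using (ht 2 1).1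
  have By1f2 : B y1 f2 = 0 := by rw [hy1, hf2]; simpa using (ht 2 3).1
  have By0f1 : B y0 f1 = 0 := by rw [hy0, hf1]; simpa using (ht 1 2).1
  have By0f2 : B y0 f2 = 0 := by rw [hy0, hf2]; simpa using (ht 1 3).1
  have By2f1 : B y2 f1 = 0 := by rw [hy2, hf1]; simpa using (ht 3 2).1
  have By2f0 : B y2 f0 = 0 := by rw [hy2, hf0]; simpa using (ht 3 1).1
  have By0y1 : B y0 y1 = 0 := by rw [hy0, hy1]; exact ((ht 1 2).2.1 (by decide)).1
  have By0y2 : B y0 y2 = 0 := by rw [hy0, hy2]; exact ((ht 1 3).2.1 (by decide)).1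
  have By1y2 : B y1 y2 = 0 := by rw [hy1, hy2]; exact ((ht 2 3).2.1 (by decide)).1
  have Bff2 : B f f2 = 0 := by rw [hf, hf2]; exact ((ht 0 3).2.1 (by decide)).2
  have Bff1 : B f f1 = 0 := by rw [hf, hf1]; exact ((ht 0 2).2.1 (by decide)).2
  have Bf1f2 : B f1 f2 = 0 := by rw [hf1, hf2]; exact ((ht 2 3).2.1 (by decide)).2
  have Bf1f0 : B f1 f0 = 0 := by rw [hf1, hf0]; exact ((ht 2 1).2.1 (by decide)).2
  have Bf2f0 : B f2 f0 = 0 := by rw [hf2, hf0]; exact ((ht 3 1).2.1 (by decide)).2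
  have Brp : B r p = 0 := by rw [hp]; exact (hr 0).1
  have Bry0 : B r y0 = 0 := by rw [hy0]; exact (hr 1).1
  have Bry1 : B r y1 = 0 := by rw [hy1]; exact (hr 2).1
  have Bry2 : B r y2 = 0 := by rw [hy2]; exact (hr 3).1
  have Brf : B r f = 0 := by rw [hf]; exact (hr 0).2
  have Brf0 : B r f0 = 0 := by rw [hf0]; exact (hr 1).2
  have Brf1 : B r f1 = 0 := by rw [hf1]; exact (hr 2).2
  have Brf2 : B r f2 = 0 := by rw [hf2]; exact (hr 3).2
  have hp0 : p ≠ 0 := by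
    rintro rfl
    rw [h.zero_left] at Bpf
    exact zero_ne_one Bpf
  have hs := fun x y => h.symm x y
  -- lines of the target
  have hA0 : IsLn Q (sp p y0) := e0 ▸ M.ln _ L0
  have hA1 : IsLn Q (sp p y1) := e1 ▸ M.ln _ L1
  have hA2 : IsLn Q (sp p y2) := e2 ▸ M.ln _ L2
  have Ipf2 : Ind2 p f2 := ind2_of_pair h Bpf (by rw [hs]; rw [hf2, hf, ← hs]; exact ((ht 3 0).2.1 (by decide)).2)
    (by rw [hs]; exact By2f2) Bpy2
  have hn' : IsLn Q (sp p f2) := isLn_sp h Qp Qf2 Bpf2 Ipf2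
  -- `n`
  have an0 := adj_sp h Qp hp0 Bpf2 Bpy0 (by rw [hs]; exact By0f2)
  have an1 := adj_sp h Qp hp0 Bpf2 Bpy1 (by rw [hs]; exact By1f2)
  have a0 := M.ad' _ _ hn' hA0 an0.1 an0.2
  have a1 := M.ad' _ _ hn' hA1 an1.1 an1.2
  rw [← e0, M.lr _ L0] at a0
  rw [← e1, M.lr _ L1] at a1
  have hn := M.ln' _ hn'
  have nad : ¬ (Meet (ψ (sp p f2)) (sp b c) ∧ Prp B (ψ (sp p f2)) (sp b c)) := by
    rintro ⟨x1, x2⟩
    have := M.ad _ _ hn L2 x1 x2
    rw [M.rl _ hn', e2] at this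
    have e3 := this.2 f2 (mem_sp_right _ _) y2 (mem_sp_right _ _)
    rw [hs, By2f2] at e3
    exact one_ne_zero e3
  obtain ⟨ha, d, hd, Id, hnd⟩ := src1 h Qa Qb Qc Bab Bac Bbc hI hn a0.1 a0.2 a1.1 a1.2 nad
  have Qd : Q d = 0 := hn.ts d hd
  have Bda : B d a = 0 := a0.2 d hd a (mem_sp_left _ _)
  have Bdb : B d b = 0 := a0.2 d hd b (mem_sp_right _ _)
  have Bdc : B d c = 0 := a1.2 d hd c (mem_sp_right _ _)
  have ha0 : a ≠ 0 := by
    rintro rfl
    have := hI 1 0 0 (by simp)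
    exact one_ne_zero this.1
  have hb0 : b ≠ 0 := by
    rintro rfl
    have := hI 0 1 0 (by simp)
    exact one_ne_zero this.2.1
  -- the type of a line adjacent to everything
  have Htype : ∀ X, IsLn Q X → (Meet X (sp p y0) ∧ Prp B X (sp p y0)) → (Meet X (sp p f2) ∧ Prp B X (sp p f2)) →
      (Meet X (sp p y2) ∧ Prp B X (sp p y2)) →
      (a ∈ ψ X ∧ ψ X ≤ Submodule.span F {a, b, c}) ∨ (b ∈ ψ X ∧ ψ X ≤ Submodule.span F {a, b, d}) := by
    intro X hX m0 m1 m2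
    have b0 := M.ad' _ _ hX hA0 m0.1 m0.2
    have b1 := M.ad' _ _ hX hn' m1.1 m1.2
    have b2 := M.ad' _ _ hX hA2 m2.1 m2.2
    rw [← e0, M.lr _ L0] at b0
    rw [← e2, M.lr _ L2] at b2
    rw [hnd] at b1
    exact src2 Id (M.ln' _ hX) b0.1 b1.1 b2.1
  -- two of the same type are impossible
  have Hno : ∀ X₁ X₂, IsLn Q X₁ → IsLn Q X₂ → X₁ ≠ X₂ → (∀ x ∈ X₁, B x f0 = 0) → (∀ x ∈ X₂, B x f0 = 0) →
      ¬ ((a ∈ ψ X₁ ∧ ψ X₁ ≤ Submodule.span F {a, b, c}) ∧ (a ∈ ψ X₂ ∧ ψ X₂ ≤ Submodule.span F {a, b, c})) ∧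
      ¬ ((b ∈ ψ X₁ ∧ ψ X₁ ≤ Submodule.span F {a, b, d}) ∧ (b ∈ ψ X₂ ∧ ψ X₂ ≤ Submodule.span F {a, b, d})) := by
    intro X₁ X₂ h1 h2 hne v1 v2
    have fin : φ (sp a b) ≤ X₁ ⊔ X₂ → False := by
      intro hle
      rw [e0] at hle
      have e3 := hle (mem_sp_right p y0)
      obtain ⟨x₁, hx₁, x₂, hx₂, rfl⟩ := Submodule.mem_sup.1 e3
      rw [h.add_left, v1 _ hx₁, v2 _ hx₂] at By0f0
      simp at By0f0
    constructor
    · rintro ⟨⟨h3, h4⟩, h5, h6⟩
      apply fin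
      refine no_same M h1 h2 hne (finrank_sp3_le a b c) (fun x hx y hy => prp_sp3 h Qa Qb Qc Bab Bac Bbc hx hy) ha0 h3 h5
        (mem_sp_left a b) L0 h4 h6 ?_
      rw [Submodule.span_le]
      rintro z (rfl | rfl)
      · exact Submodule.subset_span (by simp)
      · exact Submodule.subset_span (by simp)
    · rintro ⟨⟨h3, h4⟩, h5, h6⟩
      apply fin
      have Bad : B a d = 0 := by rw [hs]; exact Bda
      have Bbd : B b d = 0 := by rw [hs]; exact Bdb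
      refine no_same M h1 h2 hne (finrank_sp3_le a b d) (fun x hx y hy => prp_sp3 h Qa Qb Qd Bab Bad Bbd hx hy) hb0 h3 h5
        (mem_sp_right a b) L0 h4 h6 ?_
      rw [Submodule.span_le]
      rintro z (rfl | rfl)
      · exact Submodule.subset_span (by simp)
      · exact Submodule.subset_span (by simp)
  -- the three lines
  obtain ⟨w3, hw3⟩ : ∃ w, w = y1 + r - Q r • f1 := ⟨_, rfl⟩
  have Qw3 : Q w3 = 0 := by
    rw [hw3, Q_sub h, h.add, h.smul, Qy1, Qf1, hs y1 r, Bry1, h.smul_right, h.add_left, By1f1, Brf1]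
    ring
  have Bpw3 : B p w3 = 0 := by
    rw [hw3, h.sub_right, h.add_right, h.smul_right, Bpy1, Bpf1, hs p r, Brp]
    ring
  have Bw3y0 : B w3 y0 = 0 := by
    rw [hw3, h.sub_left, h.add_left, h.smul_left, Bry0, hs y1 y0, By0y1, hs f1 y0, By0f1]
    ring
  have Bw3y2 : B w3 y2 = 0 := by
    rw [hw3, h.sub_left, h.add_left, h.smul_left, Bry2, By1y2, hs f1 y2, By2f1]
    ring
  have Bw3f2 : B w3 f2 = 0 := by
    rw [hw3, h.sub_left, h.add_left, h.smul_left, Brf2, By1f2, Bf1f2]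
    ring
  have Bw3f0 : B w3 f0 = 0 := by
    rw [hw3, h.sub_left, h.add_left, h.smul_left, Brf0, By1f0, Bf1f0]
    ring
  have Bw3f : B w3 f = 0 := by
    rw [hw3, h.sub_left, h.add_left, h.smul_left, Brf, By1f, hs f1 f, Bff1]
    ring
  have Bw3f1 : B w3 f1 = 1 := by
    rw [hw3, h.sub_left, h.add_left, h.smul_left, Brf1, By1f1, Buu h Qf1]
    ring
  have Ipy1 : Ind2 p y1 := ind2_of_pair h Bpf By1f By1f1 Bpf1
  have Ipw3 : Ind2 p w3 := ind2_of_pair h Bpf Bw3f Bw3f1 Bpf1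
  have Ipf1 : Ind2 p f1 := ind2_of_pair h Bpf (by rw [hs]; exact Bff1) (by rw [hs]; exact By1f1) Bpy1
  have hW1 : IsLn Q (sp p y1) := hA1
  have hW2 : IsLn Q (sp p f1) := isLn_sp h Qp Qf1 Bpf1 Ipf1
  have hW3 : IsLn Q (sp p w3) := isLn_sp h Qp Qw3 Bpw3 Ipw3
  have T1 := Htype _ hW1 (adj_sp h Qp hp0 Bpy1 Bpy0 (by rw [hs]; exact By0y1))
    (adj_sp h Qp hp0 Bpy1 Bpf2 By1f2) (adj_sp h Qp hp0 Bpy1 Bpy2 By1y2)
  have T2 := Htype _ hW2 (adj_sp h Qp hp0 Bpf1 Bpy0 (by rw [hs]; exact By0f1))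
    (adj_sp h Qp hp0 Bpf1 Bpf2 Bf1f2) (adj_sp h Qp hp0 Bpf1 Bpy2 (by rw [hs]; exact By2f1))
  have T3 := Htype _ hW3 (adj_sp h Qp hp0 Bpw3 Bpy0 Bw3y0)
    (adj_sp h Qp hp0 Bpw3 Bpf2 Bw3f2) (adj_sp h Qp hp0 Bpw3 Bpy2 Bw3y2)
  have v : ∀ w, B p f0 = 0 → B w f0 = 0 → ∀ x ∈ sp p w, B x f0 = 0 := by
    intro w h1 h2 x hx
    rw [Submodule.mem_span_pair] at hx
    obtain ⟨s, t, rfl⟩ := hx
    rw [h.add_left, h.smul_left, h.smul_left, h1, h2]
    ring
  have v1 := v y1 Bpf0 By1f0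
  have v2 := v f1 Bpf0 Bf1f0
  have v3 := v w3 Bpf0 Bw3f0
  have n12 : sp p y1 ≠ sp p f1 := by
    intro e
    have e3 : y1 ∈ sp p f1 := e ▸ mem_sp_right p y1
    rw [Submodule.mem_span_pair] at e3
    obtain ⟨s, t, e4⟩ := e3
    have := congrArg (fun z => B z f1) e4
    simp only [h.add_left, h.smul_left, Bpf1, Buu h Qf1, By1f1] at this
    simp at this
  have n23 : sp p f1 ≠ sp p w3 := by
    intro e
    have e3 : w3 ∈ sp p f1 := e ▸ mem_sp_right p w3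
    rw [Submodule.mem_span_pair] at e3
    obtain ⟨s, t, e4⟩ := e3
    have := congrArg (fun z => B z f1) e4
    simp only [h.add_left, h.smul_left, Bpf1, Buu h Qf1, Bw3f1] at this
    simp at this
  have n13 : sp p y1 ≠ sp p w3 := by
    intro e
    have e3 : w3 ∈ sp p y1 := e ▸ mem_sp_right p w3
    rw [Submodule.mem_span_pair] at e3
    obtain ⟨s, t, e4⟩ := e3
    have e5 := congrArg (fun z => B z f) e4
    have e6 := congrArg (fun z => B z f1) e4
    simp only [h.add_left, h.smul_left, Bpf, By1f, Bw3f] at e5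
    simp only [h.add_left, h.smul_left, Bpf1, By1f1, Bw3f1] at e6
    have es : s = 0 := by simpa using e5
    have et : t = 1 := by simpa using e6
    subst es et
    rw [zero_smul, zero_add, one_smul, hw3] at e4
    have e7 : r = Q r • f1 := by
      funext i
      have := congrFun e4 i
      simp only [Pi.add_apply, Pi.sub_apply, Pi.smul_apply, smul_eq_mul] at this ⊢
      linear_combination -this
    have e8 := congrArg (fun z => B z y1) e7
    simp only [h.smul_left, Bry1, hs f1 y1, By1f1, mul_one] at e8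
    have e9 : Q r = 0 := e8.symm
    rw [e9, zero_smul] at e7
    exact hr0 e7
  have H12 := Hno _ _ hW1 hW2 n12 v1 v2
  have H13 := Hno _ _ hW1 hW3 n13 v1 v3
  have H23 := Hno _ _ hW2 hW3 n23 v2 v3
  rcases T1 with T1 | T1 <;> rcases T2 with T2 | T2 <;> rcases T3 with T3 | T3
  · exact H12.1 ⟨T1, T2⟩
  · exact H12.1 ⟨T1, T2⟩
  · exact H13.1 ⟨T1, T3⟩
  · exact H23.2 ⟨T2, T3⟩
  · exact H23.1 ⟨T2, T3⟩
  · exact H13.2 ⟨T1, T3⟩
  · exact H12.2 ⟨T1, T2⟩
  · exact H12.2 ⟨T1, T2⟩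

/-- **Triangles go to triangles.** -/
theorem LM.tt (M : LM Q B φ ψ) (C : Cx Q B t₀) (HH : NoFour Q B ∨ Big C.h) {a b c : ι → F}
    (Qa : Q a = 0) (Qb : Q b = 0) (Qc : Q c = 0)
    (Bab : B a b = 0) (Bac : B a c = 0) (Bbc : B b c = 0) (hI : Ind3 a b c) :
    ¬ ∃ p, p ≠ 0 ∧ p ∈ φ (sp a b) ∧ p ∈ φ (sp a c) ∧ p ∈ φ (sp b c) := by
  rintro ⟨p, hp0, hp1, hp2, hp3⟩
  have h := C.h
  have hs := fun x y => h.symm x y
  have Iab : Ind2 a b := fun s t e => by
    have := hI s t 0 (by simpa using e)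
    exact ⟨this.1, this.2.1⟩
  have Iac : Ind2 a c := fun s t e => by
    have := hI s 0 t (by simpa using e)
    exact ⟨this.1, this.2.2⟩
  have Ibc : Ind2 b c := fun s t e => by
    have := hI 0 s t (by simpa using e)
    exact ⟨this.2.1, this.2.2⟩
  have ha0 := Iab.left_ne
  have hb0 := Iab.right_ne
  have hc0 := Iac.right_ne
  have L0 := isLn_sp h Qa Qb Bab Iab
  have L1 := isLn_sp h Qa Qc Bac Iac
  have L2 := isLn_sp h Qb Qc Bbc Ibc
  have hA0 := M.ln _ L0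
  have hA1 := M.ln _ L1
  have hA2 := M.ln _ L2
  have Baa := Buu h Qa
  have Bbb := Buu h Qb
  have Bcc := Buu h Qc
  have Bba : B b a = 0 := by rw [hs]; exact Bab
  have Bca : B c a = 0 := by rw [hs]; exact Bac
  have Bcb : B c b = 0 := by rw [hs]; exact Bbc
  have ad01 := M.ad _ _ L0 L1 ⟨a, ha0, mem_sp_left _ _, mem_sp_left _ _⟩ (prp_sp h Baa Bac Bba Bbc)
  have ad02 := M.ad _ _ L0 L2 ⟨b, hb0, mem_sp_right _ _, mem_sp_left _ _⟩ (prp_sp h Bab Bac Bbb Bbc)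
  have ad12 := M.ad _ _ L1 L2 ⟨c, hc0, mem_sp_right _ _, mem_sp_right _ _⟩ (prp_sp h Bab Bac Bcb Bcc)
  obtain ⟨y0, hy0, I0, e0⟩ := hA0.exists_sp hp1 hp0
  obtain ⟨y1, hy1, I1, e1⟩ := hA1.exists_sp hp2 hp0
  obtain ⟨y2, hy2, I2, e2⟩ := hA2.exists_sp hp3 hp0
  have ne01 : φ (sp a b) ≠ φ (sp a c) := by
    intro e
    have e3 := M.inj L0 L1 e
    have e4 : b ∈ sp a c := e3 ▸ mem_sp_right a b
    rw [Submodule.mem_span_pair] at e4
    obtain ⟨s, t, e5⟩ := e4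
    have := hI s (-1) t (by rw [← e5]; funext i; simp)
    exact one_ne_zero (neg_eq_zero.1 this.2.1)
  have nP : ¬ Pnc (φ (sp a b)) (φ (sp a c)) (φ (sp b c)) := by
    intro P
    have P' := M.pn' _ _ _ hA0 hA1 hA2 ne01 ad01.1 ad01.2 P
    rw [M.lr _ L0, M.lr _ L1, M.lr _ L2] at P'
    obtain ⟨⟨z, hz0, h1, h2, h3⟩, -⟩ := P'
    rw [Submodule.mem_span_pair] at h1 h2 h3
    obtain ⟨α, β, e1⟩ := h1
    obtain ⟨γ, δ, e2⟩ := h2
    obtain ⟨ε, ζ, e3⟩ := h3
    have e4 := hI (α - γ) β (-δ) (by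
      funext i
      have := congrFun (e1.trans e2.symm) i
      simp only [Pi.add_apply, Pi.smul_apply, smul_eq_mul, Pi.zero_apply] at this ⊢
      linear_combination this)
    have e5 := hI α (β - ε) (-ζ) (by
      funext i
      have := congrFun (e1.trans e3.symm) i
      simp only [Pi.add_apply, Pi.smul_apply, smul_eq_mul, Pi.zero_apply] at this ⊢
      linear_combination this)
    apply hz0
    rw [← e1, e5.1, e4.2.1]
    simp
  have hy2n : y2 ∉ φ (sp a b) ⊔ φ (sp a c) := by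
    intro hin
    apply nP
    refine ⟨⟨p, hp0, hp1, hp2, hp3⟩, ?_⟩
    rw [e2, Submodule.span_le]
    rintro z (rfl | rfl)
    · exact (le_sup_left : φ (sp a b) ≤ _) hp1
    · exact hin
  have hy1n : y1 ∉ φ (sp a b) := by
    intro hin
    have hle : φ (sp a c) ≤ φ (sp a b) := by
      rw [e1, Submodule.span_le]
      rintro z (rfl | rfl)
      · exact hp1
      · exact hin
    exact ne01 (hA1.eq_of_le hA0 hle).symm
  have I4 : Ind4 p y0 y1 y2 := by
    intro r s t u e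
    have hu : u = 0 := by
      by_contra hu
      apply hy2n
      have e3 : y2 = u⁻¹ • (-(r • p + s • y0 + t • y1)) := by
        have e4 : u • y2 = -(r • p + s • y0 + t • y1) := eq_neg_of_add_eq_zero_right e
        rw [← e4, smul_smul, inv_mul_cancel₀ hu, one_smul]
      rw [e3]
      refine Submodule.smul_mem _ _ (Submodule.neg_mem _ (Submodule.add_mem _ (Submodule.add_mem _ ?_ ?_) ?_))
      · exact Submodule.smul_mem _ _ ((le_sup_left : φ (sp a b) ≤ _) hp1)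
      · exact Submodule.smul_mem _ _ ((le_sup_left : φ (sp a b) ≤ _) hy0)
      · exact Submodule.smul_mem _ _ ((le_sup_right : φ (sp a c) ≤ _) hy1)
    subst hu
    rw [zero_smul, add_zero] at e
    have ht : t = 0 := by
      by_contra ht
      apply hy1n
      have e3 : y1 = t⁻¹ • (-(r • p + s • y0)) := by
        have e4 : t • y1 = -(r • p + s • y0) := eq_neg_of_add_eq_zero_right e
        rw [← e4, smul_smul, inv_mul_cancel₀ ht, one_smul]
      rw [e3]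
      exact Submodule.smul_mem _ _ (Submodule.neg_mem _ (Submodule.add_mem _ (Submodule.smul_mem _ _ hp1)
        (Submodule.smul_mem _ _ hy0)))
    subst ht
    rw [zero_smul, add_zero] at e
    have := I0 r s e
    exact ⟨this.1, this.2, rfl, rfl⟩
  have Qp := hA0.ts p hp1
  have Qy0 := hA0.ts y0 hy0
  have Qy1 := hA1.ts y1 hy1
  have Qy2 := hA2.ts y2 hy2
  have Bpy0 : B p y0 = 0 := hA0.B0 h hp1 hy0
  have Bpy1 : B p y1 = 0 := hA1.B0 h hp2 hy1
  have Bpy2 : B p y2 = 0 := hA2.B0 h hp3 hy2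
  have By0y1 := ad01.2 y0 hy0 y1 hy1
  have By0y2 := ad02.2 y0 hy0 y2 hy2
  have By1y2 := ad12.2 y1 hy1 y2 hy2
  rcases HH with hNF | hBig
  · apply hNF ![p, y0, y1, y2] _ _ (ind4_li I4)
    · intro i
      fin_cases i <;> simp [Qp, Qy0, Qy1, Qy2]
    · intro i j
      fin_cases i <;> fin_cases j <;>
        simp [Buu h Qp, Buu h Qy0, Buu h Qy1, Buu h Qy2, Bpy0, Bpy1, Bpy2, By0y1, By0y2, By1y2,
          hs y0 p, hs y1 p, hs y2 p, hs y1 y0, hs y2 y0, hs y2 y1]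
  · obtain ⟨t, ht, t0, t1, t2, t3⟩ := exists_partners4 C Qp Qy0 Qy1 Qy2 Bpy0 Bpy1 Bpy2 By0y1 By0y2 By1y2 I4
    obtain ⟨r, hr, hr0⟩ := hBig.r4 t ht
    refine tt_big M C Qa Qb Qc Bab Bac Bbc hI L0 L1 L2 ht ?_ ?_ ?_ hr hr0
    · rw [t0, t1]; exact e0
    · rw [t0, t2]; exact e1
    · rw [t0, t3]; exact e2

/-- three lines through a point, pairwise perpendicular: their images are concurrent -/
lemma LM.star3 (M : LM Q B φ ψ) (C : Cx Q B t₀) (HH : NoFour Q B ∨ Big C.h) {z : ι → F} (hz0 : z ≠ 0)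
    {X Y Z : Submodule F (ι → F)} (hX : IsLn Q X) (hY : IsLn Q Y) (hZ : IsLn Q Z) (zX : z ∈ X) (zY : z ∈ Y) (zZ : z ∈ Z)
    (pXY : Prp B X Y) (pXZ : Prp B X Z) (pYZ : Prp B Y Z) : ∃ p, p ≠ 0 ∧ p ∈ φ X ∧ p ∈ φ Y ∧ p ∈ φ Z := by
  have h := C.h
  have a1 := M.ad _ _ hX hY ⟨z, hz0, zX, zY⟩ pXY
  have a2 := M.ad _ _ hX hZ ⟨z, hz0, zX, zZ⟩ pXZ
  have a3 := M.ad _ _ hY hZ ⟨z, hz0, zY, zZ⟩ pYZ
  have hA := M.ln _ hX
  have hB := M.ln _ hY
  have hD := M.ln _ hZ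
  obtain ⟨x, hx0, hx1, hx2⟩ := a1.1
  obtain ⟨y, hy0, hy1, hy2⟩ := a2.1
  obtain ⟨w, hw0, hw1, hw2⟩ := a3.1
  by_cases hwA : w ∈ φ X
  · exact ⟨w, hw0, hwA, hw1, hw2⟩
  by_cases hxy : ∃ c : F, y = c • x
  · obtain ⟨c, rfl⟩ := hxy
    have hc : c ≠ 0 := by
      rintro rfl
      simp at hy0
    refine ⟨x, hx0, hx1, hx2, ?_⟩
    have e : x = c⁻¹ • (c • x) := by rw [smul_smul, inv_mul_cancel₀ hc, one_smul]
    rw [e]
    exact Submodule.smul_mem _ _ hy2
  push Not at hxy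
  have I2 := ind2_of_not_mult hx0 hxy
  have eA := hA.eq_sp hx1 hy1 I2
  have I3 : Ind3 x y w := by
    intro r s t e
    have ht : t = 0 := by
      by_contra ht
      apply hwA
      have e3 : w = t⁻¹ • (-(r • x + s • y)) := by
        have e4 : t • w = -(r • x + s • y) := eq_neg_of_add_eq_zero_right e
        rw [← e4, smul_smul, inv_mul_cancel₀ ht, one_smul]
      rw [e3]
      exact Submodule.smul_mem _ _ (Submodule.neg_mem _ (Submodule.add_mem _ (Submodule.smul_mem _ _ hx1)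
        (Submodule.smul_mem _ _ hy1)))
    subst ht
    rw [zero_smul, add_zero] at e
    have := I2 r s e
    exact ⟨this.1, this.2, rfl⟩
  have Ixw : Ind2 x w := fun s t e => by
    have := I3 s 0 t (by simpa using e)
    exact ⟨this.1, this.2.2⟩
  have Iyw : Ind2 y w := fun s t e => by
    have := I3 0 s t (by simpa using e)
    exact ⟨this.2.1, this.2.2⟩
  have eB := hB.eq_sp hx2 hw1 Ixw
  have eD := hD.eq_sp hy2 hw2 Iyw
  exfalso
  apply (M.symm.tt C HH (hA.ts x hx1) (hA.ts y hy1) (hB.ts w hw1) (hA.B0 h hx1 hy1) (hB.B0 h hx2 hw1) (hD.B0 h hy2 hw2) I3)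
  rw [← eA, ← eB, ← eD, M.lr _ hX, M.lr _ hY, M.lr _ hZ]
  exact ⟨z, hz0, zX, zY, zZ⟩

/-! ### Existence of auxiliary singular vectors -/

lemma exists_d2 (C : Cx Q B t₀) {z a c : ι → F} (Qz : Q z = 0) (Qa : Q a = 0) (Qc : Q c = 0) (hz0 : z ≠ 0)
    (Bza : B z a = 0) (Bzc : B z c = 0) (Bac : B a c ≠ 0) :
    ∃ d, Q d = 0 ∧ d ≠ 0 ∧ B d z = 0 ∧ B d a = 0 ∧ B d c = 0 ∧ Ind2 z d := by
  have h := C.h
  have hs := fun x y => h.symm x y
  obtain ⟨f₀, -, Qf₀, hf₀⟩ := exists_partner h C.nd Submodule.mem_top hz0 Qz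
  have Bzf₀ : B z f₀ = 1 := by rw [hs]; exact hf₀
  have Bzz := Buu h Qz
  let t1 : Fin 1 → (ι → F) × (ι → F) := fun _ => (z, f₀)
  have ht1 : IsHF Q B t1 := by
    intro i j
    have : i = j := Subsingleton.elim _ _
    subst this
    exact ⟨by simpa [t1] using Bzf₀, fun hne => absurd rfl hne, Qz, Qf₀⟩
  obtain ⟨a', ha'⟩ : ∃ a', a' = a - B a f₀ • z := ⟨_, rfl⟩
  obtain ⟨c', hc'⟩ : ∃ c', c' = c - B c f₀ • z := ⟨_, rfl⟩
  have Bazz : B a z = 0 := by rw [hs]; exact Bza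
  have Bczz : B c z = 0 := by rw [hs]; exact Bzc
  have Qa' : Q a' = 0 := by
    rw [ha', Q_sub h, h.smul, Qz, h.smul_right, Qa, Bazz]
    ring
  have Qc' : Q c' = 0 := by
    rw [hc', Q_sub h, h.smul, Qz, h.smul_right, Qc, Bczz]
    ring
  have Ba'z : B a' z = 0 := by
    rw [ha', h.sub_left, h.smul_left, Bazz, Bzz]
    ring
  have Ba'f : B a' f₀ = 0 := by
    rw [ha', h.sub_left, h.smul_left, Bzf₀]
    ring
  have Bc'z : B c' z = 0 := by
    rw [hc', h.sub_left, h.smul_left, Bczz, Bzz]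
    ring
  have Bc'f : B c' f₀ = 0 := by
    rw [hc', h.sub_left, h.smul_left, Bzf₀]
    ring
  have Ba'c' : B a' c' = B a c := by
    rw [ha', hc']
    simp only [h.sub_left, h.sub_right, h.smul_left, h.smul_right, Bazz, Bzc, Bzz]
    ring
  obtain ⟨c'', hc''⟩ : ∃ c'', c'' = (B a c)⁻¹ • c' := ⟨_, rfl⟩
  have Qc'' : Q c'' = 0 := by
    rw [hc'', h.smul, Qc']
    ring
  have Ba'c'' : B a' c'' = 1 := by
    rw [hc'', h.smul_right, Ba'c', inv_mul_cancel₀ Bac]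
  have Bc''z : B c'' z = 0 := by
    rw [hc'', h.smul_left, Bc'z]
    ring
  have Bc''f : B c'' f₀ = 0 := by
    rw [hc'', h.smul_left, Bc'f]
    ring
  have ht2 : IsHF Q B (Fin.cons (a', c'') t1 : Fin 2 → (ι → F) × (ι → F)) := by
    rw [isHF_cons_iff h]
    exact ⟨ht1, fun _ => ⟨Ba'z, Ba'f⟩, fun _ => ⟨Bc''z, Bc''f⟩, Qa', Qc'', Ba'c''⟩
  have hm2 : 2 < m := by have := C.hm; omega
  obtain ⟨d, hd, hd0, Qd⟩ := hasSing h C.ht hm2 _ ht2
  have d1 : B d a' = 0 := by simpa using (hd 0).1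
  have d2 : B d c'' = 0 := by simpa using (hd 0).2
  have d3 : B d z = 0 := by simpa [t1] using (hd 1).1
  have d4 : B d f₀ = 0 := by simpa [t1] using (hd 1).2
  refine ⟨d, Qd, hd0, d3, ?_, ?_, ?_⟩
  · rw [ha', h.sub_right, h.smul_right, d3] at d1
    simpa using d1
  · have : B d c' = 0 := by
      rw [hc'', h.smul_right] at d2
      exact (mul_eq_zero.1 d2).resolve_left (inv_ne_zero Bac)
    rw [hc', h.sub_right, h.smul_right, d3] at this
    simpa using this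
  · intro s t e
    have e1 := congrArg (fun w => B w f₀) e
    simp only [h.add_left, h.smul_left, Bzf₀, d4, h.zero_left, mul_one, mul_zero, add_zero] at e1
    subst e1
    rw [zero_smul, zero_add] at e
    exact ⟨rfl, (smul_eq_zero.1 e).resolve_right hd0⟩

/-- two perpendicular directions at a singular point -/
lemma exists_two (C : Cx Q B t₀) {z : ι → F} (Qz : Q z = 0) (hz0 : z ≠ 0) :
    ∃ a b, Q a = 0 ∧ Q b = 0 ∧ B z a = 0 ∧ B z b = 0 ∧ B a b = 0 ∧ Ind2 z a ∧ Ind2 z b ∧ b ∉ sp z a := by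
  have h := C.h
  have hs := fun x y => h.symm x y
  obtain ⟨f₀, -, Qf₀, hf₀⟩ := exists_partner h C.nd Submodule.mem_top hz0 Qz
  have Bzf₀ : B z f₀ = 1 := by rw [hs]; exact hf₀
  have Bzz := Buu h Qz
  let t1 : Fin 1 → (ι → F) × (ι → F) := fun _ => (z, f₀)
  have ht1 : IsHF Q B t1 := by
    intro i j
    have : i = j := Subsingleton.elim _ _
    subst this
    exact ⟨by simpa [t1] using Bzf₀, fun hne => absurd rfl hne, Qz, Qf₀⟩
  have hm1 : 1 < m := by have := C.hm; omega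
  have hm2 : 2 < m := by have := C.hm; omega
  obtain ⟨a, ha, ha0, Qa⟩ := hasSing h C.ht hm1 t1 ht1
  obtain ⟨a', ha', Qa', haa'⟩ := exists_partner h (ND_perpOf h C.nd t1 ht1) ha ha0 Qa
  have Baz : B a z = 0 := (ha 0).1
  have Baf : B a f₀ = 0 := (ha 0).2
  have Ba'z : B a' z = 0 := (ha' 0).1
  have Ba'f : B a' f₀ = 0 := (ha' 0).2
  have Baa' : B a a' = 1 := by rw [hs]; exact haa'
  have ht2 : IsHF Q B (Fin.cons (a, a') t1 : Fin 2 → (ι → F) × (ι → F)) := by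
    rw [isHF_cons_iff h]
    exact ⟨ht1, fun _ => ha 0, fun _ => ha' 0, Qa, Qa', Baa'⟩
  obtain ⟨b, hb, hb0, Qb⟩ := hasSing h C.ht hm2 _ ht2
  have b1 : B b a = 0 := by simpa using (hb 0).1
  have b2 : B b a' = 0 := by simpa using (hb 0).2
  have b3 : B b z = 0 := by simpa [t1] using (hb 1).1
  have b4 : B b f₀ = 0 := by simpa [t1] using (hb 1).2
  have key : ∀ w, w ≠ 0 → B w f₀ = 0 → Ind2 z w := by
    intro w hw0 hw s t e
    have e1 := congrArg (fun w => B w f₀) e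
    simp only [h.add_left, h.smul_left, Bzf₀, hw, h.zero_left, mul_one, mul_zero, add_zero] at e1
    subst e1
    rw [zero_smul, zero_add] at e
    exact ⟨rfl, (smul_eq_zero.1 e).resolve_right hw0⟩
  refine ⟨a, b, Qa, Qb, by rw [hs]; exact Baz, by rw [hs]; exact b3, by rw [hs]; exact b1, key a ha0 Baf, key b hb0 b4, ?_⟩
  intro hin
  rw [Submodule.mem_span_pair] at hin
  obtain ⟨s, t, e⟩ := hin
  have e1 := congrArg (fun w => B w f₀) e
  have e2 := congrArg (fun w => B w a') e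
  simp only [h.add_left, h.smul_left, Bzf₀, Baf, b4, mul_one, mul_zero, add_zero] at e1
  simp only [h.add_left, h.smul_left, Baa', b2, hs z a', Ba'z, mul_one, mul_zero, zero_add] at e2
  subst e1 e2
  apply hb0
  rw [← e]
  simp

lemma exists_d_big (C : Cx Q B t₀) (hB : Big C.h) {z a b c : ι → F} (Qz : Q z = 0) (Qa : Q a = 0) (Qb : Q b = 0) (Qc : Q c = 0)
    (Bza : B z a = 0) (Bzb : B z b = 0) (Bzc : B z c = 0) (Bab : B a b = 0) (Bac : B a c = 0) (Iza : Ind2 z a)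
    (Bbc : B b c ≠ 0) :
    ∃ d, Q d = 0 ∧ d ≠ 0 ∧ B d z = 0 ∧ B d a = 0 ∧ B d b = 0 ∧ B d c = 0 ∧ Ind2 z d ∧ d ∉ sp z a := by
  have h := C.h
  have hs := fun x y => h.symm x y
  obtain ⟨t, ht, e, -⟩ := exists_frame h C.nd ![z, a] (fun _ => Submodule.mem_top) (by
      intro i; fin_cases i <;> simp [Qz, Qa]) (by
      intro i j
      fin_cases i <;> fin_cases j <;> simp [Buu h Qz, Buu h Qa, Bza, hs a z]) (ind2_iff.1 Iza)
  have e0 : (t 0).1 = z := by simpa using e 0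
  have e1 : (t 1).1 = a := by simpa using e 1
  obtain ⟨f₀, hf₀⟩ : ∃ p, p = (t 0).2 := ⟨_, rfl⟩
  obtain ⟨f₁, hf₁⟩ : ∃ p, p = (t 1).2 := ⟨_, rfl⟩
  have Bzf₀ : B z f₀ = 1 := by rw [← e0, hf₀]; simpa using (ht 0 0).1
  have Bzf₁ : B z f₁ = 0 := by rw [← e0, hf₁]; simpa using (ht 0 1).1
  have Baf₀ : B a f₀ = 0 := by rw [← e1, hf₀]; simpa using (ht 1 0).1
  have Baf₁ : B a f₁ = 1 := by rw [← e1, hf₁]; simpa using (ht 1 1).1
  have Bzz := Buu h Qz
  have Baa := Buu h Qa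
  have Baz : B a z = 0 := by rw [hs]; exact Bza
  -- the projection
  have proj : ∀ x, Q x = 0 → B x z = 0 → B x a = 0 → ∃ x', x = x' + B x f₀ • z + B x f₁ • a ∧ Q x' = 0 ∧
      (∀ i, B x' (t i).1 = 0 ∧ B x' (t i).2 = 0) := by
    intro x Qx h1 h2
    refine ⟨x - B x f₀ • z - B x f₁ • a, by abel, ?_, ?_⟩
    · rw [Q_sub h, Q_sub h, h.smul, h.smul, Qz, Qa, Qx, h.smul_right, h.sub_left, h.smul_left, h.smul_right, h.smul_right,
        h1, h2, Bza]
      ring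
    · have i1 : B (x - B x f₀ • z - B x f₁ • a) z = 0 := by
        rw [h.sub_left, h.sub_left, h.smul_left, h.smul_left, h1, Bzz, Baz]
        ring
      have i2 : B (x - B x f₀ • z - B x f₁ • a) a = 0 := by
        rw [h.sub_left, h.sub_left, h.smul_left, h.smul_left, h2, Bza, Baa]
        ring
      have i3 : B (x - B x f₀ • z - B x f₁ • a) f₀ = 0 := by
        rw [h.sub_left, h.sub_left, h.smul_left, h.smul_left, Bzf₀, Baf₀]
        ring
      have i4 : B (x - B x f₀ • z - B x f₁ • a) f₁ = 0 := by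
        rw [h.sub_left, h.sub_left, h.smul_left, h.smul_left, Bzf₁, Baf₁]
        ring
      intro i
      fin_cases i
      · exact ⟨by simpa [e0] using i1, by simpa [hf₀] using i3⟩
      · exact ⟨by simpa [e1] using i2, by simpa [hf₁] using i4⟩
  have Bba : B b a = 0 := by rw [hs]; exact Bab
  have Bca : B c a = 0 := by rw [hs]; exact Bac
  have Bbz : B b z = 0 := by rw [hs]; exact Bzb
  have Bcz : B c z = 0 := by rw [hs]; exact Bzc
  obtain ⟨b', eb, Qb', hb'⟩ := proj b Qb Bbz Bba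
  obtain ⟨c', ec, Qc', hc'⟩ := proj c Qc Bcz Bca
  have bz : B b' z = 0 := by simpa [e0] using (hb' 0).1
  have ba : B b' a = 0 := by simpa [e1] using (hb' 1).1
  have cz : B c' z = 0 := by simpa [e0] using (hc' 0).1
  have ca : B c' a = 0 := by simpa [e1] using (hc' 1).1
  have Bb'c' : B b' c' = B b c := by
    have e3 : B b' c = B b' c' := by
      conv_lhs => rw [ec]
      rw [h.add_right, h.add_right, h.smul_right, h.smul_right, bz, ba]
      ring
    rw [← e3]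
    conv_rhs => rw [eb]
    rw [h.add_left, h.add_left, h.smul_left, h.smul_left, Bzc, Bac]
    ring
  obtain ⟨c'', hc''⟩ : ∃ c'', c'' = (B b c)⁻¹ • c' := ⟨_, rfl⟩
  have Qc'' : Q c'' = 0 := by
    rw [hc'', h.smul, Qc']
    ring
  have Bb'c'' : B b' c'' = 1 := by
    rw [hc'', h.smul_right, Bb'c', inv_mul_cancel₀ Bbc]
  have ht3 : IsHF Q B (Fin.cons (b', c'') t : Fin 3 → (ι → F) × (ι → F)) := by
    rw [isHF_cons_iff h]
    refine ⟨ht, fun i => hb' i, fun i => ⟨?_, ?_⟩, Qb', Qc'', Bb'c''⟩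
    · change B c'' (t i).1 = 0
      rw [hc'', h.smul_left, (hc' i).1, mul_zero]
    · change B c'' (t i).2 = 0
      rw [hc'', h.smul_left, (hc' i).2, mul_zero]
  obtain ⟨d, hd, hd0, Qd⟩ := hB.s3 _ ht3
  have d1 : B d b' = 0 := by simpa using (hd 0).1
  have d2 : B d c'' = 0 := by simpa using (hd 0).2
  have d3 : B d z = 0 := by simpa [e0] using (hd 1).1
  have d4 : B d f₀ = 0 := by simpa [hf₀] using (hd 1).2
  have d5 : B d a = 0 := by
    have := (hd (Fin.succ 1)).1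
    rw [Fin.cons_succ, e1] at this
    exact this
  have d6 : B d f₁ = 0 := by
    have := (hd (Fin.succ 1)).2
    rw [Fin.cons_succ, ← hf₁] at this
    exact this
  have d7 : B d c' = 0 := by
    rw [hc'', h.smul_right] at d2
    exact (mul_eq_zero.1 d2).resolve_left (inv_ne_zero Bbc)
  refine ⟨d, Qd, hd0, d3, d5, ?_, ?_, ?_, ?_⟩
  · rw [eb, h.add_right, h.add_right, h.smul_right, h.smul_right, d1, d3, d5]
    ring
  · rw [ec, h.add_right, h.add_right, h.smul_right, h.smul_right, d7, d3, d5]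
    ring
  · intro s t' e'
    have e1' := congrArg (fun w => B w f₀) e'
    simp only [h.add_left, h.smul_left, Bzf₀, d4, h.zero_left, mul_one, mul_zero, add_zero] at e1'
    subst e1'
    rw [zero_smul, zero_add] at e'
    exact ⟨rfl, (smul_eq_zero.1 e').resolve_right hd0⟩
  · intro hin
    rw [Submodule.mem_span_pair] at hin
    obtain ⟨s, t', e'⟩ := hin
    have e1' := congrArg (fun w => B w f₀) e'
    have e2' := congrArg (fun w => B w f₁) e'
    simp only [h.add_left, h.smul_left, Bzf₀, Baf₀, d4, mul_one, mul_zero, add_zero] at e1'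
    simp only [h.add_left, h.smul_left, Bzf₁, Baf₁, d6, mul_one, mul_zero, zero_add] at e2'
    subst e1' e2'
    apply hd0
    rw [← e']
    simp

/-- Step 2: a point on two perpendicular lines stays on a third line perpendicular to one of them. -/
lemma LM.star2 (M : LM Q B φ ψ) (C : Cx Q B t₀) (HH : NoFour Q B ∨ Big C.h) {z : ι → F} (hz0 : z ≠ 0)
    {X Y Z : Submodule F (ι → F)} (hX : IsLn Q X) (hY : IsLn Q Y) (hZ : IsLn Q Z) (zX : z ∈ X) (zY : z ∈ Y) (zZ : z ∈ Z)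
    (nXY : X ≠ Y) (nXZ : X ≠ Z) (pXY : Prp B X Y) (pXZ : Prp B X Z) {p : ι → F} (hp0 : p ≠ 0) (pX : p ∈ φ X)
    (pY : p ∈ φ Y) : p ∈ φ Z := by
  have h := C.h
  have hs := fun x y => h.symm x y
  have hA := M.ln _ hX
  have hB := M.ln _ hY
  have hD := M.ln _ hZ
  have nAB : φ X ≠ φ Y := fun e => nXY (M.inj hX hY e)
  have nAD : φ X ≠ φ Z := fun e => nXZ (M.inj hX hZ e)
  by_cases hYZ : Y = Z
  · rw [← hYZ]; exact pY
  have aXY := M.ad _ _ hX hY ⟨z, hz0, zX, zY⟩ pXY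
  have aXZ := M.ad _ _ hX hZ ⟨z, hz0, zX, zZ⟩ pXZ
  by_cases pYZ : Prp B Y Z
  · obtain ⟨p₁, h0, h1, h2, h3⟩ := M.star3 C HH hz0 hX hY hZ zX zY zZ pXY pXZ pYZ
    obtain ⟨c, hc⟩ := two_pts hA hB nAB h0 h1 h2 pX pY
    rw [hc]
    exact Submodule.smul_mem _ _ h3
  -- not perpendicular
  obtain ⟨a, ha, Iza, eX⟩ := hX.exists_sp zX hz0
  obtain ⟨b, hb, Izb, eY⟩ := hY.exists_sp zY hz0
  obtain ⟨c, hc, Izc, eZ⟩ := hZ.exists_sp zZ hz0
  have Qz := hX.ts z zX
  have Qa := hX.ts a ha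
  have Qb := hY.ts b hb
  have Qc := hZ.ts c hc
  have Bza : B z a = 0 := hX.B0 h zX ha
  have Bzb : B z b = 0 := hY.B0 h zY hb
  have Bzc : B z c = 0 := hZ.B0 h zZ hc
  have Bab : B a b = 0 := pXY a ha b hb
  have Bac : B a c = 0 := pXZ a ha c hc
  have Bbc : B b c ≠ 0 := by
    intro e
    apply pYZ
    rw [eY, eZ]
    exact prp_sp h (Buu h Qz) Bzc (by rw [hs]; exact Bzb) e
  rcases HH with hNF | hBig
  · -- no quadruple
    obtain ⟨y, hy0, hy1, hy2⟩ := aXZ.1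
    by_cases hpy : ∃ c : F, y = c • p
    · obtain ⟨c', rfl⟩ := hpy
      have hc' : c' ≠ 0 := by
        rintro rfl
        simp at hy0
      have e : p = c'⁻¹ • (c' • p) := by rw [smul_smul, inv_mul_cancel₀ hc', one_smul]
      rw [e]
      exact Submodule.smul_mem _ _ hy2
    push Not at hpy
    exfalso
    have Ipy := ind2_of_not_mult hp0 hpy
    have eA := hA.eq_sp pX hy1 Ipy
    obtain ⟨b₁, hb₁, Ipb, eB⟩ := hB.exists_sp pY hp0
    obtain ⟨c₁, hc₁, Iyc, eD⟩ := hD.exists_sp hy2 hy0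
    have hnot : ¬ (Meet (φ Y) (φ Z) ∧ Prp B (φ Y) (φ Z)) := by
      intro hh
      have := M.ad' _ _ hB hD hh.1 hh.2
      rw [M.lr _ hY, M.lr _ hZ] at this
      exact pYZ this.2
    have hcm := M.cm _ _ hY hZ (Or.inl ⟨z, hz0, zY, zZ⟩)
    have hnm : ¬ Meet (φ Y) (φ Z) := by
      rintro ⟨x₀, hx₀0, hx₀1, hx₀2⟩
      apply hnot
      refine ⟨⟨x₀, hx₀0, hx₀1, hx₀2⟩, ?_⟩
      have hn : ¬ ∃ c : F, x₀ = c • y := by
        rintro ⟨c', rfl⟩
        have hc' : c' ≠ 0 := by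
          rintro rfl
          simp at hx₀0
        have e : y = c'⁻¹ • (c' • y) := by rw [smul_smul, inv_mul_cancel₀ hc', one_smul]
        have hyB : y ∈ φ Y := by
          rw [e]
          exact Submodule.smul_mem _ _ hx₀1
        obtain ⟨d', hd'⟩ := two_pts hA hB nAB hp0 pX pY hy1 hyB
        exact hpy d' hd'
      push Not at hn
      rw [hD.eq_sp hy2 hx₀2 (ind2_of_not_mult hy0 hn)]
      intro x hx w hw
      rw [Submodule.mem_span_pair] at hw
      obtain ⟨s, t, rfl⟩ := hw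
      rw [h.add_right, h.smul_right, h.smul_right, hB.B0 h hx hx₀1, hs x y, aXY.2 y hy1 x hx]
      ring
    have hprp : Prp B (φ Y) (φ Z) := hcm.resolve_left hnm
    have I4 : Ind4 p y b₁ c₁ := by
      intro r s t u e
      have hu : u = 0 := by
        by_contra hu
        apply hnm
        refine ⟨c₁ + (u⁻¹ * s) • y, ?_, ?_, ?_⟩
        · intro e0
          have := Iyc (u⁻¹ * s) 1 (by rw [one_smul, add_comm]; exact e0)
          exact one_ne_zero this.2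
        · have e3 : c₁ + (u⁻¹ * s) • y = (-(u⁻¹ * r)) • p + (-(u⁻¹ * t)) • b₁ := by
            have e4 : u • c₁ = -(r • p + s • y + t • b₁) := eq_neg_of_add_eq_zero_right e
            have e5 : c₁ = u⁻¹ • (-(r • p + s • y + t • b₁)) := by
              rw [← e4, smul_smul, inv_mul_cancel₀ hu, one_smul]
            rw [e5]
            funext i
            simp only [Pi.add_apply, Pi.neg_apply, Pi.smul_apply, smul_eq_mul]
            ring
          rw [e3]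
          exact Submodule.add_mem _ (Submodule.smul_mem _ _ pY) (Submodule.smul_mem _ _ hb₁)
        · exact Submodule.add_mem _ hc₁ (Submodule.smul_mem _ _ hy2)
      subst hu
      rw [zero_smul, add_zero] at e
      have ht : t = 0 := by
        by_contra ht
        apply nAB
        refine (hB.eq_of_le hA ?_).symm
        rw [eB, Submodule.span_le]
        rintro x (rfl | rfl)
        · exact pX
        · have e3 : x = t⁻¹ • (-(r • p + s • y)) := by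
            have e4 : t • x = -(r • p + s • y) := eq_neg_of_add_eq_zero_right e
            rw [← e4, smul_smul, inv_mul_cancel₀ ht, one_smul]
          rw [SetLike.mem_coe, e3]
          exact Submodule.smul_mem _ _ (Submodule.neg_mem _ (Submodule.add_mem _ (Submodule.smul_mem _ _ pX)
            (Submodule.smul_mem _ _ hy1)))
      subst ht
      rw [zero_smul, add_zero] at e
      have := Ipy r s e
      exact ⟨this.1, this.2, rfl, rfl⟩
    apply hNF ![p, y, b₁, c₁] _ _ (ind4_li I4)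
    · intro i
      fin_cases i
      · simpa using hA.ts p pX
      · simpa using hA.ts y hy1
      · simpa using hB.ts b₁ hb₁
      · simpa using hD.ts c₁ hc₁
    · have b1 : B p y = 0 := hA.B0 h pX hy1
      have b2 : B p b₁ = 0 := hB.B0 h pY hb₁
      have b3 : B p c₁ = 0 := aXZ.2 p pX c₁ hc₁
      have b4 : B y b₁ = 0 := aXY.2 y hy1 b₁ hb₁
      have b5 : B y c₁ = 0 := hD.B0 h hy2 hc₁
      have b6 : B b₁ c₁ = 0 := hprp b₁ hb₁ c₁ hc₁
      have q1 := hA.ts p pX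
      have q2 := hA.ts y hy1
      have q3 := hB.ts b₁ hb₁
      have q4 := hD.ts c₁ hc₁
      intro i j
      fin_cases i <;> fin_cases j <;>
        simp [Buu h q1, Buu h q2, Buu h q3, Buu h q4, b1, b2, b3, b4, b5, b6, hs y p, hs b₁ p, hs c₁ p, hs b₁ y, hs c₁ y, hs c₁ b₁]
  · -- big
    obtain ⟨d, Qd, hd0, dz, da, db, dc, Izd, hdn⟩ := exists_d_big C hBig Qz Qa Qb Qc Bza Bzb Bzc Bab Bac Iza Bbc
    have hW := isLn_sp h Qz Qd (by rw [hs]; exact dz) Izd
    have zW := mem_sp_left z d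
    have pW : ∀ V, V = sp z a ∨ V = sp z b ∨ V = sp z c → Prp B V (sp z d) := by
      rintro V (rfl | rfl | rfl)
      · exact prp_sp h (Buu h Qz) (by rw [hs]; exact dz) (by rw [hs]; exact Bza) (by rw [hs]; exact da)
      · exact prp_sp h (Buu h Qz) (by rw [hs]; exact dz) (by rw [hs]; exact Bzb) (by rw [hs]; exact db)
      · exact prp_sp h (Buu h Qz) (by rw [hs]; exact dz) (by rw [hs]; exact Bzc) (by rw [hs]; exact dc)
    have pXW : Prp B X (sp z d) := eX ▸ pW _ (Or.inl rfl)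
    have pYW : Prp B Y (sp z d) := eY ▸ pW _ (Or.inr (Or.inl rfl))
    have pZW : Prp B Z (sp z d) := eZ ▸ pW _ (Or.inr (Or.inr rfl))
    have nXW : X ≠ sp z d := by
      intro e
      apply hdn
      rw [← eX, e]
      exact mem_sp_right z d
    obtain ⟨p₁, h0, h1, h2, h3⟩ := M.star3 C (Or.inr hBig) hz0 hX hY hW zX zY zW pXY pXW pYW
    obtain ⟨c₁, hc₁⟩ := two_pts hA hB nAB h0 h1 h2 pX pY
    have pW' : p ∈ φ (sp z d) := by
      rw [hc₁]
      exact Submodule.smul_mem _ _ h3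
    obtain ⟨p₂, h0', h1', h2', h3'⟩ := M.star3 C (Or.inr hBig) hz0 hX hW hZ zX zW zZ pXW pXZ (pZW.symm h)
    have nAW : φ X ≠ φ (sp z d) := fun e => nXW (M.inj hX hW e)
    obtain ⟨c₂, hc₂⟩ := two_pts hA (M.ln _ hW) nAW h0' h1' h2' pX pW'
    rw [hc₂]
    exact Submodule.smul_mem _ _ h3'

/-- **All lines through a point go to lines through a point.** -/
theorem LM.star (M : LM Q B φ ψ) (C : Cx Q B t₀) (HH : NoFour Q B ∨ Big C.h) {z : ι → F} (Qz : Q z = 0) (hz0 : z ≠ 0) :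
    ∃ p, p ≠ 0 ∧ ∀ L, IsLn Q L → z ∈ L → p ∈ φ L := by
  have h := C.h
  have hs := fun x y => h.symm x y
  obtain ⟨a, b, Qa, Qb, Bza, Bzb, Bab, Iza, Izb, hbn⟩ := exists_two C Qz hz0
  have hX := isLn_sp h Qz Qa Bza Iza
  have hY := isLn_sp h Qz Qb Bzb Izb
  have zX := mem_sp_left z a
  have zY := mem_sp_left z b
  have nXY : sp z a ≠ sp z b := by
    intro e
    apply hbn
    rw [e]
    exact mem_sp_right z b
  have pXY : Prp B (sp z a) (sp z b) := prp_sp h (Buu h Qz) Bzb (by rw [hs]; exact Bza) Bab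
  obtain ⟨p, hp0, pX, pY⟩ := (M.ad _ _ hX hY ⟨z, hz0, zX, zY⟩ pXY).1
  refine ⟨p, hp0, ?_⟩
  intro L hL zL
  by_cases n1 : sp z a = L
  · rw [← n1]; exact pX
  by_cases n2 : sp z b = L
  · rw [← n2]; exact pY
  by_cases p1 : Prp B (sp z a) L
  · exact M.star2 C HH hz0 hX hY hL zX zY zL nXY n1 pXY p1 hp0 pX pY
  by_cases p2 : Prp B (sp z b) L
  · exact M.star2 C HH hz0 hY hX hL zY zX zL nXY.symm n2 (pXY.symm h) p2 hp0 pY pX
  -- neither
  obtain ⟨c, hc, Izc, eL⟩ := hL.exists_sp zL hz0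
  have Qc := hL.ts c hc
  have Bzc : B z c = 0 := hL.B0 h zL hc
  have Bac : B a c ≠ 0 := by
    intro e
    apply p1
    rw [eL]
    exact prp_sp h (Buu h Qz) Bzc (by rw [hs]; exact Bza) e
  obtain ⟨d, Qd, hd0, dz, da, dc, Izd⟩ := exists_d2 C Qz Qa Qc hz0 Bza Bzc Bac
  have hW := isLn_sp h Qz Qd (by rw [hs]; exact dz) Izd
  have zW := mem_sp_left z d
  have pXW : Prp B (sp z a) (sp z d) :=
    prp_sp h (Buu h Qz) (by rw [hs]; exact dz) (by rw [hs]; exact Bza) (by rw [hs]; exact da)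
  have pWL : Prp B (sp z d) L := by
    rw [eL]
    exact prp_sp h (Buu h Qz) Bzc dz dc
  have nXW : sp z a ≠ sp z d := by
    intro e
    apply p1
    rw [e]
    exact pWL
  have nWL : sp z d ≠ L := by
    intro e
    apply p1
    rw [← e]
    exact pXW
  have pW := M.star2 C HH hz0 hX hY hW zX zY zW nXY nXW pXY pXW hp0 pX pY
  exact M.star2 C HH hz0 hW hX hL zW zX zL nXW.symm nWL (pXW.symm h) pWL hp0 pW pX

end TT

end Cfsg.Agent.H01.Om
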