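import Mathlib
import Cfsg.Prelude.Def_Involutions
import Cfsg.Agent.Lib.H18.PGroup

/-! Strongly embedded subgroups: basic facts. -/

set_option autoImplicit false

namespace Cfsg.Agent.H01

variable {G : Type*} [Group G] [Finite G]

theorem exists_invol_of_not_odd (K : Subgroup G) (h : ¬ Odd (Nat.card K)) :
    ∃ t ∈ K, orderOf t = 2 := by
  haveI : Fact (Nat.Prime 2) := ⟨Nat.prime_two⟩
  rw [Nat.not_odd_iff_even] at h
  obtain ⟨t, ht⟩ := exists_prime_orderOf_dvd_card' (G := K) 2 h.two_dvd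
  exact ⟨t, t.2, by rw [Subgroup.orderOf_coe]; exact ht⟩

theorem not_odd_of_invol (K : Subgroup G) {t : G} (ht : t ∈ K) (h2 : orderOf t = 2) :
    ¬ Odd (Nat.card K) := by
  rw [Nat.not_odd_iff_even]
  have : orderOf (⟨t, ht⟩ : K) ∣ Nat.card K := orderOf_dvd_natCard _
  rw [Subgroup.orderOf_mk, h2] at this
  exact even_iff_two_dvd.mpr this

theorem mem_inf_conj {H : Subgroup G} {g t : G} (ht : t ∈ H) (h2 : g⁻¹ * t * g ∈ H) :
    t ∈ H ⊓ H.map (MulAut.conj g).toMonoidHom := by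
  refine ⟨ht, _, h2, ?_⟩
  simp [MulAut.conj_apply]
  group

theorem of_mem_inf_conj {H : Subgroup G} {g t : G}
    (ht : t ∈ H ⊓ H.map (MulAut.conj g).toMonoidHom) : t ∈ H ∧ g⁻¹ * t * g ∈ H := by
  obtain ⟨h1, x, hx, rfl⟩ := ht
  refine ⟨h1, ?_⟩
  have : g⁻¹ * ((MulAut.conj g).toMonoidHom x) * g = x := by
    simp [MulAut.conj_apply]
    group
  rw [this]
  exact hx

/-- strongly embedded iff: no involution of `H` is conjugated into `H` by an outside element. -/
theorem stronglyEmbedded_iff (H : Subgroup G) (hH : H ≠ ⊤) (heven : Even (Nat.card H)) :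
    Cfsg.IsStronglyEmbedded H ↔ ∀ t ∈ H, orderOf t = 2 → ∀ g : G, g⁻¹ * t * g ∈ H → g ∈ H := by
  constructor
  · rintro ⟨-, -, hodd⟩ t ht h2 g hg
    by_contra hgH
    exact not_odd_of_invol _ (mem_inf_conj ht hg) h2 (hodd g hgH)
  · intro h
    refine ⟨hH, heven, fun g hg => ?_⟩
    by_contra hn
    obtain ⟨t, ht, h2⟩ := exists_invol_of_not_odd _ hn
    obtain ⟨h3, h4⟩ := of_mem_inf_conj ht
    exact hg (h t h3 h2 g h4)

end Cfsg.Agent.H01
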