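import Mathlib
import Cfsg.Prelude.Def_Classical
import Cfsg.Agent.Lib.H01.TabIso
import Cfsg.Agent.Lib.Lead.SpBasic
import Cfsg.Agent.Lib.Lead.SpOrder
import Cfsg.Agent.Lib.H03.U4S4b

/-! An explicit isomorphism of the Sylow 2-subgroups of `A₈` and of `PSp₄(3)`. -/

set_option autoImplicit false
set_option Elab.async false

namespace Cfsg.Agent.H01.TabA8

open Matrix Subgroup Cfsg.Agent.H01.TabIso

abbrev Z3 := ZMod 3
abbrev I4 := Fin 2 ⊕ Fin 2
abbrev Sp3 := symplecticGroup (Fin 2) Z3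

def pc : ℕ := nat_lit 0xb3e053fac4c1977053b3e21a21ab3e4c1de5b37213dec4c897e213b3705a05ab374c8fa5de521afac053977688fac21a053fac97e05ab3e68805a97e213b37688977681decfa505adec21397e681dec05a213dec97721ab3768121a977053b3e68197e688facfa521305afa5de54c1213fa5053977681b374c897ede5688de505321ade5fa54c8053de521397e688b3e4c1977fa568121afac4c8dec4c1b3e9774c105adec4c1fac4c8b3797e4c8688de5b374c8681fa5b3e4c1dec681fac688
def mc : ℕ := nat_lit 0x562a98599698155a2925904516081058564aaa889628248996196528a944462480a2a861402295a19648a698a9a684946264158a91059458822a648150601a591261664469468855121a905a4042a41080028a905086a14656095a2a41a8a228826a11aa62119524129a2661a0a6481056680a09a0898866296661541649a16a1284a61a96aa8519124489a1a009a59040602542915881985618289a8281a49441024515960a9448a0100809215286652995116682aa4a54965a060a622428519185aa22a96526858214246a1658421a5099611912041084628a020a40a18651125a0904a02665494092662291a254852945020482940a0116a8514940100401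
def tc : ℕ := nat_lit 0x35302e342d382c33362b3237392a35382f293b25233a223e21283c20273d3f1f3b3e241e243d1d1c3c251f1b221a3f27283a1a191d3f183e263d18213c1720263b17161c3a2f37151436302a132d12393233341211153910383137102c360f2b31350f0e14340d2e3332290d0c3113300c2f2e0b112d2c0b0a2b2a290a0e092328271e0908261b25082423071922210706201f1e06161d051c1b1a050419181716041503141312030211100f0e02010d0c0b010a000908070006050400030201
def ec : ℕ := nat_lit 0xb24949b493043a1275b6dd40bb3a01833809841841860808
def ic : ℕ := nat_lit 0x3f3e3d3c3b3a2e3836373529333231302a392d2b2c2f341d25222717232620211a1e28181b1f191c2416150b130f110d120e100c140a07050904080603020100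

def idx : I4 → ℕ
  | .inl a => a.val
  | .inr a => a.val + 2

def MZ (i : Fin 64) : Matrix I4 I4 Z3 := fun x y => (((mc >>> (32 * i.val + 2 * (4 * idx x + idx y))) % 4 : ℕ) : Z3)

def T (i : Fin 64) (s : Fin 3) : Fin 64 := ⟨(tc >>> (8 * (3 * i.val + s.val))) % 64, Nat.mod_lt _ (by norm_num)⟩
def E (i : Fin 64) (s : Fin 3) : Bool := (ec >>> (3 * i.val + s.val)) % 2 == 1
def pf (i : Fin 64) (x : Fin 8) : Fin 8 := ⟨(pc >>> (24 * i.val + 3 * x.val)) % 8, Nat.mod_lt _ (by norm_num)⟩
def iv (i : Fin 64) : Fin 64 := ⟨(ic >>> (8 * i.val)) % 64, Nat.mod_lt _ (by norm_num)⟩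
def g (s : Fin 3) : Fin 64 := ⟨s.val + 1, by omega⟩

lemma pf_left : ∀ i x, pf (iv i) (pf i x) = x := by decide +kernel
lemma pf_right : ∀ i x, pf i (pf (iv i) x) = x := by decide +kernel

def mkP (i : Fin 64) : Equiv.Perm (Fin 8) := ⟨pf i, pf (iv i), pf_left i, pf_right i⟩

lemma mkP_apply (i : Fin 64) (x : Fin 8) : mkP i x = pf i x := rfl

lemma hpm : ∀ i s x, pf i (pf (g s) x) = pf (T i s) x := by decide +kernel

lemma hmat : ∀ i s, MZ i * MZ (g s) = if E i s then - MZ (T i s) else MZ (T i s) := by decide +kernel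

lemma hmem0 : ∀ i, MZ i * J (Fin 2) Z3 * (MZ i)ᵀ = J (Fin 2) Z3 := by decide +kernel

lemma h0M : MZ 0 = 1 := by decide +kernel

lemma hTT : ∀ s, T (g s) s = 0 := by decide +kernel

lemma hE0 : ∀ s, E (g s) s = true ∨ E (g s) s = false := by decide +kernel

lemma hid : ∀ i, (∀ x, pf i x = x) → i = 0 := by decide +kernel

lemma hid0 : ∀ x, pf 0 x = x := by decide +kernel

lemma hscal : ∀ i (c : Z3), MZ i = c • (1 : Matrix I4 I4 Z3) → i = 0 := by decide +kernel

lemma hinj0 : ∀ i j, (∀ x, pf i x = pf j x) → i = j := by decide +kernel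

lemma hpar : ∀ i : Fin 64, i = 0 ∨ ∃ j, ∃ s, j < i ∧ T j s = i := by decide +kernel

lemma hsign : ∀ s, Equiv.Perm.sign (mkP (g s)) = 1 := by decide +kernel

def SS (i : Fin 64) : Sp3 := ⟨MZ i, SymplecticGroup.mem_iff.2 (hmem0 i)⟩

def mN : Sp3 := ⟨-1, SymplecticGroup.mem_iff.2 (by decide +kernel)⟩

lemma mN_center : mN ∈ Subgroup.center Sp3 := by
  rw [Subgroup.mem_center_iff]
  intro x
  apply Subtype.ext
  show (x : Matrix I4 I4 Z3) * (-1) = (-1 : Matrix I4 I4 Z3) * (x : Matrix I4 I4 Z3)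
  simp

def fa (i : Fin 64) : Equiv.Perm (Fin 8) := mkP i
def fb (i : Fin 64) : Cfsg.PSp 2 Z3 := (QuotientGroup.mk (SS i) : Sp3 ⧸ Subgroup.center Sp3)
def a (s : Fin 3) : Equiv.Perm (Fin 8) := mkP (g s)
def b (s : Fin 3) : Cfsg.PSp 2 Z3 := fb (g s)

lemma h0a : fa 0 = 1 := Equiv.ext hid0

lemma h0S : SS 0 = 1 := Subtype.ext h0M

lemma h0b : fb 0 = 1 := by
  show (QuotientGroup.mk (SS 0) : Sp3 ⧸ Subgroup.center Sp3) = 1
  rw [h0S]
  rfl

lemma hma (i : Fin 64) (s : Fin 3) : fa i * a s = fa (T i s) := Equiv.ext (hpm i s)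

lemma hmb (i : Fin 64) (s : Fin 3) : fb i * b s = fb (T i s) := by
  have h := hmat i s
  show (QuotientGroup.mk (SS i) : Sp3 ⧸ Subgroup.center Sp3) * (QuotientGroup.mk (SS (g s)) : Sp3 ⧸ Subgroup.center Sp3) =
    (QuotientGroup.mk (SS (T i s)) : Sp3 ⧸ Subgroup.center Sp3)
  rw [← QuotientGroup.mk_mul]
  by_cases hE : E i s = true
  · rw [if_pos hE] at h
    have h2 : SS i * SS (g s) = mN * SS (T i s) := by
      apply Subtype.ext
      show MZ i * MZ (g s) = (-1 : Matrix I4 I4 Z3) * MZ (T i s)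
      rw [h]
      simp
    rw [h2, QuotientGroup.mk_mul, (QuotientGroup.eq_one_iff mN).2 mN_center, one_mul]
  · rw [if_neg hE] at h
    have h2 : SS i * SS (g s) = SS (T i s) := Subtype.ext h
    rw [h2]

lemma hinva (s : Fin 3) : a s * a s = 1 := by
  have h := hma (g s) s
  rw [hTT, h0a] at h
  exact h

lemma hinvb (s : Fin 3) : b s * b s = 1 := by
  have h := hmb (g s) s
  rw [hTT, h0b] at h
  exact h

lemma h1 (i : Fin 64) (h : fa i = 1) : fb i = 1 := by
  have : i = 0 := hid i (fun x => by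
    have := congrArg (fun p : Equiv.Perm (Fin 8) => p x) h
    exact this)
  rw [this]
  exact h0b

lemma h2 (i : Fin 64) (h : fb i = 1) : fa i = 1 := by
  have h3 : SS i ∈ Subgroup.center Sp3 := (QuotientGroup.eq_one_iff (SS i)).1 h
  obtain ⟨c, hc⟩ := Cfsg.Agent.Lead.center_scalar h3
  have : i = 0 := hscal i c hc
  rw [this]
  exact h0a

lemma inj_fa : Function.Injective fa := by
  intro i j h
  exact hinj0 i j (fun x => by
    have := congrArg (fun p : Equiv.Perm (Fin 8) => p x) h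
    exact this)

theorem card_A : Nat.card (Subgroup.closure (Set.range a)) = 2 ^ 6 :=
  card_closure_table fa a T 0 h0a hma hinva inj_fa hpar

theorem iso_A : Nonempty (↥(Subgroup.closure (Set.range a)) ≃* ↥(Subgroup.closure (Set.range b))) :=
  table_iso fa fb a b T 0 h0a h0b hma hmb hinva hinvb h1 h2

lemma le_alt : Subgroup.closure (Set.range a) ≤ alternatingGroup (Fin 8) := by
  rw [Subgroup.closure_le]
  rintro _ ⟨s, rfl⟩
  exact Equiv.Perm.mem_alternatingGroup.2 (hsign s)

lemma fact_A8 : (Nat.card (alternatingGroup (Fin 8))).factorization 2 = 6 := by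
  have h := two_mul_nat_card_alternatingGroup (α := Fin 8)
  rw [Nat.card_perm, Nat.card_eq_fintype_card (α := Fin 8), Fintype.card_fin] at h
  have h3 : Nat.factorial 8 = 40320 := by decide
  rw [h3] at h
  have h4 : Nat.card (alternatingGroup (Fin 8)) = 2 ^ 6 * 315 := by omega
  rw [h4]
  exact factorization_of_mul Nat.prime_two (by norm_num)

lemma fact_PSp {F : Type*} [Field F] [Fintype F] (hF : Fintype.card F = 3) :
    (Nat.card (Cfsg.PSp 2 F)).factorization 2 = 6 := by
  have h1 := Cfsg.Agent.Lead.card_Sp hF 2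
  have h2 := Cfsg.Agent.Lead.card_center_Sp (l := Fin 2) (F := F)
  have h3 := Subgroup.card_eq_card_quotient_mul_card_subgroup (Subgroup.center (symplecticGroup (Fin 2) F))
  rw [hF] at h2
  have h5 : Nat.gcd 2 (3 - 1) = 2 := by decide
  rw [h5] at h2
  have h6 : 3 ^ (2 ^ 2) * ∏ i ∈ Finset.range 2, (3 ^ (2 * (i + 1)) - 1) = 51840 := by decide
  rw [h6] at h1
  rw [h1, h2] at h3
  have h4 : Nat.card (Cfsg.PSp 2 F) = 2 ^ 6 * 405 := by
    have : Nat.card (Cfsg.PSp 2 F) * 2 = 51840 := h3.symm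
    omega
  rw [h4]
  exact factorization_of_mul Nat.prime_two (by norm_num)

theorem main {F : Type*} [Field F] [Fintype F] (hF : Fintype.card F = 3)
    (P : Sylow 2 ↥(alternatingGroup (Fin 8))) (Q : Sylow 2 (Cfsg.PSp 2 F)) :
    Nonempty (↥(P : Subgroup ↥(alternatingGroup (Fin 8))) ≃* ↥(Q : Subgroup (Cfsg.PSp 2 F))) := by
  obtain ⟨E⟩ := iso_A
  have e : Z3 ≃+* F := FiniteField.ringEquivOfCardEq (by rw [hF]; simp [ZMod.card])
  haveI : Finite (Cfsg.PSp 2 F) := inferInstance
  haveI : Fact (Nat.Prime 2) := ⟨Nat.prime_two⟩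
  let ia : ↥(Subgroup.closure (Set.range a)) →* ↥(alternatingGroup (Fin 8)) := Subgroup.inclusion le_alt
  let ib : ↥(Subgroup.closure (Set.range b)) →* Cfsg.PSp 2 F :=
    ((Cfsg.Agent.H03.U4S4.pspCongr e 2).toMonoidHom).comp (Subgroup.closure (Set.range b)).subtype
  have hia : Function.Injective ia := Subgroup.inclusion_injective le_alt
  have hib : Function.Injective ib := by
    intro x y h
    apply Subtype.ext
    exact (Cfsg.Agent.H03.U4S4.pspCongr e 2).injective h
  exact syl_iso 2 ia ib hia hib E card_A fact_A8 (fact_PSp hF) P Q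

end Cfsg.Agent.H01.TabA8
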