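import Mathlib
import Cfsg.Prelude.Def_Classical
import Cfsg.Agent.Lib.H01.TabIso
import Cfsg.Agent.Lib.Lead.OrthoOrder

/-! An explicit isomorphism of the Sylow 2-subgroups of `S₈` and of `O₆⁻(2)`. -/

set_option autoImplicit false
set_option Elab.async false

namespace Cfsg.Agent.H01.TabS8

open Matrix Subgroup Cfsg.Agent.H01.TabIso

abbrev Z2 := ZMod 2
abbrev I6 := (Fin 2 ⊕ Fin 2) ⊕ Fin 2

def pc : ℕ := nat_lit 0xfac053977688de54c1b3e21a688977053fac977213fac4c897705a21ab3e4c1de5b3e681de505ab3e4c8053b3797e4c1b374c14c8fac688dec688fa505a977681facfa521ade5213fac21ab3e6884c197eb3705397e05305ade521afa521adec4c8b3e213de5dec688fac681de568897721afa5688681b3edec681fa568105adec4c1b37053de597e2134c8b374c897e213decb3705ab3e053fa54c8dec4c84c1977fa54c1de54c8dec21a213977fa5213dec2134c8fa505397e4c1facb3768105a97e05ab37681fa597e4c89774c1dec05afa505a053b3edec053fac05ab374c821397e213b3721a977681dec05ab3e97e681688de5b3768897e68821ab37fac21397e05a681b3768197e688b3e213fa54c8977b3721321afac97e21ab3721a68897ede568105afa5681977fac4c1213facdec4c1053fa5053dec9770534c8dec213b3ede5053681de5fa50534c1dec4c1fa5b3e4c14c8de597768121a97e688fac05afacb3e213688b3721ade5b3e05a4c1b3e9774c8053977de521afac688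
def mc : ℕ := nat_lit 0x81396730f813aea3cc81396a042813ae70818d3df53cc8d3ebb30f3641bdd5b36421d6f536919d57b8d3dfb0428d3eb508136419d57b36423ded53691bdd5b8e4dcc6f5838ac126783618fa843b85de12a8e45c2d5b8e9e8f57b3b669e2673b65fd9c983820c9c936921d6f583396a0428301890428e4dc257b838acc12a8361829c93b85fd9c98e45cced58e9e816f53b66bda843b65de12a838201a8436923ded583396730f83018430f83694f2673b869e26736c215fbd36295b75e3ace8479d8e968fd5b8f35db04236f19bfbd3a2684fbd3afdc979d3a2ea7f7e36caf5f7e833aea3cc36f97bf7e36123579d8f0dfb04281694212a34797e57b83694212a3b86bda8436c23579d36297bf7e3acea7f7e8e9681ed58f35d53cc36f1bb79d3a26a775e3afdeaf7e3a2e8479d36cad575e833ae708136f95b75e361215fbd8f0df53cc81694f26734795ed5b36219bfbd3ac684fbd3a1dc979d8f369b30f3af5c9fbd396dfe12a361af5f7e8f0ebb30f8161829c9818acc12a8c7dc257b34a97e57b3621bb79d3ac6a775e3a1deaf7e8f36950813af5ea75e396ddd9c9361ad575e8f0eb508181618fa84818ac12678c7dcc6f534a95ed5b3a15c9fbd398dfe12a8302093cc396ebe26781820c9c98c75c2d5b8cae8f57b8101890423a15ea75e398ddd9c9830204081396e9da84818201a848c75cced58cae816f581018430f398ebe267347afe6f58ca68fd5b8d05db042398e9da84347adeed58ca681ed58d05d53cc34aafe6f58d069b30f34aadeed58d06950818102093cc810204081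
def tc : ℕ := nat_lit 0x797b7d787a7c74767f73757e717f756d7e767f6a727e6b68676e74657d7a617c7b7d5e777c5f5c5b62797b59605760645661635577587a635453646551785e4f795f4e545d4d5878774a5b48535a76476c456c70446d6f437246756f424170713f736a3d746b3c42693b467372386736416635714734686e7034396f333a6e3c3332696d6c66323731356b3931303a3d6a2f3e69432f682e3b2d3e442c3f452b672e402b3766302a296559285c6264284b63274c624e27265d61605a264925295f4b25244c4f5e23505d55235c224d2150562051571f5b22521f495a241e591d5258571d1c5655541b531a525150481a194f4e184d4a4c18214b17204a4917161c4847154046451514444342134112403f3e3612113d3c103b383a102d390f2c38370f0e14360d3534332a0d0c3213310c302f0b112e2d0b0a2c2b2a0a0e092928271e0908261b25082423071922210706201f1e06161d051c1b1a050419181716041503141312030211100f0e02010d0c0b010a000908070006050400030201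
def ic : ℕ := nat_lit 0x7f7e7d7c7a7b77787976757468726b6f706d6e6a716c697367665e636454585f60655d5c5b5a5961575651624a4e554f50524d4c4b5349484742393a31462e2f333e3d353b444532372a3c343f38432b40412c2d3036231d25222717292620211a1e28181b1f191c2416150b130f110d120e100c140a07050904080603020100

def idx : I6 → ℕ
  | .inl (.inl a) => a.val
  | .inl (.inr a) => a.val + 2
  | .inr a => a.val + 4

def MZ (i : Fin 128) : Matrix I6 I6 Z2 := fun x y => (((mc >>> (36 * i.val + (6 * idx x + idx y))) % 2 : ℕ) : Z2)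

def T (i : Fin 128) (s : Fin 3) : Fin 128 := ⟨(tc >>> (8 * (3 * i.val + s.val))) % 128, Nat.mod_lt _ (by norm_num)⟩
def pf (i : Fin 128) (x : Fin 8) : Fin 8 := ⟨(pc >>> (24 * i.val + 3 * x.val)) % 8, Nat.mod_lt _ (by norm_num)⟩
def iv (i : Fin 128) : Fin 128 := ⟨(ic >>> (8 * i.val)) % 128, Nat.mod_lt _ (by norm_num)⟩
def g (s : Fin 3) : Fin 128 := ⟨s.val + 1, by omega⟩

lemma pf_left : ∀ i x, pf (iv i) (pf i x) = x := by decide +kernel
lemma pf_right : ∀ i x, pf i (pf (iv i) x) = x := by decide +kernel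

def mkP (i : Fin 128) : Equiv.Perm (Fin 8) := ⟨pf i, pf (iv i), pf_left i, pf_right i⟩

lemma hpm : ∀ i s x, pf i (pf (g s) x) = pf (T i s) x := by decide +kernel

lemma hmat : ∀ i s, MZ i * MZ (g s) = MZ (T i s) := by decide +kernel

lemma hL : ∀ i, MZ i * MZ (iv i) = 1 := by decide +kernel

lemma hR : ∀ i, MZ (iv i) * MZ i = 1 := by decide +kernel

lemma h0M : MZ 0 = 1 := by decide +kernel

lemma hTT : ∀ s, T (g s) s = 0 := by decide +kernel

lemma hid : ∀ i, (∀ x, pf i x = x) → i = 0 := by decide +kernel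

lemma hid0 : ∀ x, pf 0 x = x := by decide +kernel

lemma hone : ∀ i, MZ i = 1 → i = 0 := by decide +kernel

lemma hinj0 : ∀ i j, (∀ x, pf i x = pf j x) → i = j := by decide +kernel

lemma hpar : ∀ i : Fin 128, i = 0 ∨ ∃ j, ∃ s, j < i ∧ T j s = i := by decide +kernel

lemma hisom : ∀ s, ∀ v : I6 → Z2, Cfsg.quadFormMinus 2 Z2 1 1 (MZ (g s) *ᵥ v) = Cfsg.quadFormMinus 2 Z2 1 1 v := by
  decide +kernel

def GG (i : Fin 128) : GL I6 Z2 := ⟨MZ i, MZ (iv i), hL i, hR i⟩

def fa (i : Fin 128) : Equiv.Perm (Fin 8) := mkP i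
def a (s : Fin 3) : Equiv.Perm (Fin 8) := mkP (g s)
def b (s : Fin 3) : GL I6 Z2 := GG (g s)

lemma h0a : fa 0 = 1 := Equiv.ext hid0

lemma h0b : GG 0 = 1 := Units.ext h0M

lemma hma (i : Fin 128) (s : Fin 3) : fa i * a s = fa (T i s) := Equiv.ext (hpm i s)

lemma hmb (i : Fin 128) (s : Fin 3) : GG i * b s = GG (T i s) := Units.ext (hmat i s)

lemma hinva (s : Fin 3) : a s * a s = 1 := by
  have h := hma (g s) s
  rw [hTT, h0a] at h
  exact h

lemma hinvb (s : Fin 3) : b s * b s = 1 := by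
  have h := hmb (g s) s
  rw [hTT, h0b] at h
  exact h

lemma h1 (i : Fin 128) (h : fa i = 1) : GG i = 1 := by
  have : i = 0 := hid i (fun x => by
    have := congrArg (fun p : Equiv.Perm (Fin 8) => p x) h
    exact this)
  rw [this]
  exact h0b

lemma h2 (i : Fin 128) (h : GG i = 1) : fa i = 1 := by
  have h3 : MZ i = 1 := congrArg Units.val h
  have : i = 0 := hone i h3
  rw [this]
  exact h0a

lemma inj_fa : Function.Injective fa := by
  intro i j h
  exact hinj0 i j (fun x => by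
    have := congrArg (fun p : Equiv.Perm (Fin 8) => p x) h
    exact this)

theorem card_A : Nat.card (Subgroup.closure (Set.range a)) = 2 ^ 7 :=
  card_closure_table fa a T 0 h0a hma hinva inj_fa hpar

theorem iso_A : Nonempty (↥(Subgroup.closure (Set.range a)) ≃* ↥(Subgroup.closure (Set.range b))) :=
  table_iso fa GG a b T 0 h0a h0b hma hmb hinva hinvb h1 h2

lemma b_isom : Subgroup.closure (Set.range b) ≤ Cfsg.isometryGroup Z2 (Cfsg.quadFormMinus 2 Z2 1 1) := by
  rw [Subgroup.closure_le]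
  rintro _ ⟨s, rfl⟩
  intro u _
  exact hisom s u

lemma fact_S8 : (Nat.card (Equiv.Perm (Fin 8))).factorization 2 = 7 := by
  rw [Nat.card_perm, Nat.card_eq_fintype_card (α := Fin 8), Fintype.card_fin]
  have h3 : Nat.factorial 8 = 2 ^ 7 * 315 := by decide
  rw [h3]
  exact factorization_of_mul Nat.prime_two (by norm_num)

section K

variable {K : Type} [Field K] [Fintype K] (hK : Fintype.card K = 2)
include hK

lemma all_K (x : K) : x = 0 ∨ x = 1 := by
  classical
  by_contra h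
  push Not at h
  have h3 : ({0, 1, x} : Finset K).card ≤ Fintype.card K := Finset.card_le_univ _
  rw [hK, Finset.card_insert_of_notMem, Finset.card_insert_of_notMem, Finset.card_singleton] at h3
  · omega
  · simpa using h.2.symm
  · simp [h.1.symm]

lemma two_K : (1 : K) + 1 = 0 := by
  rcases all_K hK ((1 : K) + 1) with h | h
  · exact h
  · exfalso
    have : (1 : K) = 0 := by linear_combination h
    exact one_ne_zero this

lemma ab_one {a' b' : K} (hab : ∀ z₁ z₂ : K, z₁ ^ 2 + a' * z₁ * z₂ + b' * z₂ ^ 2 = 0 → z₁ = 0 ∧ z₂ = 0) :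
    a' = 1 ∧ b' = 1 := by
  have hb : b' = 1 := by
    rcases all_K hK b' with h | h
    · exfalso
      have := hab 0 1 (by rw [h]; ring)
      exact one_ne_zero this.2
    · exact h
  have ha : a' = 1 := by
    rcases all_K hK a' with h | h
    · exfalso
      have := hab 1 1 (by rw [h, hb]; linear_combination two_K hK)
      exact one_ne_zero this.1
    · exact h
  exact ⟨ha, hb⟩

lemma fact_O (a' b' : K) (hab : ∀ z₁ z₂ : K, z₁ ^ 2 + a' * z₁ * z₂ + b' * z₂ ^ 2 = 0 → z₁ = 0 ∧ z₂ = 0) :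
    (Nat.card (Cfsg.isometryGroup K (Cfsg.quadFormMinus 2 K a' b'))).factorization 2 = 7 := by
  have h := Cfsg.Agent.Lead.Ortho.card_GO_minus hK 3 (by norm_num) a' b' hab
  have e : Nat.card (Cfsg.isometryGroup K (Cfsg.quadFormMinus 2 K a' b')) =
      2 * 2 ^ (3 * (3 - 1)) * (2 ^ 3 + 1) * ∏ i ∈ Finset.range (3 - 1), (2 ^ (2 * (i + 1)) - 1) := h
  have h6 : 2 * 2 ^ (3 * (3 - 1)) * (2 ^ 3 + 1) * ∏ i ∈ Finset.range (3 - 1), (2 ^ (2 * (i + 1)) - 1) = 2 ^ 7 * 405 := by
    decide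
  rw [e, h6]
  exact factorization_of_mul Nat.prime_two (by norm_num)

lemma Q_map (e : Z2 ≃+* K) (y : I6 → Z2) :
    Cfsg.quadFormMinus 2 K 1 1 (fun i => e (y i)) = e (Cfsg.quadFormMinus 2 Z2 1 1 y) := by
  simp only [Cfsg.quadFormMinus, map_add, map_sum, map_mul, map_pow, map_one]

lemma map_isom (e : Z2 ≃+* K) (x : GL I6 Z2) (hx : x ∈ Cfsg.isometryGroup Z2 (Cfsg.quadFormMinus 2 Z2 1 1)) :
    Matrix.GeneralLinearGroup.map (e : Z2 →+* K) x ∈ Cfsg.isometryGroup K (Cfsg.quadFormMinus 2 K 1 1) := by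
  intro u _
  show Cfsg.quadFormMinus 2 K 1 1 (((Matrix.GeneralLinearGroup.map (e : Z2 →+* K) x : GL I6 K) : Matrix I6 I6 K) *ᵥ u) =
    Cfsg.quadFormMinus 2 K 1 1 u
  have hu : u = fun i => e (e.symm (u i)) := by
    ext i
    simp
  have h1 : ((Matrix.GeneralLinearGroup.map (e : Z2 →+* K) x : GL I6 K) : Matrix I6 I6 K) *ᵥ u =
      fun i => e (((x : Matrix I6 I6 Z2) *ᵥ (fun i => e.symm (u i))) i) := by
    ext i
    show (((x : Matrix I6 I6 Z2).map e) *ᵥ u) i = _
    simp only [Matrix.mulVec, dotProduct, Matrix.map_apply, map_sum, map_mul, RingEquiv.apply_symm_apply]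
  have h2 : Cfsg.quadFormMinus 2 Z2 1 1 ((x : Matrix I6 I6 Z2) *ᵥ (fun i => e.symm (u i))) =
      Cfsg.quadFormMinus 2 Z2 1 1 (fun i => e.symm (u i)) := hx _ (fun i => e.symm (u i))
  rw [h1, Q_map hK, h2]
  conv_rhs => rw [hu]
  rw [Q_map hK]

theorem main (a' b' : K) (hab : ∀ z₁ z₂ : K, z₁ ^ 2 + a' * z₁ * z₂ + b' * z₂ ^ 2 = 0 → z₁ = 0 ∧ z₂ = 0)
    (P : Sylow 2 (Equiv.Perm (Fin 8))) (Q : Sylow 2 ↥(Cfsg.isometryGroup K (Cfsg.quadFormMinus 2 K a' b'))) :
    Nonempty (↥(P : Subgroup (Equiv.Perm (Fin 8))) ≃* ↥(Q : Subgroup ↥(Cfsg.isometryGroup K (Cfsg.quadFormMinus 2 K a' b')))) := by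
  obtain ⟨rfl, rfl⟩ := ab_one hK hab
  obtain ⟨E⟩ := iso_A
  have e : Z2 ≃+* K := ZMod.ringEquivOfPrime K Nat.prime_two hK
  haveI : Fact (Nat.Prime 2) := ⟨Nat.prime_two⟩
  have hfin : Finite ↥(Cfsg.isometryGroup K (Cfsg.quadFormMinus 2 K 1 1)) := inferInstance
  let ia : ↥(Subgroup.closure (Set.range a)) →* Equiv.Perm (Fin 8) := (Subgroup.closure (Set.range a)).subtype
  let ib : ↥(Subgroup.closure (Set.range b)) →* ↥(Cfsg.isometryGroup K (Cfsg.quadFormMinus 2 K 1 1)) :=
    MonoidHom.codRestrict ((Matrix.GeneralLinearGroup.map (e : Z2 →+* K)).comp (Subgroup.closure (Set.range b)).subtype) _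
      (fun x => map_isom hK e x.1 (b_isom x.2))
  have hia : Function.Injective ia := Subtype.val_injective
  have hib : Function.Injective ib := by
    rintro ⟨x, hx⟩ ⟨y, hy⟩ h
    have h3 : Matrix.GeneralLinearGroup.map (e : Z2 →+* K) x = Matrix.GeneralLinearGroup.map (e : Z2 →+* K) y :=
      congrArg Subtype.val h
    apply Subtype.ext
    apply Units.ext
    ext i j
    have h4 : ((Matrix.GeneralLinearGroup.map (e : Z2 →+* K) x : GL I6 K) : Matrix I6 I6 K) i j =
        ((Matrix.GeneralLinearGroup.map (e : Z2 →+* K) y : GL I6 K) : Matrix I6 I6 K) i j := by rw [h3]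
    exact e.injective h4
  exact syl_iso 2 ia ib hia hib E card_A fact_S8 (fact_O hK 1 1 hab) P Q

end K

end Cfsg.Agent.H01.TabS8
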