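import Mathlib
import Cfsg.Agent.Lib.H14.GT
import Cfsg.Agent.Lib.H01.ZeNormal

/-! Thompson's normal `p`-complement theorem. -/

set_option autoImplicit false

namespace Cfsg.Agent.H01.ZE

open Cfsg Cfsg.Agent.H13 Cfsg.Agent.H14 Cfsg.Agent.H14.ZJFam

open scoped commutatorElement

universe u

/-- The centre of a subgroup. -/
abbrev zc {G : Type*} [Group G] (P : Subgroup G) : Subgroup G :=
  P ⊓ Subgroup.centralizer (P : Set G)

/-- The inductive statement. -/
def ThStmt (p : ℕ) (m : ℕ) : Prop :=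
  ∀ (G : Type u) [Group G] [Finite G], Nat.card G < m → ∀ P : Sylow p G,
    FrobCond p (Subgroup.normalizer (((elFam G p).jj (P : Subgroup G) : Subgroup G) : Set G)) →
    FrobCond p (Subgroup.centralizer ((zc (P : Subgroup G) : Subgroup G) : Set G)) → FrobCond p G

section Main

variable {G : Type u} [Group G] [Finite G] {p : ℕ} [Fact p.Prime]

/-- Applying the inductive statement to a proper subgroup containing the Sylow subgroup. -/
theorem th_sub (hIH : ThStmt.{u} p (Nat.card G)) {P : Sylow p G} {H : Subgroup G} (hH : H ≠ ⊤)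
    (hPH : (P : Subgroup G) ≤ H)
    (hF₁ : FC p (Subgroup.normalizer (((elFam G p).jj (P : Subgroup G) : Subgroup G) : Set G)))
    (hF₂ : FC p (Subgroup.centralizer ((zc (P : Subgroup G) : Subgroup G) : Set G))) : FC p H := by
  apply FC_of_frobCond
  have hcard : Nat.card H < Nat.card G := by
    have hlt : H < ⊤ := lt_top_iff_ne_top.mpr hH
    have h1 := card_lt_of_lt hlt
    rwa [Subgroup.card_top] at h1
  let P' : Sylow p H := P.subtype hPH
  have hP' : ∀ x : H, x ∈ (P' : Subgroup H) ↔ (x : G) ∈ (P : Subgroup G) := fun x => by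
    show x ∈ ((P : Subgroup G)).subgroupOf H ↔ _
    exact Subgroup.mem_subgroupOf
  have hP'map : (P' : Subgroup H).map H.subtype = (P : Subgroup G) := by
    apply le_antisymm
    · rintro _ ⟨x, hx, rfl⟩
      exact (hP' x).mp hx
    · intro x hx
      exact ⟨⟨x, hPH hx⟩, (hP' _).mpr hx, rfl⟩
  refine hIH H hcard P' ?_ ?_
  · have hz : ((elFam H p).jj (P' : Subgroup H)).map H.subtype = (elFam G p).jj (P : Subgroup G) := by
      rw [← jj_map p H.subtype (P' : Subgroup H) (fun x _ hx => Subtype.ext hx), hP'map]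
    let K := Subgroup.normalizer (((elFam H p).jj (P' : Subgroup H) : Subgroup H) : Set H)
    let f : K →* ↥(H ⊓ Subgroup.normalizer (((elFam G p).jj (P : Subgroup G) : Subgroup G) : Set G)) :=
      { toFun := fun k => ⟨k.1.1, k.1.2, by
          have h1 := Subgroup.le_normalizer_map H.subtype ⟨k.1, k.2, rfl⟩
          rw [hz] at h1
          exact h1⟩
        map_one' := rfl
        map_mul' := fun _ _ => rfl }
    have hf : Function.Injective f := by
      intro a b h
      have h1 : a.1.1 = b.1.1 := congrArg (fun x => x.1) h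
      exact Subtype.ext (Subtype.ext h1)
    exact frobCond_of_injective f hf (frobCond_of_FC (hF₁.mono inf_le_right))
  · let K := Subgroup.centralizer ((zc (P' : Subgroup H) : Subgroup H) : Set H)
    let f : K →* ↥(H ⊓ Subgroup.centralizer ((zc (P : Subgroup G) : Subgroup G) : Set G)) :=
      { toFun := fun k => ⟨k.1.1, k.1.2, by
          refine Subgroup.mem_centralizer_iff.mpr ?_
          intro z hz
          have hzP' : (⟨z, hPH hz.1⟩ : H) ∈ zc (P' : Subgroup H) := by
            refine ⟨(hP' _).mpr hz.1, Subgroup.mem_centralizer_iff.mpr ?_⟩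
            intro u hu
            apply Subtype.ext
            exact (Subgroup.mem_centralizer_iff.mp hz.2) u.1 ((hP' u).mp hu)
          have h1 := (Subgroup.mem_centralizer_iff.mp k.2) _ hzP'
          exact congrArg Subtype.val h1⟩
        map_one' := rfl
        map_mul' := fun _ _ => rfl }
    have hf : Function.Injective f := by
      intro a b h
      have h1 : a.1.1 = b.1.1 := congrArg (fun x => x.1) h
      exact Subtype.ext (Subtype.ext h1)
    exact frobCond_of_injective f hf (frobCond_of_FC (hF₂.mono inf_le_right))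

/-- Normalizers of images under quotients by normal `p'`-subgroups. -/
theorem frobCond_norm_map {L W : Subgroup G} (hLn : L.Normal) (hLc : (Nat.card L).Coprime p)
    (hWp : IsPGroup p W) (hfc : FrobCond p (Subgroup.normalizer (W : Set G))) :
    haveI := hLn
    FrobCond p (Subgroup.normalizer ((W.map (QuotientGroup.mk' L) : Subgroup (G ⧸ L)) : Set (G ⧸ L))) := by
  haveI := hLn
  let π := QuotientGroup.mk' L
  have hπs : Function.Surjective π := QuotientGroup.mk'_surjective L
  have hπ1 : ∀ x : G, π x = 1 ↔ x ∈ L := fun x => QuotientGroup.eq_one_iff x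
  let f : Subgroup.normalizer (W : Set G) →* Subgroup.normalizer ((W.map π : Subgroup _) : Set _) :=
    { toFun := fun k => ⟨π k.1, Subgroup.le_normalizer_map π ⟨k.1, k.2, rfl⟩⟩
      map_one' := Subtype.ext (map_one π)
      map_mul' := fun a b => Subtype.ext (map_mul π a.1 b.1) }
  have hf : Function.Surjective f := by
    rintro ⟨gb, hgb⟩
    obtain ⟨g, rfl⟩ := hπs gb
    have hle : W.map (MulAut.conj g).toMonoidHom ≤ W ⊔ L := by
      rintro _ ⟨w, hw, rfl⟩
      have h1 : π (g * w * g⁻¹) ∈ W.map π := by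
        have := (Subgroup.mem_normalizer_iff.mp hgb (π w)).mp ⟨w, hw, rfl⟩
        simpa using this
      obtain ⟨w', hw', e⟩ := h1
      have h2 : w'⁻¹ * (g * w * g⁻¹) ∈ L := by
        rw [← hπ1, map_mul, map_inv, e, inv_mul_cancel]
      have e2 : g * w * g⁻¹ = w' * (w'⁻¹ * (g * w * g⁻¹)) := by group
      change g * w * g⁻¹ ∈ W ⊔ L
      rw [e2]
      exact Subgroup.mul_mem _ (Subgroup.mem_sup_left hw') (Subgroup.mem_sup_right h2)
    have hp2 : IsPGroup p (W.map (MulAut.conj g).toMonoidHom) := hWp.map _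
    obtain ⟨ℓ, hℓ, hle2⟩ := exists_conj_of_le_sup hWp hLn hLc hp2 hle
    have hmem : ℓ * g ∈ Subgroup.normalizer (W : Set G) := by
      apply mem_normalizer_of_map_conj_le
      rintro _ ⟨w, hw, rfl⟩
      have h3 : ℓ * (g * w * g⁻¹) * ℓ⁻¹ ∈ W := hle2 ⟨g * w * g⁻¹, ⟨w, hw, rfl⟩, rfl⟩
      have e3 : (ℓ * g) * w * (ℓ * g)⁻¹ = ℓ * (g * w * g⁻¹) * ℓ⁻¹ := by group
      change (ℓ * g) * w * (ℓ * g)⁻¹ ∈ W
      rw [e3]
      exact h3
    refine ⟨⟨ℓ * g, hmem⟩, ?_⟩
    apply Subtype.ext
    change π (ℓ * g) = π g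
    rw [map_mul, (hπ1 ℓ).mpr hℓ, one_mul]
  exact frobCond_of_surjective f hf hfc

/-- Centralizers of images under quotients by normal `p'`-subgroups. -/
theorem frobCond_cent_map {L W : Subgroup G} (hLn : L.Normal) (hLc : (Nat.card L).Coprime p)
    (hWp : IsPGroup p W) (hfc : FrobCond p (Subgroup.centralizer (W : Set G))) :
    haveI := hLn
    FrobCond p (Subgroup.centralizer ((W.map (QuotientGroup.mk' L) : Subgroup (G ⧸ L)) : Set (G ⧸ L))) := by
  haveI := hLn
  let π := QuotientGroup.mk' L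
  have hπs : Function.Surjective π := QuotientGroup.mk'_surjective L
  have hπ1 : ∀ x : G, π x = 1 ↔ x ∈ L := fun x => QuotientGroup.eq_one_iff x
  let f : Subgroup.centralizer (W : Set G) →* Subgroup.centralizer ((W.map π : Subgroup _) : Set _) :=
    { toFun := fun k => ⟨π k.1, by
        rw [Subgroup.mem_centralizer_iff]
        rintro _ ⟨w, hw, rfl⟩
        have := (Subgroup.mem_centralizer_iff.mp k.2) w hw
        show π w * π k.1 = π k.1 * π w
        rw [← map_mul, ← map_mul, this]⟩
      map_one' := Subtype.ext (map_one π)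
      map_mul' := fun a b => Subtype.ext (map_mul π a.1 b.1) }
  have hf : Function.Surjective f := by
    rintro ⟨gb, hgb⟩
    obtain ⟨g, rfl⟩ := hπs gb
    have hcomm : ∀ w ∈ W, w⁻¹ * (g * w * g⁻¹) ∈ L := by
      intro w hw
      have h1 := (Subgroup.mem_centralizer_iff.mp hgb) (π w) ⟨w, hw, rfl⟩
      rw [← hπ1, map_mul, map_inv, map_mul, map_mul, map_inv]
      show (π w)⁻¹ * (π g * π w * (π g)⁻¹) = 1
      have h2 : π w * π g = π g * π w := h1
      rw [← h2]
      group
    have hle : W.map (MulAut.conj g).toMonoidHom ≤ W ⊔ L := by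
      rintro _ ⟨w, hw, rfl⟩
      have e2 : g * w * g⁻¹ = w * (w⁻¹ * (g * w * g⁻¹)) := by group
      change g * w * g⁻¹ ∈ W ⊔ L
      rw [e2]
      exact Subgroup.mul_mem _ (Subgroup.mem_sup_left hw) (Subgroup.mem_sup_right (hcomm w hw))
    have hp2 : IsPGroup p (W.map (MulAut.conj g).toMonoidHom) := hWp.map _
    obtain ⟨ℓ, hℓ, hle2⟩ := exists_conj_of_le_sup hWp hLn hLc hp2 hle
    have hmem : ℓ * g ∈ Subgroup.centralizer (W : Set G) := by
      rw [Subgroup.mem_centralizer_iff]
      intro w hw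
      have h3 : ℓ * (g * w * g⁻¹) * ℓ⁻¹ ∈ W := hle2 ⟨g * w * g⁻¹, ⟨w, hw, rfl⟩, rfl⟩
      have h4 : w⁻¹ * (ℓ * (g * w * g⁻¹) * ℓ⁻¹) ∈ L := by
        have h5 := hcomm w hw
        have h6 : ℓ * (g * w * g⁻¹) * ℓ⁻¹ * (g * w * g⁻¹)⁻¹ ∈ L := by
          have e : ℓ * (g * w * g⁻¹) * ℓ⁻¹ * (g * w * g⁻¹)⁻¹ =
              ℓ * ((g * w * g⁻¹) * ℓ⁻¹ * (g * w * g⁻¹)⁻¹) := by group
          rw [e]
          exact L.mul_mem hℓ (hLn.conj_mem _ (L.inv_mem hℓ) _)
        have e : w⁻¹ * (ℓ * (g * w * g⁻¹) * ℓ⁻¹) =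
            (w⁻¹ * (g * w * g⁻¹)) * ((g * w * g⁻¹)⁻¹ * (ℓ * (g * w * g⁻¹) * ℓ⁻¹ * (g * w * g⁻¹)⁻¹) * (g * w * g⁻¹)) := by
          group
        rw [e]
        refine L.mul_mem h5 ?_
        have := hLn.conj_mem _ h6 (g * w * g⁻¹)⁻¹
        simpa using this
      have h5 : w⁻¹ * (ℓ * (g * w * g⁻¹) * ℓ⁻¹) = 1 := by
        obtain ⟨k, hk⟩ := hWp ⟨_, W.mul_mem (W.inv_mem hw) h3⟩
        exact eq_one_of_mem_coprime h4 hLc (congrArg Subtype.val hk)
      have h6 : ℓ * (g * w * g⁻¹) * ℓ⁻¹ = w := by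
        rw [inv_mul_eq_one] at h5
        exact h5.symm
      have h7 : (ℓ * g) * w * (ℓ * g)⁻¹ = w := by
        have e3 : (ℓ * g) * w * (ℓ * g)⁻¹ = ℓ * (g * w * g⁻¹) * ℓ⁻¹ := by group
        rw [e3, h6]
      calc w * (ℓ * g) = ((ℓ * g) * w * (ℓ * g)⁻¹) * (ℓ * g) := by rw [h7]
        _ = (ℓ * g) * w := by group
    refine ⟨⟨ℓ * g, hmem⟩, ?_⟩
    apply Subtype.ext
    change π (ℓ * g) = π g
    rw [map_mul, (hπ1 ℓ).mpr hℓ, one_mul]
  exact frobCond_of_surjective f hf hfc

/-- The quotient by a normal `p'`-subgroup. -/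
theorem th_pprime (hIH : ThStmt.{u} p (Nat.card G)) (P : Sylow p G)
    (hF₁ : FrobCond p (Subgroup.normalizer (((elFam G p).jj (P : Subgroup G) : Subgroup G) : Set G)))
    (hF₂ : FrobCond p (Subgroup.centralizer ((zc (P : Subgroup G) : Subgroup G) : Set G)))
    {L : Subgroup G} (hLn : L.Normal) (hLc : (Nat.card L).Coprime p) (hne : L ≠ ⊥) : FrobCond p G := by
  classical
  haveI := hLn
  let π := QuotientGroup.mk' L
  have hπs : Function.Surjective π := QuotientGroup.mk'_surjective L
  have hπ1 : ∀ x : G, π x = 1 ↔ x ∈ L := fun x => QuotientGroup.eq_one_iff x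
  apply frobCond_lift_pprime hLc
  have hcardlt : Nat.card (G ⧸ L) < Nat.card G := by
    have h1 : Nat.card G = Nat.card (G ⧸ L) * Nat.card L := Subgroup.card_eq_card_quotient_mul_card_subgroup L
    have h2 : 1 < Nat.card L := by
      rw [Subgroup.one_lt_card_iff_ne_bot]
      exact hne
    have h3 : 0 < Nat.card (G ⧸ L) := Nat.card_pos
    rw [h1]
    nlinarith
  have hPp := P.isPGroup'
  have hinj : ∀ x ∈ (P : Subgroup G), π x = 1 → x = 1 := by
    intro x hx h
    obtain ⟨k, hk⟩ := hPp ⟨x, hx⟩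
    exact eq_one_of_mem_coprime ((hπ1 x).mp h) hLc (congrArg Subtype.val hk)
  let Pb : Sylow p (G ⧸ L) := P.mapSurjective hπs
  have hPb : (Pb : Subgroup (G ⧸ L)) = (P : Subgroup G).map π := Sylow.coe_mapSurjective hπs P
  refine hIH (G ⧸ L) hcardlt Pb ?_ ?_
  · rw [hPb, jj_map p π (P : Subgroup G) hinj]
    exact frobCond_norm_map hLn hLc (hPp.to_le (jj_le _)) hF₁
  · have hz : zc (Pb : Subgroup (G ⧸ L)) = (zc (P : Subgroup G)).map π := by
      rw [hPb]
      apply le_antisymm
      · rintro _ ⟨⟨x, hx, rfl⟩, h2⟩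
        refine ⟨x, ⟨hx, Subgroup.mem_centralizer_iff.mpr ?_⟩, rfl⟩
        intro u hu
        have h3 := (Subgroup.mem_centralizer_iff.mp h2) (π u) ⟨u, hu, rfl⟩
        have h4 : u * x * (x * u)⁻¹ = 1 := hinj _
          ((P : Subgroup G).mul_mem ((P : Subgroup G).mul_mem hu hx)
            ((P : Subgroup G).inv_mem ((P : Subgroup G).mul_mem hx hu))) (by
            rw [map_mul, map_inv, map_mul, map_mul]
            show π u * π x * (π x * π u)⁻¹ = 1
            have h5 : π u * π x = π x * π u := h3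
            rw [h5, mul_inv_cancel])
        exact mul_inv_eq_one.mp h4
      · rintro _ ⟨x, ⟨hx, h2⟩, rfl⟩
        refine ⟨⟨x, hx, rfl⟩, Subgroup.mem_centralizer_iff.mpr ?_⟩
        rintro _ ⟨u, hu, rfl⟩
        have h3 := (Subgroup.mem_centralizer_iff.mp h2) u hu
        show π u * π x = π x * π u
        rw [← map_mul, ← map_mul, h3]
    rw [hz]
    exact frobCond_cent_map hLn hLc (hPp.to_le inf_le_left) hF₂

/-- An element all of whose `p`-power and `p'`-power parts lie in `K` lies in `K`. -/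
lemma mem_of_parts {K : Subgroup G} {x : G}
    (h1 : ∀ y ∈ Subgroup.zpowers x, (orderOf y).Coprime p → y ∈ K)
    (h2 : ∀ y ∈ Subgroup.zpowers x, ∀ k : ℕ, y ^ p ^ k = 1 → y ∈ K) : x ∈ K := by
  obtain ⟨a, ha⟩ := exists_pprime_part (p := p) x
  set m := orderOf (x ^ p ^ a) with hm
  have hy1 : x ^ p ^ a ∈ K := h1 _ (Subgroup.npow_mem_zpowers _ _) ha
  have hy2 : x ^ m ∈ K := by
    apply h2 _ (Subgroup.npow_mem_zpowers _ _) a
    rw [← pow_mul, mul_comm, pow_mul, hm, pow_orderOf_eq_one]
  have hco : (p ^ a).Coprime m := Nat.Coprime.pow_left a ha.symm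
  have hg := Nat.gcd_eq_gcd_ab (p ^ a) m
  rw [hco.gcd_eq_one] at hg
  have e : x = (x ^ p ^ a) ^ (Nat.gcdA (p ^ a) m) * (x ^ m) ^ (Nat.gcdB (p ^ a) m) := by
    rw [← zpow_natCast, ← zpow_natCast, ← zpow_mul, ← zpow_mul, ← zpow_add]
    have : ((p ^ a : ℕ) : ℤ) * Nat.gcdA (p ^ a) m + (m : ℤ) * Nat.gcdB (p ^ a) m = 1 := by
      rw [← hg]
      simp
    rw [this, zpow_one]
  rw [e]
  exact K.mul_mem (K.zpow_mem hy1 _) (K.zpow_mem hy2 _)

/-- One step of the induction. -/
theorem th_step (hp2 : p ≠ 2) (hIH : ThStmt.{u} p (Nat.card G)) (P : Sylow p G)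
    (hF₁' : FrobCond p (Subgroup.normalizer (((elFam G p).jj (P : Subgroup G) : Subgroup G) : Set G)))
    (hF₂' : FrobCond p (Subgroup.centralizer ((zc (P : Subgroup G) : Subgroup G) : Set G))) : FrobCond p G := by
  classical
  have hp : p.Prime := Fact.out
  by_contra hnot
  have hF₁ := FC_of_frobCond hF₁'
  have hF₂ := FC_of_frobCond hF₂'
  have hnotTop : ¬ FC p (⊤ : Subgroup G) := fun h => hnot (FC_top_iff.mp h)
  have hPne : (P : Subgroup G) ≠ ⊥ := by
    intro hPbot
    apply hnot
    intro T hT g _ _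
    obtain ⟨P₁, hP₁⟩ := hT.exists_le_sylow
    have h1 : Nat.card (P₁ : Subgroup G) = Nat.card (P : Subgroup G) :=
      P₁.card_eq_multiplicity.trans P.card_eq_multiplicity.symm
    rw [hPbot, Subgroup.card_bot] at h1
    have h2 : (P₁ : Subgroup G) = ⊥ := Subgroup.card_eq_one.mp h1
    rw [Subgroup.mem_centralizer_iff]
    intro t ht
    have h3 := hP₁ ht
    rw [h2, Subgroup.mem_bot] at h3
    rw [h3, one_mul, mul_one]
  -- no normal `p'`-subgroups
  have hL : ∀ L : Subgroup G, L.Normal → (Nat.card L).Coprime p → L = ⊥ := by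
    intro L hLn hLc
    by_contra hne
    exact hnot (th_pprime hIH P hF₁' hF₂' hLn hLc hne)
  have hclosedP : IsStronglyClosed (P : Subgroup G) (P : Subgroup G) := ⟨le_rfl, fun _ _ _ h => h⟩
  -- `Ω₁(Z(J_e(P)))` is normal
  have hWn : ((elFam G p).zz (P : Subgroup G)).Normal := by
    by_contra hnn
    have hNne : NN ((elFam G p).zz (P : Subgroup G)) ≠ ⊤ :=
      fun h => hnn (Subgroup.normalizer_eq_top_iff.mp h)
    have hPN : (P : Subgroup G) ≤ NN ((elFam G p).zz (P : Subgroup G)) :=
      fun u hu => by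
        have hself := sylow_le_normalizer_of_closed hclosedP hu
        rw [NN, Subgroup.mem_normalizer_iff]
        intro x
        constructor
        · exact fun hx => zz_conj hself hx
        · intro hx
          have := zz_conj (Subgroup.inv_mem _ hself) hx
          simpa [mul_assoc] using this
    have hfc := th_sub hIH hNne hPN hF₁ hF₂
    exact hnot (gt_all hp2 (Or.inr rfl) (Nat.card G + 1) G (by omega) P (P : Subgroup G) hclosedP
      (frobCond_of_FC hfc))
  set Q := Cfsg.pCore p G with hQ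
  have hQn : Q.Normal := Cfsg.Agent.H01.pCore_normal p
  have hQp : IsPGroup p Q := Cfsg.Agent.H01.pCore_isPGroup p
  have hQP : Q ≤ (P : Subgroup G) := Cfsg.Agent.H01.pCore_le_sylow p P
  have hQne : Q ≠ ⊥ := by
    have h1 : (elFam G p).zz (P : Subgroup G) ≤ Q :=
      Cfsg.Agent.H01.le_pCore hWn (P.isPGroup'.to_le ((zz_le_jj _).trans (jj_le _)))
    intro h
    rw [h] at h1
    exact zz_ne_bot (p := p) p (Or.inr rfl) P.isPGroup' hPne (le_bot_iff.mp h1)
  have hNQ : NN Q = ⊤ := Subgroup.normalizer_eq_top_iff.mpr hQn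
  -- larger subgroups normalized by `P`
  have hK : ∀ R : Subgroup G, Q < R → R ≤ (P : Subgroup G) → (P : Subgroup G) ≤ NN R → FC p (NN R) := by
    intro R hQR hRP hPR
    have hne : NN R ≠ ⊤ := by
      intro h
      have h1 : R.Normal := Subgroup.normalizer_eq_top_iff.mp h
      have h2 : R ≤ Q := Cfsg.Agent.H01.le_pCore h1 (P.isPGroup'.to_le hRP)
      exact absurd h2 (not_le_of_gt hQR)
    exact th_sub hIH hne hPR hF₁ hF₂
  -- the quotient
  haveI := hQn
  let π := QuotientGroup.mk' Q
  have hπs : Function.Surjective π := QuotientGroup.mk'_surjective Q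
  have hπ1 : ∀ x : G, π x = 1 ↔ x ∈ Q := fun x => QuotientGroup.eq_one_iff x
  have hkerπ : (⊥ : Subgroup (G ⧸ Q)).comap π = Q := by
    ext x
    rw [Subgroup.mem_comap, Subgroup.mem_bot]
    exact hπ1 x
  have hQcomap : ∀ K : Subgroup (G ⧸ Q), Q ≤ K.comap π := by
    intro K x hx
    rw [Subgroup.mem_comap, (hπ1 x).mpr hx]
    exact K.one_mem
  let Pb : Sylow p (G ⧸ Q) := P.mapSurjective hπs
  have hPb : (Pb : Subgroup (G ⧸ Q)) = (P : Subgroup G).map π := Sylow.coe_mapSurjective hπs P
  have hcardlt : Nat.card (G ⧸ Q) < Nat.card G := by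
    have h1 : Nat.card G = Nat.card (G ⧸ Q) * Nat.card Q := Subgroup.card_eq_card_quotient_mul_card_subgroup Q
    have h2 : 1 < Nat.card Q := by
      rw [Subgroup.one_lt_card_iff_ne_bot]
      exact hQne
    have h3 : 0 < Nat.card (G ⧸ Q) := Nat.card_pos
    rw [h1]
    nlinarith
  have hPcomap : (P : Subgroup G) = ((Pb : Subgroup (G ⧸ Q))).comap π := by
    apply le_antisymm
    · intro u hu
      rw [Subgroup.mem_comap, hPb]
      exact ⟨u, hu, rfl⟩
    · intro u hu
      rw [Subgroup.mem_comap, hPb] at hu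
      obtain ⟨v, hv, e⟩ := hu
      have h1 : v⁻¹ * u ∈ Q := by
        rw [← hπ1, map_mul, map_inv, e, inv_mul_cancel]
      have h2 := Subgroup.mul_mem _ hv (hQP h1)
      simpa using h2
  -- subgroups of the quotient
  have hKb : ∀ Kb : Subgroup (G ⧸ Q), Kb ≠ ⊥ → Kb ≤ (Pb : Subgroup (G ⧸ Q)) →
      (Pb : Subgroup (G ⧸ Q)) ≤ Subgroup.normalizer (Kb : Set (G ⧸ Q)) →
      FrobCond p (Subgroup.normalizer (Kb : Set (G ⧸ Q))) := by
    intro Kb hZ hZbPb hPbN
    let R : Subgroup G := Kb.comap π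
    have hQR : Q < R := by
      refine lt_of_le_of_ne (hQcomap Kb) ?_
      intro h
      apply hZ
      apply Subgroup.comap_injective hπs
      exact h.symm.trans hkerπ.symm
    have hRP : R ≤ (P : Subgroup G) := by
      rw [hPcomap]
      exact Subgroup.comap_mono hZbPb
    have hNR : NN R = (NN Kb).comap π := (Subgroup.comap_normalizer_eq_of_surjective Kb hπs).symm
    have hPR : (P : Subgroup G) ≤ NN R := by
      rw [hNR]
      intro u hu
      have h1 : π u ∈ (Pb : Subgroup (G ⧸ Q)) := by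
        rw [hPb]
        exact ⟨u, hu, rfl⟩
      exact hPbN h1
    have hRfc := hK R hQR hRP hPR
    let f : NN R →* NN Kb :=
      { toFun := fun k => ⟨π k.1, hNR.le k.2⟩
        map_one' := Subtype.ext (map_one π)
        map_mul' := fun a b => Subtype.ext (map_mul π a.1 b.1) }
    have hf : Function.Surjective f := by
      rintro ⟨gb, hgb⟩
      obtain ⟨g, rfl⟩ := hπs gb
      have hg : g ∈ NN R := by
        rw [hNR]
        exact hgb
      exact ⟨⟨g, hg⟩, rfl⟩
    exact frobCond_of_surjective f hf (frobCond_of_FC hRfc)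
  have hFrobQuot : FrobCond p (G ⧸ Q) := by
    by_cases hPbbot : (Pb : Subgroup (G ⧸ Q)) = ⊥
    · -- a `p'`-group
      intro T hT g _ _
      obtain ⟨P₁, hP₁⟩ := hT.exists_le_sylow
      have h1 : Nat.card (P₁ : Subgroup (G ⧸ Q)) = Nat.card (Pb : Subgroup (G ⧸ Q)) :=
        P₁.card_eq_multiplicity.trans Pb.card_eq_multiplicity.symm
      rw [hPbbot, Subgroup.card_bot] at h1
      have h2 : (P₁ : Subgroup (G ⧸ Q)) = ⊥ := Subgroup.card_eq_one.mp h1
      rw [Subgroup.mem_centralizer_iff]
      intro t ht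
      have h3 := hP₁ ht
      rw [h2, Subgroup.mem_bot] at h3
      rw [h3, one_mul, mul_one]
    · have hclosed : IsStronglyClosed (Pb : Subgroup (G ⧸ Q)) (Pb : Subgroup (G ⧸ Q)) :=
        ⟨le_rfl, fun _ _ _ h => h⟩
      have hselfN := sylow_le_normalizer_of_closed hclosed
      refine hIH (G ⧸ Q) hcardlt Pb ?_ ?_
      · refine hKb _ ?_ (jj_le _) ?_
        · intro h
          have h1 := zz_ne_bot (p := p) p (Or.inr rfl) Pb.isPGroup' hPbbot
          apply h1
          rw [eq_bot_iff, ← h]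
          exact zz_le_jj _
        · intro u hu
          rw [Subgroup.mem_normalizer_iff]
          intro x
          constructor
          · exact fun hx => jj_conj (hselfN hu) hx
          · intro hx
            have := jj_conj (Subgroup.inv_mem _ (hselfN hu)) hx
            simpa [mul_assoc] using this
      · -- the centralizer of the centre
        have hzne : zc (Pb : Subgroup (G ⧸ Q)) ≠ ⊥ := by
          haveI : Nontrivial (Pb : Subgroup (G ⧸ Q)) := (Subgroup.nontrivial_iff_ne_bot _).mpr hPbbot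
          have hc := Pb.isPGroup'.center_nontrivial
          obtain ⟨⟨z, hz⟩, hz1⟩ := exists_ne (1 : Subgroup.center (Pb : Subgroup (G ⧸ Q)))
          intro h
          apply hz1
          have hmem : (z : G ⧸ Q) ∈ zc (Pb : Subgroup (G ⧸ Q)) := by
            refine ⟨z.2, Subgroup.mem_centralizer_iff.mpr ?_⟩
            intro j hj
            have := (Subgroup.mem_center_iff.mp hz) ⟨j, hj⟩
            exact congrArg Subtype.val this
          rw [h, Subgroup.mem_bot] at hmem
          apply Subtype.ext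
          apply Subtype.ext
          exact hmem
        have hzN := hKb _ hzne inf_le_left (by
          intro u hu
          apply mem_normalizer_of_map_conj_le
          rintro _ ⟨z, hz, rfl⟩
          change u * z * u⁻¹ ∈ zc (Pb : Subgroup (G ⧸ Q))
          have h2 : u * z = z * u := (Subgroup.mem_centralizer_iff.mp hz.2) u hu
          have e : z * u * u⁻¹ = z := by group
          rw [h2, e]
          exact hz)
        have hle : Subgroup.centralizer ((zc (Pb : Subgroup (G ⧸ Q)) : Subgroup (G ⧸ Q)) : Set (G ⧸ Q)) ≤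
            Subgroup.normalizer ((zc (Pb : Subgroup (G ⧸ Q)) : Subgroup (G ⧸ Q)) : Set (G ⧸ Q)) :=
          Subgroup.centralizer_le_normalizer _
        exact frobCond_of_injective (Subgroup.inclusion hle) (Subgroup.inclusion_injective hle) hzN
  -- the normal complement
  obtain ⟨Nb, hNbn, hNbc, k, hk⟩ := npc_iff.mp (hasNormalPComplement_of_frobCond hFrobQuot)
  let X : Subgroup G := Nb.comap π
  have hXn : X.Normal := hNbn.comap π
  have hQX : Q ≤ X := hQcomap Nb
  have hXidx : X.index = p ^ k := by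
    rw [← hk]
    exact Subgroup.index_comap_of_surjective Nb hπs
  have hXm : ∀ x ∈ X, x ^ Nat.card Nb ∈ Q := by
    intro x hx
    rw [← hπ1, map_pow]
    have := pow_card_eq_one' (G := Nb) (x := ⟨π x, hx⟩)
    exact congrArg Subtype.val this
  have hXP : X ⊔ (P : Subgroup G) = ⊤ := by
    have h1 : (X ⊔ (P : Subgroup G)).index ∣ p ^ k := by
      rw [← hXidx]
      exact Subgroup.index_dvd_of_le le_sup_left
    have h2 : (X ⊔ (P : Subgroup G)).index ∣ (P : Subgroup G).index :=
      Subgroup.index_dvd_of_le le_sup_right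
    obtain ⟨j, -, hj⟩ := (Nat.dvd_prime_pow hp).mp h1
    rcases j with _ | j
    · rw [pow_zero] at hj
      exact Subgroup.index_eq_one.mp hj
    · exfalso
      apply P.not_dvd_index
      refine dvd_trans ?_ h2
      rw [hj]
      exact dvd_pow_self p (by omega)
  have hXpel : ∀ x ∈ X, ∀ j : ℕ, x ^ p ^ j = 1 → x ∈ Q := by
    intro x hx j hj
    rw [← hπ1]
    have h1 : π x ∈ Nb := hx
    exact eq_one_of_mem_coprime h1 hNbc (by rw [← map_pow, hj, map_one])
  -- `C_G(Q) ≤ Q`
  have hC₁ : Subgroup.centralizer (Q : Set G) ⊓ X ≤ Q := by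
    have hCn : (Subgroup.centralizer (Q : Set G) ⊓ X).Normal := by
      haveI : (Subgroup.centralizer (Q : Set G)).Normal := Subgroup.normal_centralizer
      haveI := hXn
      infer_instance
    have hFC₁ : FC p (Subgroup.centralizer (Q : Set G) ⊓ X) := by
      intro T hT hTC g hg _ _
      rw [Subgroup.mem_centralizer_iff]
      intro t ht
      have h1 : t ∈ Q := by
        obtain ⟨j, hj⟩ := hT ⟨t, ht⟩
        exact hXpel t (hTC ht).2 j (congrArg Subtype.val hj)
      exact (Subgroup.mem_centralizer_iff.mp hg.1) t h1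
    have hpg := isPGroup_of_FC_normal hCn hFC₁ hL
    exact Cfsg.Agent.H01.le_pCore hCn hpg
  have hcQ : Subgroup.centralizer (Q : Set G) ≤ Q := by
    haveI : (Subgroup.centralizer (Q : Set G)).Normal := Subgroup.normal_centralizer
    apply Cfsg.Agent.H01.le_pCore inferInstance
    rintro ⟨g, hg⟩
    obtain ⟨a, ha⟩ := exists_pprime_part (p := p) g
    have h1 : (g ^ p ^ a) ^ p ^ k ∈ X := by
      rw [← hXidx]
      exact Subgroup.pow_index_mem X _
    have h2 : g ^ p ^ a ∈ X := mem_of_pow_mem_coprime h1 (Nat.Coprime.pow_left k ha.symm)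
    have h3 : g ^ p ^ a ∈ Q := hC₁ ⟨Subgroup.pow_mem _ hg _, h2⟩
    obtain ⟨j, hj⟩ := hQp ⟨_, h3⟩
    have h4 : g ^ p ^ a = 1 := eq_one_of_coprime_order (congrArg Subtype.val hj) ha
    exact ⟨a, Subtype.ext h4⟩
  -- irreducibility
  have hirr : ∀ X₁ : Subgroup G, Q ≤ X₁ → X₁ ≤ X → (P : Subgroup G) ≤ NN X₁ → X₁ = Q ∨ X₁ = X := by
    intro X₁ hQX₁ hX₁X hPX₁
    by_cases hEq : X₁ = X
    · exact Or.inr hEq
    left
    let G₁ : Subgroup G := (P : Subgroup G) ⊔ X₁
    have hG₁ : G₁ ≠ ⊤ := by
      intro htop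
      apply hEq
      apply le_antisymm hX₁X
      intro x hx
      have h1 : x ∈ (G₁ : Set G) := by
        rw [htop]
        trivial
      rw [Subgroup.coe_mul_of_left_le_normalizer_right _ _ hPX₁] at h1
      obtain ⟨u, hu, x₁, hx₁, rfl⟩ := Set.mem_mul.mp h1
      have hu' : u ∈ X := by
        have h2 := X.mul_mem hx (X.inv_mem (hX₁X hx₁))
        simpa using h2
      have hu'' : u ∈ Q := by
        obtain ⟨j, hj⟩ := P.isPGroup' ⟨u, hu⟩
        exact hXpel u hu' j (congrArg Subtype.val hj)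
      exact X₁.mul_mem (hQX₁ hu'') hx₁
    have hPG₁ : (P : Subgroup G) ≤ G₁ := le_sup_left
    have hidx : ¬ p ∣ (P : Subgroup G).relIndex G₁ := by
      intro h
      apply P.not_dvd_index
      have h1 : (P : Subgroup G).relIndex G₁ * G₁.index = (P : Subgroup G).index :=
        Subgroup.relIndex_mul_index hPG₁
      rw [← h1]
      exact h.mul_right _
    have hG₁fc : FC p G₁ := by
      exact th_sub hIH hG₁ hPG₁ hF₁ hF₂
    apply le_antisymm _ hQX₁
    intro x hx
    obtain ⟨a, ha⟩ := exists_pprime_part (p := p) x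
    have h1 : x ^ p ^ a ∈ X₁ := X₁.pow_mem hx _
    have h2 : x ^ p ^ a ∈ Subgroup.centralizer (Q : Set G) :=
      hG₁fc Q hQp (hQX₁.trans le_sup_right) _ (Subgroup.mem_sup_right h1)
        (hNQ.ge (Subgroup.mem_top _)) ha
    have h3 : x ^ p ^ a ∈ Q := hcQ h2
    obtain ⟨j, hj⟩ := hQp ⟨_, h3⟩
    have h4 : x ^ p ^ a = 1 := eq_one_of_coprime_order (congrArg Subtype.val hj) ha
    exact hXpel x (hX₁X hx) a h4
  have hXneQ : X ≠ Q := by
    intro h
    apply hnot
    have h1 : X ≤ (P : Subgroup G) := by rw [h]; exact hQP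
    have h2 : (P : Subgroup G) = ⊤ := by
      rw [← hXP, sup_eq_right.mpr h1]
    intro T _ g _ hgc
    have hg : g = 1 := by
      obtain ⟨j, hj⟩ := P.isPGroup' ⟨g, by rw [h2]; trivial⟩
      exact eq_one_of_coprime_order (congrArg Subtype.val hj) hgc
    rw [hg]
    exact Subgroup.one_mem _
  have hNbne : Nb ≠ ⊥ := by
    rintro rfl
    apply hXneQ
    exact hkerπ
  -- the complement is abelian
  have hNbab := abelian_of_irreducible Pb hNbn hNbc hNbne (by
    intro K hKN hPbK
    have hcom : NN (K.comap π) = (NN K).comap π := (Subgroup.comap_normalizer_eq_of_surjective K hπs).symm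
    have h1 : (P : Subgroup G) ≤ NN (K.comap π) := by
      rw [hcom]
      intro u hu
      rw [Subgroup.mem_comap]
      apply hPbK
      rw [hPb]
      exact ⟨u, hu, rfl⟩
    rcases hirr (K.comap π) (hQcomap K) (Subgroup.comap_mono hKN) h1 with h | h
    · left
      apply Subgroup.comap_injective hπs
      exact h.trans hkerπ.symm
    · right
      exact Subgroup.comap_injective hπs h)
  have hXQ : ∀ a ∈ X, ∀ b ∈ X, a * b * a⁻¹ * b⁻¹ ∈ Q := by
    intro a ha b hb
    rw [← hπ1]
    have h1 := hNbab (π a) ha (π b) hb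
    simp only [map_mul, map_inv]
    rw [h1]
    group
  have hst : NormalStable p (P : Subgroup G) :=
    normalStable_of_struct P hp2 hXn hQX hXQ hNbc hXm hXP ⟨k, hXidx⟩ (fun X₁ hX₁n h1 h2 =>
      hirr X₁ h1 h2 (by
        rw [NN, Subgroup.normalizer_eq_top_iff.mpr hX₁n]
        exact le_top))
  -- `Ω₁(Z(Q))`
  let V₁ : Subgroup G :=
    { carrier := {x | x ∈ Q ∧ (∀ y ∈ Q, x * y = y * x) ∧ x ^ p = 1}
      mul_mem' := by
        rintro a b ⟨ha, ha', ha''⟩ ⟨hb, hb', hb''⟩
        refine ⟨Q.mul_mem ha hb, ?_, ?_⟩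
        · intro y hy
          rw [mul_assoc, hb' y hy, ← mul_assoc, ha' y hy, mul_assoc]
        · have hc : Commute a b := ha' b hb
          rw [hc.mul_pow, ha'', hb'', one_mul]
      one_mem' := ⟨Q.one_mem, fun y _ => by simp, one_pow _⟩
      inv_mem' := by
        rintro a ⟨ha, ha', ha''⟩
        refine ⟨Q.inv_mem ha, fun y hy => ?_, by rw [inv_pow, ha'', inv_one]⟩
        have hc : Commute a y := ha' y hy
        exact hc.inv_left.eq }
  have hV₁Q : V₁ ≤ Q := fun x hx => hx.1
  have hV₁p : IsPGroup p V₁ := hQp.to_le hV₁Q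
  have hV₁n : V₁.Normal := by
    refine ⟨fun x hx g => ⟨hQn.conj_mem x hx.1 g, fun y hy => ?_, ?_⟩⟩
    · have hy' : g⁻¹ * y * g ∈ Q := by
        have := hQn.conj_mem y hy g⁻¹
        simpa using this
      have h1 := hx.2.1 _ hy'
      calc g * x * g⁻¹ * y = g * (x * (g⁻¹ * y * g)) * g⁻¹ := by group
        _ = g * ((g⁻¹ * y * g) * x) * g⁻¹ := by rw [h1]
        _ = _ := by group
    · rw [conj_pow, hx.2.2]
      group
  have hX₁ := hirr (X ⊓ Subgroup.centralizer (V₁ : Set G)) (le_inf hQX (by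
      intro q hq
      rw [Subgroup.mem_centralizer_iff]
      intro v hv
      exact hv.2.1 q hq)) inf_le_left (by
      haveI : (Subgroup.centralizer (V₁ : Set G)).Normal := Subgroup.normal_centralizer
      haveI := hXn
      have : (X ⊓ Subgroup.centralizer (V₁ : Set G)).Normal := inferInstance
      rw [NN, Subgroup.normalizer_eq_top_iff.mpr this]
      exact le_top)
  rcases hX₁ with hX₁ | hX₁
  · -- `C_X(V₁) = Q`: all members of largest order lie in `Q`
    have hCV : Subgroup.centralizer (V₁ : Set G) ≤ Q := by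
      haveI : (Subgroup.centralizer (V₁ : Set G)).Normal := Subgroup.normal_centralizer
      apply Cfsg.Agent.H01.le_pCore inferInstance
      rintro ⟨g, hg⟩
      obtain ⟨a, ha⟩ := exists_pprime_part (p := p) g
      have h1 : (g ^ p ^ a) ^ p ^ k ∈ X := by
        rw [← hXidx]
        exact Subgroup.pow_index_mem X _
      have h2 : g ^ p ^ a ∈ X := mem_of_pow_mem_coprime h1 (Nat.Coprime.pow_left k ha.symm)
      have h3 : g ^ p ^ a ∈ Q := by
        rw [← hX₁]
        exact ⟨h2, Subgroup.pow_mem _ hg _⟩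
      obtain ⟨j, hj⟩ := hQp ⟨_, h3⟩
      have h4 : g ^ p ^ a = 1 := eq_one_of_coprime_order (congrArg Subtype.val hj) ha
      exact ⟨a, Subtype.ext h4⟩
    obtain ⟨T, hTn, hCT, ⟨m, hm⟩, hTq⟩ := hst V₁ hV₁p hV₁n
    have hTp : IsPGroup p T := by
      haveI : ((Subgroup.centralizer (V₁ : Set G)).subgroupOf T).Normal :=
        (Subgroup.normal_centralizer).subgroupOf T
      have hC1p : IsPGroup p (Subgroup.centralizer (V₁ : Set G)) := hQp.to_le hCV
      obtain ⟨b, hb⟩ := IsPGroup.iff_card.mp hC1p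
      apply IsPGroup.of_card (n := m + b)
      have h1 := H18.card_inf_mul_relIndex (Subgroup.centralizer (V₁ : Set G)) T
      rw [inf_of_le_left hCT, hm, hb] at h1
      rw [← h1, pow_add, mul_comm]
    have hTQ : T ≤ Q := Cfsg.Agent.H01.le_pCore hTn hTp
    set Fm := elFam G p with hFm
    have hDp : IsPGroup p (P : Subgroup G) := P.isPGroup'
    have hclaim : ∀ A ∈ Fm.mx (P : Subgroup G), V₁ ≤ A := by
      by_contra hcon
      push Not at hcon
      obtain ⟨A₀, hA₀, hA₀B⟩ := hcon
      have hfinS : Set.Finite {A : Subgroup G | A ∈ Fm.mx (P : Subgroup G) ∧ ¬ V₁ ≤ A} := Set.toFinite _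
      obtain ⟨A, ⟨hA, hAB⟩, hAmax⟩ := Set.exists_max_image _
        (fun A : Subgroup G => Nat.card ↥(A ⊓ V₁)) hfinS ⟨A₀, hA₀, hA₀B⟩
      have hAab : ∀ a ∈ A, ∀ b ∈ A, a * b = b * a := Fm.F_ab A hA.2.1
      have hAcomm : IsMulCommutative A :=
        ⟨⟨fun a b => Subtype.ext (hAab a a.2 b b.2)⟩⟩
      have hQ' : IsPGroup p ↥(A ⊔ V₁) := hDp.to_le (sup_le hA.1 (hV₁Q.trans hQP))
      have hV₁ab : ⁅V₁, V₁⁆ = ⊥ := by
        rw [eq_bot_iff, Subgroup.commutator_le]
        intro a ha b hb
        rw [Subgroup.mem_bot, commutatorElement_eq_one_iff_mul_comm]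
        exact ha.2.1 b hb.1
      have hBnorm : V₁ ≤ Subgroup.normalizer (A : Set G) := by
        by_contra hn
        obtain ⟨Astar, h1, h2, h3, h4, h5, -, h6, -⟩ := replacement hp2 A V₁ hQ' hAcomm
          (by rw [hV₁ab]; exact Subgroup.commutator_bot_left _) (by rw [hV₁ab]; exact bot_le)
          (by rw [Subgroup.normalizer_eq_top_iff.mpr hV₁n]; exact le_top) hn
        have hAsD : Astar ≤ (P : Subgroup G) := h5.trans (sup_le hA.1 (hV₁Q.trans hQP))
        have hAsab : ∀ a ∈ Astar, ∀ b ∈ Astar, a * b = b * a := fun a ha b hb =>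
          congrArg Subtype.val (h1.is_comm.comm ⟨a, ha⟩ ⟨b, hb⟩)
        have hF : Fm.F Astar := by
          refine Fm.F_rep A Astar hA.2.1 hAsab ?_
          intro n hn a ha
          have h7 : Monoid.exponent A ∣ n := by
            apply Monoid.exponent_dvd_of_forall_pow_eq_one
            rintro ⟨x, hx⟩
            exact Subtype.ext (by simpa using hn x hx)
          have h8 : Monoid.exponent Astar ∣ n := h6.trans h7
          have h9 := Monoid.exponent_dvd_iff_forall_pow_eq_one.mp h8 ⟨a, ha⟩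
          exact congrArg Subtype.val h9
        have hmem : Astar ∈ Fm.mx (P : Subgroup G) :=
          ⟨hAsD, hF, fun B hB hFB => by rw [h2]; exact hA.2.2 B hB hFB⟩
        by_cases hB₁As : V₁ ≤ Astar
        · exact hn (hB₁As.trans h4)
        · have h7 := hAmax Astar ⟨hmem, hB₁As⟩
          have h8 : Nat.card ↥(A ⊓ V₁) < Nat.card ↥(Astar ⊓ V₁) :=
            lt_of_le_of_ne (Subgroup.card_le_of_le h3.le)
              (fun e => h3.ne (Subgroup.eq_of_le_of_card_ge h3.le e.ge))
          exact absurd h7 (not_le.mpr h8)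
      have hquad : ∀ a ∈ A, ⁅⁅V₁, Subgroup.zpowers a⁆, Subgroup.zpowers a⁆ = ⊥ := by
        intro a ha
        have h1 : ⁅V₁, Subgroup.zpowers a⁆ ≤ A := by
          rw [Subgroup.commutator_le]
          intro x hx y hy
          have hyA : y ∈ A := (Subgroup.zpowers_le.mpr ha) hy
          have h2 := (Subgroup.mem_normalizer_iff.mp (hBnorm hx) y).mp hyA
          rw [commutatorElement_def]
          exact A.mul_mem h2 (A.inv_mem hyA)
        rw [eq_bot_iff, Subgroup.commutator_le]
        intro x hx y hy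
        rw [Subgroup.mem_bot, commutatorElement_eq_one_iff_mul_comm]
        exact hAab x (h1 hx) y ((Subgroup.zpowers_le.mpr ha) hy)
      have hAT : A ≤ T := fun a ha => hTq a (hA.1 ha) (hquad a ha)
      apply hAB
      intro x hx
      refine mem_of_comm hA (hQP hx.1) hx.2.2 (fun a ha => ?_)
      exact (hx.2.1 a (hTQ (hAT ha))).symm
    have hallQ : ∀ A ∈ Fm.mx (P : Subgroup G), A ≤ Q := by
      intro A hA
      refine le_trans ?_ hCV
      intro a ha
      rw [Subgroup.mem_centralizer_iff]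
      intro x hx
      exact Fm.F_ab A hA.2.1 x (hclaim A hA hx) a ha
    have hmxeq : Fm.mx Q = Fm.mx (P : Subgroup G) := by
      ext Y
      constructor
      · intro hY
        obtain ⟨A, hA⟩ := Fm.exists_mx (P : Subgroup G)
        refine ⟨hY.1.trans hQP, hY.2.1, fun B hB hFB => ?_⟩
        exact (hA.2.2 B hB hFB).trans (hY.2.2 A (hallQ A hA) hA.2.1)
      · intro hY
        exact ⟨hallQ Y hY, hY.2.1, fun B hB hFB => hY.2.2 B (hB.trans hQP) hFB⟩
    have hjjeq : Fm.jj Q = Fm.jj (P : Subgroup G) := by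
      unfold ZJFam.jj
      rw [hmxeq]
    have hjn : (Fm.jj (P : Subgroup G)).Normal := by
      rw [← hjjeq]
      refine ⟨fun x hx g => ?_⟩
      exact jj_conj (hNQ.ge (Subgroup.mem_top g)) hx
    apply hnot
    have htop : Subgroup.normalizer ((Fm.jj (P : Subgroup G) : Subgroup G) : Set G) = ⊤ :=
      Subgroup.normalizer_eq_top_iff.mpr hjn
    apply FC_top_iff.mp
    rw [← htop]
    exact hF₁
  · -- `X` centralizes `V₁`: the centre of `P` is central in `G`
    have hXV : X ≤ Subgroup.centralizer (V₁ : Set G) := by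
      rw [← hX₁]
      exact inf_le_right
    have hZQ : ∀ z ∈ zc (P : Subgroup G), z ∈ Q ∧ ∀ y ∈ Q, z * y = y * z := by
      intro z hz
      have h1 : z ∈ Subgroup.centralizer (Q : Set G) := by
        rw [Subgroup.mem_centralizer_iff]
        intro y hy
        exact (Subgroup.mem_centralizer_iff.mp hz.2) y (hQP hy)
      refine ⟨hcQ h1, fun y hy => ?_⟩
      exact ((Subgroup.mem_centralizer_iff.mp h1) y hy).symm
    -- the centre of `Q`
    let ZQ : Subgroup G := Q ⊓ Subgroup.centralizer (Q : Set G)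
    have hZQn : ZQ.Normal := by
      haveI : (Subgroup.centralizer (Q : Set G)).Normal := Subgroup.normal_centralizer
      haveI := hQn
      infer_instance
    have hC2 : C2 ZQ ⊥ := by
      refine ⟨fun c hc g _ => ?_, fun g hg h hh => ?_⟩
      · rw [Subgroup.mem_bot.mp hc, one_mul, mul_one]
      · rw [Subgroup.mem_bot, commutatorElement_eq_one_iff_mul_comm]
        exact (Subgroup.mem_centralizer_iff.mp hh.2) g hg.1
    have hZQp : IsPGroup p ZQ := hQp.to_le inf_le_left
    have hXcen : ∀ x ∈ X, ∀ z ∈ zc (P : Subgroup G), x * z = z * x := by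
      intro x hx z hz
      have hzZ : z ∈ ZQ := ⟨(hZQ z hz).1, Subgroup.mem_centralizer_iff.mpr (fun y hy =>
        ((hZQ z hz).2 y hy).symm)⟩
      have hmem : x ∈ Subgroup.centralizer ({z} : Set G) := by
        apply mem_of_parts (p := p)
        · intro y hy hyc
          have hyX : y ∈ X := (Subgroup.zpowers_le.mpr hx) hy
          have h1 := centralizes_of_omega hp2 hC2 hZQp (y := y) (fun u hu => hZQn.conj_mem u hu y) hyc
            (fun u hu hup => by
              have huV : u ∈ V₁ := ⟨hu.1, fun v hv => ((Subgroup.mem_centralizer_iff.mp hu.2) v hv).symm, hup⟩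
              have h2 := (Subgroup.mem_centralizer_iff.mp (hXV hyX)) u huV
              rw [← h2]
              group) z hzZ
          rw [Subgroup.mem_centralizer_singleton_iff]
          have h2 : y * z = z * y := by
            calc y * z = (y * z * y⁻¹) * y := by group
              _ = z * y := by rw [h1]
          exact h2
        · intro y hy k hk
          have hyX : y ∈ X := (Subgroup.zpowers_le.mpr hx) hy
          have hyQ : y ∈ Q := hXpel y hyX k hk
          rw [Subgroup.mem_centralizer_singleton_iff]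
          exact ((hZQ z hz).2 y hyQ).symm
      exact Subgroup.mem_centralizer_singleton_iff.mp hmem
    have htop : Subgroup.centralizer ((zc (P : Subgroup G) : Subgroup G) : Set G) = ⊤ := by
      rw [eq_top_iff]
      intro g _
      have hg : g ∈ X ⊔ (P : Subgroup G) := by
        rw [hXP]
        trivial
      obtain ⟨x, hx, u, hu, rfl⟩ := Subgroup.mem_sup_of_normal_left.mp hg
      rw [Subgroup.mem_centralizer_iff]
      intro z hz
      have h1 := hXcen x hx z hz
      have h2 : u * z = z * u := (Subgroup.mem_centralizer_iff.mp hz.2) u hu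
      calc z * (x * u) = (z * x) * u := by group
        _ = (x * z) * u := by rw [h1]
        _ = x * (z * u) := by group
        _ = x * (u * z) := by rw [h2]
        _ = x * u * z := by group
    apply hnot
    apply FC_top_iff.mp
    rw [← htop]
    exact hF₂

/-- Thompson's theorem in terms of the Frobenius condition. -/
theorem th_all (hp2 : p ≠ 2) : ∀ m : ℕ, ThStmt.{u} p m := by
  intro m
  induction m with
  | zero =>
    intro G _ _ h
    omega
  | succ m ih =>
    intro G _ _ h P hf1 hf2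
    refine th_step hp2 ?_ P hf1 hf2
    intro G' _ _ h' P' hf1' hf2'
    exact ih G' (by omega) P' hf1' hf2'

end Main

end Cfsg.Agent.H01.ZE
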